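import Cfsg.Agent.Lib.PushUp.OffBlock.Moved
import Cfsg.Prelude.Def_BaumannBlocks

/-!
# The blocks seen in an ambient group containing the module
-/

set_option autoImplicit false
open scoped commutatorElement

namespace Cfsg.Agent.OffBlock

open Cfsg Cfsg.Agent Cfsg.Agent.Fusion Cfsg.Agent.BestOff
open Cfsg.Agent.OffProd (cen off sub_mem_cen act_mem_fixed act_mem_cen fixed_anti cen_mono)

universe u v w z

/-- A module written additively, sitting in `G` as `V`, acted on through conjugation. -/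
structure Seen {G : Type u} [Group G] {Q : Type v} [Group Q] {P : Type w} [Group P] {X : Type z} [AddCommGroup X]
    (V : Subgroup G) (ι : Q →* G) (π : Q →* P) (φ : P →* AddMonoid.End X) (val : X → G) : Prop where
  inj : Function.Injective ι
  surj : Function.Surjective π
  val_inj : Function.Injective val
  val_add : ∀ a b, val (a + b) = val a * val b
  range : ∀ x, x ∈ V ↔ ∃ a, val a = x
  act : ∀ q a, val (φ (π q) a) = ι q * val a * (ι q)⁻¹

namespace Seen

variable {G : Type u} [Group G] {Q : Type v} [Group Q] {P : Type w} [Group P] {X : Type z} [AddCommGroup X]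
  {V : Subgroup G} {ι : Q →* G} {π : Q →* P} {φ : P →* AddMonoid.End X} {val : X → G}
variable (S : Seen V ι π φ val)

/-- The image in `G` of a subgroup of `P`. -/
def img (ι : Q →* G) (π : Q →* P) (E : Subgroup P) : Subgroup G := (E.comap π).map ι

theorem img_mono {E E' : Subgroup P} (h : E ≤ E') : img ι π E ≤ img ι π E' :=
  Subgroup.map_mono (Subgroup.comap_mono h)

include S

theorem val_zero : val 0 = 1 := by
  have h := S.val_add 0 0
  rw [add_zero] at h
  exact mul_eq_left.1 h.symm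

theorem val_neg (a : X) : val (-a) = (val a)⁻¹ := by
  refine eq_inv_of_mul_eq_one_left ?_
  rw [← S.val_add, neg_add_cancel, S.val_zero]

theorem val_sub (a b : X) : val (a - b) = val a * (val b)⁻¹ := by
  rw [sub_eq_add_neg, S.val_add, S.val_neg]

theorem val_mem (a : X) : val a ∈ V := (S.range _).2 ⟨a, rfl⟩

theorem act_eq (q : Q) (a : X) : φ (π q) a = a ↔ ι q * val a = val a * ι q := by
  rw [← mul_inv_eq_iff_eq_mul, ← S.act]
  exact ⟨congrArg val, fun e => S.val_inj e⟩

theorem disp (q : Q) (a : X) : val (φ (π q) a - a) = ⁅ι q, val a⁆ := by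
  rw [S.val_sub, S.act, commutatorElement_def]

theorem mem_fixed {E : Subgroup P} {a : X} :
    a ∈ fixed φ E ↔ val a ∈ V ⊓ Subgroup.centralizer ((img ι π E : Subgroup G) : Set G) := by
  rw [Subgroup.mem_inf, Subgroup.mem_centralizer_iff]
  constructor
  · refine fun ha => ⟨S.val_mem a, ?_⟩
    rintro _ ⟨q, hq, rfl⟩
    exact (S.act_eq q a).1 (ha _ hq)
  · intro ha e he
    obtain ⟨q, rfl⟩ := S.surj e
    exact (S.act_eq q a).2 (ha.2 _ ⟨q, he, rfl⟩)

theorem card_fixed (E : Subgroup P) :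
    Nat.card (fixed φ E) = Nat.card ↥(V ⊓ Subgroup.centralizer ((img ι π E : Subgroup G) : Set G)) :=
  Nat.card_congr (Equiv.ofBijective
    (fun a : fixed φ E => (⟨val a, S.mem_fixed.1 a.2⟩ : ↥(V ⊓ Subgroup.centralizer ((img ι π E : Subgroup G) : Set G))))
    ⟨fun a b e => Subtype.ext (S.val_inj (congrArg Subtype.val e)), fun ⟨x, hx⟩ => by
      obtain ⟨a, rfl⟩ := (S.range x).1 hx.1
      exact ⟨⟨a, S.mem_fixed.2 hx⟩, rfl⟩⟩)

theorem card_X : Nat.card X = Nat.card V :=
  Nat.card_congr (Equiv.ofBijective (fun a => (⟨val a, S.val_mem a⟩ : V))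
    ⟨fun a b e => S.val_inj (congrArg Subtype.val e), fun ⟨x, hx⟩ => by
      obtain ⟨a, rfl⟩ := (S.range x).1 hx
      exact ⟨a, rfl⟩⟩)

theorem val_comm_mem {E : Subgroup P} {a : X} (ha : a ∈ cen φ E) : val a ∈ ⁅V, img ι π E⁆ := by
  induction ha using AddSubgroup.closure_induction with
  | mem a ha =>
    obtain ⟨b, e, he, rfl⟩ := ha
    obtain ⟨q, rfl⟩ := S.surj e
    rw [S.disp, ← commutatorElement_inv]
    exact inv_mem (Subgroup.commutator_mem_commutator (S.val_mem b) ⟨q, he, rfl⟩)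
  | zero => rw [S.val_zero]; exact one_mem _
  | add a b _ _ ha hb => rw [S.val_add]; exact mul_mem ha hb
  | neg a _ ha => rw [S.val_neg]; exact inv_mem ha

theorem exists_of_mem_comm {E : Subgroup P} {x : G} (hx : x ∈ ⁅V, img ι π E⁆) :
    ∃ a ∈ cen φ E, val a = x := by
  have hle : ⁅V, img ι π E⁆ ≤
      { carrier := {x | ∃ a ∈ cen φ E, val a = x}
        one_mem' := ⟨0, zero_mem _, S.val_zero⟩
        mul_mem' := by
          rintro _ _ ⟨a, ha, rfl⟩ ⟨b, hb, rfl⟩
          exact ⟨a + b, add_mem ha hb, S.val_add a b⟩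
        inv_mem' := by
          rintro _ ⟨a, ha, rfl⟩
          exact ⟨-a, neg_mem ha, S.val_neg a⟩ : Subgroup G } := Subgroup.commutator_le.2 (by
    intro v hv g hg
    obtain ⟨a, rfl⟩ := (S.range v).1 hv
    obtain ⟨q, hq, rfl⟩ := hg
    refine ⟨-(φ (π q) a - a), neg_mem (sub_mem_cen φ hq a), ?_⟩
    rw [S.val_neg, S.disp, commutatorElement_inv])
  exact hle hx

/-- The commutators normalized by the image. -/
theorem img_le_normalizer [Finite G] {E : Subgroup P} :
    img ι π E ≤ Subgroup.normalizer ((⁅V, img ι π E⁆ : Subgroup G) : Set G) := fun g hg => by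
  refine mem_normalizer_of_cj_le ?_
  rintro _ ⟨x, hx, rfl⟩
  obtain ⟨a, ha, rfl⟩ := S.exists_of_mem_comm hx
  obtain ⟨q, hq, rfl⟩ := hg
  show ι q * val a * (ι q)⁻¹ ∈ _
  rw [← S.act]
  refine S.val_comm_mem ?_
  have := act_mem_cen φ (π q) ha
  rwa [cj_eq_self_of_mem (show π q ∈ E from hq)] at this

variable {T : Subgroup P} {p r : ℕ} {E : Fin r → Subgroup P} (D : Decomp φ p T E)
include D

theorem sum_top :
    (V ⊓ Subgroup.centralizer (((⨆ i, img ι π (E i)) : Subgroup G) : Set G)) ⊔ (⨆ i, ⁅V, img ι π (E i)⁆) = V := by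
  refine le_antisymm (sup_le inf_le_left (iSup_le fun i x hx => ?_)) fun x hx => ?_
  · obtain ⟨a, -, rfl⟩ := S.exists_of_mem_comm hx
    exact S.val_mem a
  set R := (V ⊓ Subgroup.centralizer (((⨆ i, img ι π (E i)) : Subgroup G) : Set G)) ⊔ (⨆ i, ⁅V, img ι π (E i)⁆)
  let U : AddSubgroup X :=
    { carrier := {a | val a ∈ R}
      zero_mem' := by show val 0 ∈ R; rw [S.val_zero]; exact one_mem R
      add_mem' := fun {a b} ha hb => by show val (a + b) ∈ R; rw [S.val_add]; exact mul_mem ha hb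
      neg_mem' := fun {a} ha => by show val (-a) ∈ R; rw [S.val_neg]; exact inv_mem ha }
  have h1 : fixed φ (⨆ i, E i) ⊔ (⨆ i, cen φ (E i)) ≤ U := by
    refine sup_le (fun a ha => Subgroup.mem_sup_left (Subgroup.mem_inf.2 ⟨S.val_mem a, ?_⟩))
      (iSup_le fun i a ha => Subgroup.mem_sup_right (le_iSup (fun i => ⁅V, img ι π (E i)⁆) i (S.val_comm_mem ha)))
    have hle : (⨆ i, img ι π (E i)) ≤ Subgroup.centralizer {val a} := iSup_le fun i g hg =>
      Subgroup.mem_centralizer_iff.2 fun y hy => by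
        rw [Set.mem_singleton_iff.1 hy]
        exact (Subgroup.mem_centralizer_iff.1 (S.mem_fixed.1 (fixed_anti φ (le_iSup E i) ha)).2 g hg).symm
    exact Subgroup.mem_centralizer_iff.2 fun g hg => (Subgroup.mem_centralizer_iff.1 (hle hg) _ rfl).symm
  obtain ⟨a, rfl⟩ := (S.range x).1 hx
  exact h1 (D.decomp.ge (AddSubgroup.mem_top a))

theorem comm_comm_eq_bot {i j : Fin r} (h : i ≠ j) : ⁅⁅V, img ι π (E i)⁆, img ι π (E j)⁆ = ⊥ := by
  rw [Subgroup.commutator_eq_bot_iff_le_centralizer]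
  intro x hx
  obtain ⟨a, ha, rfl⟩ := S.exists_of_mem_comm hx
  exact (S.mem_fixed.1 (D.cen_fix i j h ha)).2

theorem comm_le {i j : Fin r} (h : i ≠ j) : ⁅img ι π (E i), img ι π (E j)⁆ ≤ π.ker.map ι := by
  rw [img, img, ← Subgroup.map_commutator]
  refine Subgroup.map_mono (Subgroup.commutator_le.2 fun a ha b hb => ?_)
  rw [MonoidHom.mem_ker, map_commutatorElement, commutatorElement_eq_one_iff_commute]
  exact D.comm i j h _ ha _ hb

theorem disj_le (i : Fin r) : img ι π (E i) ⊓ (⨆ j ∈ {j | j ≠ i}, img ι π (E j)) ≤ π.ker.map ι := by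
  intro g hg
  obtain ⟨hgi, hgo⟩ := Subgroup.mem_inf.1 hg
  have hle : (⨆ j ∈ {j | j ≠ i}, img ι π (E j)) ≤ img ι π (⨆ j ∈ {j | j ≠ i}, E j) :=
    iSup₂_le fun j hj => img_mono (le_iSup₂_of_le (f := fun j (_ : j ∈ {j | j ≠ i}) => E j) j hj le_rfl)
  obtain ⟨a, ha, rfl⟩ := hgi
  obtain ⟨b, hb, e⟩ := hle hgo
  rw [S.inj e] at hb
  exact ⟨a, (D.disj i).le ⟨ha, hb⟩, rfl⟩

theorem conj_img {i j : Fin r} {t : Q} (e : cj (E i) (π t) = E j) :
    (img ι π (E i)).map (MulAut.conj (ι t)).toMonoidHom = img ι π (E j) := by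
  ext x
  constructor
  · rintro ⟨_, ⟨q, hq, rfl⟩, rfl⟩
    refine ⟨t * q * t⁻¹, ?_, by simp⟩
    rw [SetLike.mem_coe, Subgroup.mem_comap, ← e, map_mul, map_mul, map_inv]
    exact conj_mem_cj hq
  · rintro ⟨q, hq, rfl⟩
    refine ⟨ι (t⁻¹ * q * t), ⟨_, ?_, rfl⟩, by simp [mul_assoc]⟩
    rw [SetLike.mem_coe, Subgroup.mem_comap, ← e] at hq
    rw [SetLike.mem_coe, Subgroup.mem_comap, map_mul, map_mul, map_inv]
    exact mem_cj.1 hq

/-- The map from the image onto the block. -/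
theorem exists_onto (i : Fin r) : ∃ f : ↥(img ι π (E i)) →* E i, Function.Surjective f ∧
    (∀ g, f g = 1 ↔ (g : G) ∈ π.ker.map ι) ∧ ∀ (g : ↥(img ι π (E i))) a, val (φ (f g : P) a) = g * val a * (g : G)⁻¹ := by
  let e := ((E i).comap π).equivMapOfInjective ι S.inj
  let f := ((π.comp ((E i).comap π).subtype).codRestrict (E i) fun q => q.2).comp e.symm.toMonoidHom
  have hg : ∀ g : ↥(img ι π (E i)), ι (e.symm g : Q) = g := fun g => by
    conv_rhs => rw [← e.apply_symm_apply g]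
    rfl
  refine ⟨f, fun x => ?_, fun g => ⟨fun h => ⟨_, congrArg Subtype.val h, hg g⟩, ?_⟩, fun g a => ?_⟩
  · obtain ⟨q, hq⟩ := S.surj x
    refine ⟨e ⟨q, show π q ∈ E i by rw [hq]; exact x.2⟩, Subtype.ext ?_⟩
    show π (e.symm (e _) : Q) = x
    rw [e.symm_apply_apply]
    exact hq
  · rintro ⟨q, hq, h⟩
    refine Subtype.ext ?_
    show π (e.symm g : Q) = 1
    rw [← hg g] at h
    rw [← S.inj h]
    exact hq
  · show val (φ (π (e.symm g : Q)) a) = _
    rw [S.act, hg]

theorem natural [Finite G] (i : Fin r) : ∃ n : ℕ, 1 ≤ n ∧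
    ((∃ (F : Type) (_ : Field F) (_ : Fintype F), Fintype.card F = p ^ n ∧
      (∃ f : ↥(img ι π (E i)) →* Matrix.SpecialLinearGroup (Fin 2) F, Function.Surjective f ∧
        ∀ g, f g = 1 ↔ (g : G) ∈ π.ker.map ι) ∧
      Cfsg.ActsAsSL2OnSection F ⊤ (img ι π (E i)) ⁅V, img ι π (E i)⁆
        (⁅V, img ι π (E i)⁆ ⊓ Subgroup.centralizer ((img ι π (E i) : Subgroup G) : Set G))) ∨
    (p = 2 ∧ (∃ f : ↥(img ι π (E i)) →* Equiv.Perm (Fin (2 ^ n + 1)), Function.Surjective f ∧
        ∀ g, f g = 1 ↔ (g : G) ∈ π.ker.map ι) ∧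
      Cfsg.ActsAsOddPermModuleOnSection (2 ^ n + 1) ⊤ (img ι π (E i)) ⁅V, img ι π (E i)⁆
        (⁅V, img ι π (E i)⁆ ⊓ Subgroup.centralizer ((img ι π (E i) : Subgroup G) : Set G)))) := by
  classical
  obtain ⟨f, hf, hf1, hfact⟩ := S.exists_onto D i
  obtain ⟨n, hn, h⟩ := D.natural i
  choose back hback hbackv using fun u : ↥⁅V, img ι π (E i)⁆ => S.exists_of_mem_comm u.2
  have hback_mul : ∀ u u', back (u * u') = back u + back u' := fun u u' => S.val_inj (by
    rw [S.val_add, hbackv, hbackv, hbackv]; rfl)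
  have hback0 : ∀ {u}, back u ∈ fixed φ (E i) ↔
      (u : G) ∈ ⁅V, img ι π (E i)⁆ ⊓ Subgroup.centralizer ((img ι π (E i) : Subgroup G) : Set G) := fun {u} => by
    rw [S.mem_fixed, hbackv, Subgroup.mem_inf, Subgroup.mem_inf]
    exact ⟨fun h => ⟨u.2, h.2⟩, fun h => ⟨hbackv u ▸ S.val_mem _, h.2⟩⟩
  have hmove : ∀ (g : ↥(img ι π (E i))) (u : ↥⁅V, img ι π (E i)⁆),
      ∃ w : ↥⁅V, img ι π (E i)⁆, (w : G) = g * u * (g : G)⁻¹ ∧ back w = φ (f g : P) (back u) := fun g u => by
    refine ⟨⟨g * u * (g : G)⁻¹, (Subgroup.mem_normalizer_iff.1 (S.img_le_normalizer g.2) _).1 u.2⟩, rfl,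
      S.val_inj ?_⟩
    rw [hbackv, hfact, hbackv]
  refine ⟨n, hn, ?_⟩
  rcases h with ⟨F, _, _, hF, R, ψ, hψ0, hψs, hact⟩ | ⟨hp2, R, ψ, hψe, hψs, hψ0, hact⟩
  · refine Or.inl ⟨F, inferInstance, inferInstance, hF, ⟨R.toMonoidHom.comp f, R.surjective.comp hf, fun g => ?_⟩,
      S.img_le_normalizer, inf_le_left, R.toMonoidHom.comp f,
      MonoidHom.mk' (fun u => Multiplicative.ofAdd (ψ (back u))) fun u u' => by rw [hback_mul, map_add]; rfl,
      MonoidHom.range_eq_top.2 (R.surjective.comp hf), fun w => ?_, fun u => ?_, fun g u => ?_⟩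
    · exact ⟨fun h => (hf1 g).1 (R.injective (h.trans (map_one R).symm)), fun h => by
        show R (f g) = 1
        rw [(hf1 g).2 h, map_one]⟩
    · obtain ⟨a, ha, hw⟩ := hψs (Multiplicative.toAdd w)
      refine ⟨⟨val a, S.val_comm_mem ha⟩, Multiplicative.toAdd.injective ?_⟩
      show ψ (back _) = _
      rw [show back ⟨val a, S.val_comm_mem ha⟩ = a from S.val_inj (hbackv _), hw]
    · rw [← hback0, ← hψ0]
      exact ⟨fun h => congrArg Multiplicative.toAdd h, fun h => congrArg Multiplicative.ofAdd h⟩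
    · obtain ⟨w, hw, hwb⟩ := hmove g u
      refine ⟨w, hw, ?_⟩
      show ψ (back w) = _
      rw [hwb, hact]
      rfl
  · refine Or.inr ⟨hp2, ⟨R.toMonoidHom.comp f, R.surjective.comp hf, fun g => ?_⟩,
      S.img_le_normalizer, inf_le_left, R.toMonoidHom.comp f,
      MonoidHom.mk' (fun u => Multiplicative.ofAdd (ψ (back u))) fun u u' => by rw [hback_mul, map_add]; rfl,
      MonoidHom.range_eq_top.2 (R.surjective.comp hf), fun u => hψe _, fun w hw => ?_, fun u => ?_, fun g u => ?_⟩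
    · exact ⟨fun h => (hf1 g).1 (R.injective (h.trans (map_one R).symm)), fun h => by
        show R (f g) = 1
        rw [(hf1 g).2 h, map_one]⟩
    · obtain ⟨a, ha, ha'⟩ := hψs w hw
      refine ⟨⟨val a, S.val_comm_mem ha⟩, ?_⟩
      show ψ (back _) = _
      rw [show back ⟨val a, S.val_comm_mem ha⟩ = a from S.val_inj (hbackv _), ha']
    · rw [← hback0, ← hψ0]
      exact ⟨fun h => congrArg Multiplicative.toAdd h, fun h => congrArg Multiplicative.ofAdd h⟩
    · obtain ⟨w, hw, hwb⟩ := hmove g u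
      refine ⟨w, hw, fun j => ?_⟩
      show ψ (back w) j = _
      rw [hwb, hact]
      rfl

end Seen

section Setting

variable {G : Type u} [Group G]

/-- A normalizing subgroup acting on an abelian subgroup. -/
theorem exists_seen (V : Subgroup G) (hV : IsMulCommutative V) {Q : Type v} [Group Q] {P : Type w} [Group P]
    (ι : Q →* G) (π : Q →* P) (hι : Function.Injective ι) (hπ : Function.Surjective π)
    (hN : ∀ q, ι q ∈ Subgroup.normalizer (V : Set G))
    (hker : ∀ q, π q = 1 → ι q ∈ Subgroup.centralizer (V : Set G)) :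
    ∃ (X : Type u) (_ : AddCommGroup X) (φ : P →* AddMonoid.End X) (val : X → G), Seen V ι π φ val := by
  classical
  letI : CommGroup V := { (inferInstance : Group V) with mul_comm := fun a b => hV.1.comm a b }
  have hmem : ∀ (q : Q) (v : V), ι q * v * (ι q)⁻¹ ∈ V := fun q v =>
    (Subgroup.mem_normalizer_iff.1 (hN q) _).1 v.2
  let ρ : Q →* AddMonoid.End (Additive V) :=
    { toFun := fun q => MonoidHom.toAdditive (MonoidHom.mk' (fun v : V => (⟨ι q * v * (ι q)⁻¹, hmem q v⟩ : V))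
        fun a b => Subtype.ext (by show ι q * ((a : G) * b) * (ι q)⁻¹ = _ * _; group))
      map_one' := AddMonoidHom.ext fun v => Additive.toMul.injective (Subtype.ext (by
        show ι 1 * ((Additive.toMul v : V) : G) * (ι 1)⁻¹ = _
        rw [map_one, one_mul, inv_one, mul_one]; rfl))
      map_mul' := fun g h => AddMonoidHom.ext fun v => Additive.toMul.injective (Subtype.ext (by
        show ι (g * h) * ((Additive.toMul v : V) : G) * (ι (g * h))⁻¹ =
          ι g * (ι h * ((Additive.toMul v : V) : G) * (ι h)⁻¹) * (ι g)⁻¹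
        rw [map_mul]; group)) }
  have hρ : ∀ a b, π a = π b → ρ a = ρ b := fun a b e => by
    have h1 : π (a⁻¹ * b) = 1 := by rw [map_mul, map_inv, e, inv_mul_cancel]
    have h2 : ρ (a⁻¹ * b) = 1 := AddMonoidHom.ext fun v => Additive.toMul.injective (Subtype.ext (by
      show ι (a⁻¹ * b) * ((Additive.toMul v : V) : G) * (ι (a⁻¹ * b))⁻¹ = ((Additive.toMul v : V) : G)
      rw [mul_inv_eq_iff_eq_mul]
      exact (Subgroup.mem_centralizer_iff.1 (hker _ h1) _ (Additive.toMul v).2).symm))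
    calc ρ a = ρ a * ρ (a⁻¹ * b) := by rw [h2, mul_one]
      _ = ρ b := by rw [← map_mul, mul_inv_cancel_left]
  choose sec hsec using hπ
  refine ⟨Additive V, inferInstance,
    { toFun := fun x => ρ (sec x)
      map_one' := by rw [hρ _ 1 (by rw [hsec, map_one]), map_one]
      map_mul' := fun x y => by rw [← map_mul]; exact hρ _ _ (by rw [hsec, map_mul, hsec, hsec]) },
    fun a => ((Additive.toMul a : V) : G), hι, fun x => ⟨sec x, hsec x⟩,
    fun a b e => Additive.toMul.injective (Subtype.ext e), fun a b => rfl,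
    fun x => ⟨fun hx => ⟨Additive.ofMul ⟨x, hx⟩, rfl⟩, fun ⟨a, e⟩ => e ▸ (Additive.toMul a).2⟩, fun q a => ?_⟩
  show ((Additive.toMul (ρ (sec (π q)) a) : V) : G) = _
  rw [hρ _ q (hsec _)]
  rfl

end Setting

end Cfsg.Agent.OffBlock
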