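import Cfsg.Agent.Lib.PushUp.OffProd.Line

/-!
# Best offenders of a group with a unique maximal subgroup over a Sylow subgroup, any prime

The members are the minimal abelian subgroups among those with the largest `|B| |C_X(B)|`; they act quadratically.
-/

set_option autoImplicit false

namespace Cfsg.Agent.OffBlock

open Cfsg Cfsg.Agent Cfsg.Agent.Fusion Cfsg.Agent.BestOff
open Cfsg.Agent.OffProd (cen off cjS stab sub_mem_cen act_mem_fixed act_mem_cen fixed_anti cen_mono off_eq_meas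
  off_bot card_fixed_cj off_cj cjS_one cjS_cjS ncard_cjS mem_cjS mem_stab cj_mem_of_stab mem_stab_of_maps
  le_normalizer_sSup stab_cjS)

universe u v

variable {P : Type u} [Group P] {X : Type v} [AddCommGroup X] (φ : P →* AddMonoid.End X) {p : ℕ}

variable (p) in
/-- A minimal best offender. -/
structure Mem (B : Subgroup P) : Prop where
  ne : B ≠ ⊥
  isP : IsPGroup p B
  comm : ∀ a ∈ B, ∀ b ∈ B, Commute a b
  le_off : Nat.card X ≤ off φ B
  best : ∀ B' : Subgroup P, IsPGroup p B' → (∀ a ∈ B', ∀ b ∈ B', Commute a b) → off φ B' ≤ off φ B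
  min : ∀ B₀ ≤ B, B₀ ≠ ⊥ → B₀ ≠ B → off φ B₀ < off φ B

variable (p) in
/-- The members inside `T`. -/
def mems (T : Subgroup P) : Set (Subgroup P) := {B | Mem φ p B ∧ B ≤ T}

variable {φ}

theorem Mem.cj {B : Subgroup P} (h : Mem φ p B) (g : P) : Mem φ p (cj B g) where
  ne := fun e => h.ne (by rw [← cj_cj_inv B g, e, cj_bot])
  isP := isPGroup_cj h.isP g
  comm := fun a ha b hb => by
    have := (h.comm _ (mem_cj.1 ha) _ (mem_cj.1 hb)).map (MulAut.conj g).toMonoidHom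
    simpa [mul_assoc] using this
  le_off := (off_cj φ B g).symm ▸ h.le_off
  best := fun B' h1 h2 => (off_cj φ B g).symm ▸ h.best B' h1 h2
  min := fun B₀ hB₀ hne hne' => by
    rw [← cj_inv_cj B₀ g, off_cj, off_cj φ B g]
    refine h.min _ (by rw [cj_le_iff, inv_inv]; exact hB₀) (fun e => hne ?_) fun e => hne' ?_
    · rw [← cj_inv_cj B₀ g, e, cj_bot]
    · rw [← cj_inv_cj B₀ g, e]

theorem mems_cj' (φ : P →* AddMonoid.End X) (T : Subgroup P) (g : P) :
    mems φ p (Fusion.cj T g) = cjS g (mems φ p T) := by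
  ext B
  rw [mem_cjS]
  constructor
  · exact fun hB => ⟨hB.1.cj g⁻¹, by rw [cj_le_iff, inv_inv]; exact hB.2⟩
  · exact fun hB => ⟨by simpa only [cj_inv_cj] using hB.1.cj g,
      by simpa only [cj_inv_cj] using cj_mono hB.2 g⟩

theorem mem_stab_mems_of_normalizer {T : Subgroup P} {g : P}
    (hg : g ∈ Subgroup.normalizer (T : Set P)) : g ∈ stab (mems φ p T) := by
  rw [mem_stab, ← mems_cj', cj_eq_self hg]

theorem le_stab_mems (T : Subgroup P) : T ≤ stab (mems φ p T) :=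
  fun _ hg => mem_stab_mems_of_normalizer (Subgroup.le_normalizer hg)

theorem isPGroup_sSup {T : Subgroup P} {R : Set (Subgroup P)} (hT : IsPGroup p T) (h : ∀ B ∈ R, B ≤ T) :
    IsPGroup p (sSup R : Subgroup P) := hT.to_le (sSup_le h)

section Finite

variable [Finite P] [Finite X] [hp : Fact p.Prime]

/-- An offender yields a member. -/
theorem exists_mem {A : Subgroup P} (hne : A ≠ ⊥) (hA : IsPGroup p A) (hc : ∀ a ∈ A, ∀ b ∈ A, Commute a b)
    (hoff : Nat.card X ≤ off φ A) : ∃ D : Subgroup P, Mem φ p D := by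
  classical
  set s : Set (Subgroup P) := {B | B ≠ ⊥ ∧ IsPGroup p B ∧ ∀ a ∈ B, ∀ b ∈ B, Commute a b}
  obtain ⟨B, hB, hmax⟩ := Set.exists_max_image s (fun B => off φ B) (Set.toFinite s) ⟨A, hne, hA, hc⟩
  obtain ⟨D, hD, hmin⟩ := Set.exists_min_image {D | D ∈ s ∧ off φ B ≤ off φ D} (fun D => Nat.card D)
    (Set.toFinite _) ⟨B, hB, le_rfl⟩
  have hle : Nat.card X ≤ off φ D := (hoff.trans (hmax A ⟨hne, hA, hc⟩)).trans hD.2
  refine ⟨D, hD.1.1, hD.1.2.1, hD.1.2.2, hle, fun B' h1 h2 => ?_, fun D₀ h0 hne0 hne' => ?_⟩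
  · by_cases h : B' = ⊥
    · rw [h, off_bot]; exact hle
    · exact (hmax B' ⟨h, h1, h2⟩).trans hD.2
  · have hmem : D₀ ∈ s := ⟨hne0, hD.1.2.1.to_le h0, fun a ha b hb => hD.1.2.2 a (h0 ha) b (h0 hb)⟩
    by_contra hcon
    exact hne' (Subgroup.eq_of_le_of_card_ge h0 (hmin D₀ ⟨hmem, hD.2.trans (not_lt.1 hcon)⟩))

variable (hexp : ∀ v : X, p • v = 0) (hfaith : ∀ g, (∀ v, φ g v = v) → g = 1)
include hexp hfaith

/-- Members act quadratically. -/
theorem Mem.quad {B : Subgroup P} (h : Mem φ p B) : ∀ b ∈ B, ∀ v, φ b v - v ∈ fixed φ B := by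
  classical
  have hbest : PGV.IsBest φ B := fun B₀ h0 => by
    rw [← off_eq_meas, ← off_eq_meas]
    exact h.best B₀ (h.isP.to_le h0) fun a ha b hb => h.comm a (h0 ha) b (h0 hb)
  obtain ⟨hm, hW⟩ := hbest.replacement φ h.comm
  suffices hq : PGV.quadPart φ B = B by
    intro b hb v c hc
    exact (hq.ge hc).2 _ (AddSubgroup.subset_closure ⟨v, trivial, b, hb, rfl⟩)
  by_contra hne
  have hbot : PGV.quadPart φ B = ⊥ := by
    by_contra hb
    have := h.min (PGV.quadPart φ B) inf_le_left hb hne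
    rw [off_eq_meas, hm, ← off_eq_meas] at this
    exact lt_irrefl _ this
  -- commutators with a unipotent abelian group do not cover the module
  have htop : PGV.commSpan φ B Set.univ ⊔ PGV.fixSet φ (B : Set P) = ⊤ := by
    rw [← hW, hbot, eq_top_iff]
    intro v _ s hs
    rw [Subgroup.mem_bot.1 hs, map_one]; rfl
  have := Fintype.ofFinite P
  set J := PGV.commSpan φ B Set.univ
  let s : Finset (AddMonoid.End X) := (Finset.univ.filter fun g : P => g ∈ B).image fun g => φ g - 1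
  have hs : ∀ f ∈ s, ∃ a ∈ B, φ a - 1 = f := fun f hf => by
    obtain ⟨a, ha, rfl⟩ := Finset.mem_image.1 hf
    exact ⟨a, (Finset.mem_filter.1 ha).2, rfl⟩
  have hmem : ∀ a ∈ B, ∀ v, φ a v - v ∈ J := fun a ha v =>
    AddSubgroup.subset_closure ⟨v, trivial, a, ha, rfl⟩
  obtain ⟨m, hm'⟩ := IsPGroup.iff_card.1 h.isP
  have hJ0 : J = ⊥ := by
    refine PGV.eq_bot_of_le_iSup_map (k := p ^ m) s J ?_ ?_ ?_ ?_
    · intro f hf
      obtain ⟨a, ha, rfl⟩ := hs f hf
      rcases subsingleton_or_nontrivial X with hss | hss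
      · exact AddMonoidHom.ext fun v => Subsingleton.elim _ _
      haveI := PGV.end_charP (p := p) hexp
      rw [sub_pow_char_pow_of_commute (p := p) (n := m) (Commute.one_right (φ a)), one_pow, ← map_pow]
      have : a ^ p ^ m = 1 := by
        rw [← hm']
        exact congrArg Subtype.val (pow_card_eq_one' (x := (⟨a, ha⟩ : B)))
      rw [this, map_one, sub_self]
    · intro f hf g hg
      obtain ⟨a, ha, rfl⟩ := hs f hf
      obtain ⟨b, hb, rfl⟩ := hs g hg
      exact ((Commute.map (h.comm a ha b hb) φ).sub_left (Commute.one_left _)).sub_right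
        ((Commute.one_right _).sub_left (Commute.one_left _))
    · intro f hf
      obtain ⟨a, ha, rfl⟩ := hs f hf
      rintro _ ⟨w, -, rfl⟩
      exact hmem a ha w
    · refine (AddSubgroup.closure_le _).2 ?_
      rintro _ ⟨v, -, a, ha, rfl⟩
      obtain ⟨x, hx, y, hy, rfl⟩ := AddSubgroup.mem_sup.1 (htop.ge (AddSubgroup.mem_top v))
      refine (le_iSup₂_of_le (f := fun f _ => J.map (f : X →+ X)) ((φ a - 1 : AddMonoid.End X))
        (Finset.mem_image.2 ⟨a, Finset.mem_filter.2 ⟨Finset.mem_univ _, ha⟩, rfl⟩) le_rfl) ⟨x, hx, ?_⟩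
      show φ a x - x = φ a (x + y) - (x + y)
      rw [map_add, hy a ha]; abel
  refine h.ne (eq_bot_iff.2 fun a ha => Subgroup.mem_bot.2 (hfaith a fun v => ?_))
  have := hmem a ha v
  rwa [hJ0, AddSubgroup.mem_bot, sub_eq_zero] at this

theorem Mem.cen_le_fixed {B : Subgroup P} (h : Mem φ p B) : cen φ B ≤ fixed φ B :=
  (AddSubgroup.closure_le _).2 (by rintro _ ⟨v, b, hb, rfl⟩; exact h.quad hexp hfaith b hb v)

end Finite

/-! ### The setting -/

variable (φ p)

/-- A faithful module for a group with `O_p = 1` whose Sylow subgroup lies in a unique maximal subgroup `M`, where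
everything outside `M` moves the fixed vectors of the Sylow subgroup. -/
structure Ctx (M : Subgroup P) : Prop where
  exp : ∀ v : X, p • v = 0
  faithful : ∀ g, (∀ v, φ g v = v) → g = 1
  M_ne : M ≠ ⊤
  exT : ∃ T, SylIn p T ⊤ ∧ T ≤ M ∧ T ≠ ⊥
  core : pCore p P = ⊥
  uniq : ∀ T, SylIn p T ⊤ → T ≤ M → ∀ H, T ≤ H → H ≠ ⊤ → H ≤ M
  moved : ∀ T, SylIn p T ⊤ → T ≤ M → ∀ g, g ∉ M → ∃ z ∈ fixed φ T, φ g z ≠ z

/-- A maximal set `R` of members common to two conjugates of `M`, seen in a Sylow subgroup `T` of `M`. -/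
structure Frame (M T : Subgroup P) (R : Set (Subgroup P)) : Prop where
  syl : SylIn p T ⊤
  le_M : T ≤ M
  sub : R ⊆ mems φ p T
  out : ∃ n ∈ stab R, n ∉ M
  sylN : SylIn p (T ⊓ stab R) (stab R)
  exC : ∃ C ∈ mems φ p T, C ∉ R ∧ C ≤ stab R
  le_stab : ∀ B ∈ R, B ≤ stab R
  max : ∀ T₁ T₂, SylIn p T₁ ⊤ → SylIn p T₂ ⊤ → T₁ ≤ M → ∀ g, g ∉ M → T₂ ≤ cj M g →
    (mems φ p T₁ ∩ mems φ p T₂).ncard ≤ R.ncard

variable {φ p} {M : Subgroup P}
variable [Finite P] [hp : Fact p.Prime]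

namespace Ctx

variable (K : Ctx φ p M)
include K

theorem syl_ne {T : Subgroup P} (hT : SylIn p T ⊤) : T ≠ ⊥ := by
  obtain ⟨T₀, h0, -, hne⟩ := K.exT
  obtain ⟨x, -, rfl⟩ := h0.conj_eq hT
  exact fun e => hne (by rw [← cj_cj_inv T₀ x, e, cj_bot])

theorem eq_bot_of_normal {N : Subgroup P} (hn : Subgroup.normalizer (N : Set P) = ⊤) (hN : IsPGroup p N) :
    N = ⊥ := by
  haveI := Subgroup.normalizer_eq_top_iff.1 hn
  exact le_bot_iff.1 (K.core ▸ le_sSup ⟨inferInstance, hN⟩)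

theorem M_self : Subgroup.normalizer (M : Set P) ≤ M := by
  obtain ⟨T, hT, hTM, hne⟩ := K.exT
  refine K.uniq T hT hTM _ (hTM.trans Subgroup.le_normalizer) fun htop => ?_
  refine K.M_ne (top_le_iff.1 fun g _ => ?_)
  obtain ⟨n, hn, hng⟩ := frattini_conj (hT.mono hTM le_top) (H := ⊤) htop.ge (Subgroup.mem_top g)
  have hNT : Subgroup.normalizer (T : Set P) ≤ M :=
    K.uniq T hT hTM _ Subgroup.le_normalizer fun h => hne (K.eq_bot_of_normal h hT.isPGroup)
  simpa using mul_mem (inv_mem hn) (hNT hng)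

theorem mem_of_syl {T : Subgroup P} (hT : SylIn p T ⊤) (h1 : T ≤ M) {g : P} (h2 : T ≤ cj M g) : g ∈ M := by
  have h3 : cj M g ≤ M := K.uniq T hT h1 _ h2 fun e => K.M_ne (by
    rw [← cj_cj_inv M g, e]; exact cj_of_normal _ _)
  exact K.M_self (mem_normalizer_of_cj_le h3)

theorem syl_of_sylIn {T : Subgroup P} (hT : SylIn p T M) : SylIn p T ⊤ := by
  obtain ⟨T₀, h0, hle, -⟩ := K.exT
  obtain ⟨x, -, rfl⟩ := (h0.mono hle le_top).conj_eq hT
  exact h0.cj' (by rw [Subgroup.normalizer_eq_top]; trivial)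

theorem exists_le_cj {T : Subgroup P} (hT : SylIn p T ⊤) : ∃ g, T ≤ cj M g := by
  obtain ⟨T₀, h0, hle, -⟩ := K.exT
  obtain ⟨x, -, rfl⟩ := h0.conj_eq hT
  exact ⟨x, cj_mono hle x⟩

theorem exists_syl_ge {Q : Subgroup P} (hQ : IsPGroup p Q) {g : P} (hQM : Q ≤ cj M g) :
    ∃ T, SylIn p T ⊤ ∧ T ≤ cj M g ∧ Q ≤ T := by
  obtain ⟨T, hT, hQT⟩ := exists_sylIn_ge (isPGroup_cj hQ g⁻¹) (H := M)
    (by rw [cj_le_iff, inv_inv]; exact hQM)
  refine ⟨cj T g, (K.syl_of_sylIn hT).cj' (by rw [Subgroup.normalizer_eq_top]; trivial), cj_mono hT.le g, ?_⟩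
  simpa only [cj_inv_cj] using cj_mono hQT g

theorem sylIn_cj {T : Subgroup P} (hT : SylIn p T ⊤) (g : P) : SylIn p (cj T g) ⊤ :=
  hT.cj' (by rw [Subgroup.normalizer_eq_top]; trivial)

theorem eq_top_of_stab {R : Set (Subgroup P)} {T : Subgroup P} (hT : SylIn p T ⊤) (hTM : T ≤ M)
    (hTR : T ≤ stab R) {n : P} (hn : n ∈ stab R) (hnM : n ∉ M) (hR : ∀ B ∈ R, B ≤ T) :
    ∀ B ∈ R, B = ⊥ := by
  have htop : stab R = ⊤ := by
    by_contra h
    exact hnM (K.uniq T hT hTM _ hTR h hn)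
  have := K.eq_bot_of_normal (top_le_iff.1 (htop.ge.trans le_normalizer_sSup))
    (OffProd.isPGroup_sSup hT.isPGroup hR)
  exact fun B hB => le_bot_iff.1 (this ▸ le_sSup hB)

end Ctx

end Cfsg.Agent.OffBlock
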