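import Cfsg.Agent.Lib.PushUp.OffBlock.Global

/-!
# The natural `SL₂` of each member and its elements without new fixed vectors
-/

set_option autoImplicit false

namespace Cfsg.Agent.OffBlock

open Cfsg Cfsg.Agent Cfsg.Agent.Fusion Cfsg.Agent.BestOff
open Cfsg.Agent.OffProd (cen off cjS stab sub_mem_cen act_mem_fixed act_mem_cen fixed_anti cen_mono off_eq_meas
  off_bot card_fixed_cj off_cj cjS_one cjS_cjS ncard_cjS mem_cjS mem_stab cj_mem_of_stab mem_stab_of_maps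
  le_normalizer_sSup stab_cjS kerN kerN_le_M stab_le_normalizer_kerN)

universe u v

variable {P : Type u} [Group P] {X : Type v} [AddCommGroup X] (φ : P →* AddMonoid.End X) {p : ℕ}

/-- `[X, x]`. -/
def plane (x : P) : AddSubgroup X where
  carrier := {w | ∃ v, φ x v - v = w}
  zero_mem' := ⟨0, by simp⟩
  add_mem' := by
    rintro _ _ ⟨v, rfl⟩ ⟨w, rfl⟩
    exact ⟨v + w, by rw [map_add]; abel⟩
  neg_mem' := by
    rintro _ ⟨v, rfl⟩
    exact ⟨-v, by rw [map_neg]; abel⟩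

theorem mem_plane {x : P} {w : X} : w ∈ plane φ x ↔ ∃ v, φ x v - v = w := Iff.rfl

theorem sub_mem_plane (x : P) (v : X) : φ x v - v ∈ plane φ x := ⟨v, rfl⟩

theorem act_mem_plane {g x : P} (h : Commute g x) {w : X} (hw : w ∈ plane φ x) : φ g w ∈ plane φ x := by
  obtain ⟨v, rfl⟩ := (mem_plane φ).1 hw
  exact ⟨φ g v, show φ x (φ g v) - φ g v = φ g (φ x v - v) by rw [map_sub, ← act_mul, ← act_mul, h.eq]⟩

theorem plane_le_cen {H : Subgroup P} {x : P} (hx : x ∈ H) : plane φ x ≤ cen φ H := by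
  rintro w hw
  obtain ⟨v, rfl⟩ := (mem_plane φ).1 hw
  exact sub_mem_cen φ hx v

variable (p) in
/-- An element of `H` of order prime to `p` fixing no more than `H`. -/
structure Rot (H : Subgroup P) (x : P) : Prop where
  mem : x ∈ H
  pow : ∃ m : ℕ, m.Coprime p ∧ x ^ m = 1
  fix : ∀ v, φ x v = v → v ∈ fixed φ H

variable {φ}

theorem eq_zero_of_move {x : P} {m : ℕ} (hp : p.Prime) (hexp : ∀ v : X, p • v = 0) (hm : m.Coprime p)
    (hx : x ^ m = 1) {w : X} (h : φ x (φ x w - w) = φ x w - w) : φ x w = w := by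
  have h1 : ∀ n : ℕ, φ (x ^ n) w = w + n • (φ x w - w) := by
    intro n
    induction n with
    | zero => rw [pow_zero, act_one, zero_smul, add_zero]
    | succ n ih =>
      rw [pow_succ', act_mul, ih, map_add, map_nsmul, h, succ_nsmul]
      abel
  have h2 := h1 m
  rw [hx, act_one, left_eq_add] at h2
  have hd : addOrderOf (φ x w - w) ∣ Nat.gcd m p :=
    Nat.dvd_gcd (addOrderOf_dvd_iff_nsmul_eq_zero.2 h2) (addOrderOf_dvd_iff_nsmul_eq_zero.2 (hexp _))
  rw [hm.gcd_eq_one] at hd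
  exact sub_eq_zero.1 (AddMonoid.addOrderOf_eq_one_iff.1 (Nat.dvd_one.1 hd))

theorem plane_disjoint {x : P} {m : ℕ} (hp : p.Prime) (hexp : ∀ v : X, p • v = 0) (hm : m.Coprime p)
    (hx : x ^ m = 1) {u : X} (hu : u ∈ plane φ x) (hfix : φ x u = u) : u = 0 := by
  obtain ⟨w, rfl⟩ := (mem_plane φ).1 hu
  rw [eq_zero_of_move hp hexp hm hx hfix, sub_self]

theorem plane_split [Finite X] {x : P} {m : ℕ} (hp : p.Prime) (hexp : ∀ v : X, p • v = 0) (hm : m.Coprime p)
    (hx : x ^ m = 1) (v : X) : ∃ u ∈ plane φ x, φ x (v - u) = v - u := by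
  let f : plane φ x → plane φ x := fun u => ⟨φ x u - u, sub_mem_plane φ x u⟩
  have hinj : Function.Injective f := fun a b e => Subtype.ext (sub_eq_zero.1
    (plane_disjoint hp hexp hm hx (sub_mem a.2 b.2) (by
      have e' : φ x (a : X) - a = φ x (b : X) - b := congrArg Subtype.val e
      rw [map_sub, sub_eq_sub_iff_sub_eq_sub.1 e'])))
  obtain ⟨u, hu⟩ := (Finite.injective_iff_surjective.1 hinj) ⟨_, sub_mem_plane φ x v⟩
  refine ⟨u, u.2, ?_⟩
  have e : φ x (u : X) - u = φ x v - v := congrArg Subtype.val hu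
  rw [map_sub, sub_eq_sub_iff_sub_eq_sub.1 e.symm]

namespace Rot

variable {H : Subgroup P} {x : P} (r : Rot φ p H x) [hp : Fact p.Prime] (hexp : ∀ v : X, p • v = 0)
include r hexp

theorem split [Finite X] (v : X) : ∃ u ∈ plane φ x, v - u ∈ fixed φ H := by
  obtain ⟨m, hm, hx⟩ := r.pow
  obtain ⟨u, hu, h⟩ := plane_split hp.out hexp hm hx v
  exact ⟨u, hu, r.fix _ h⟩

theorem eq_zero {u : X} (hu : u ∈ plane φ x) (h : u ∈ fixed φ H) : u = 0 := by
  obtain ⟨m, hm, hx⟩ := r.pow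
  exact plane_disjoint hp.out hexp hm hx hu (h x r.mem)

end Rot

variable [Finite P] [Finite X] [hp : Fact p.Prime] {M T : Subgroup P}

/-- What fixes one point off `M` and commutes with the class fixes all. -/
theorem Frame.kerN_of_point {R : Set (Subgroup P)} (F : Frame φ p M T R) (K : Ctx φ p M) {C : Subgroup P}
    (hC : Cl φ p M R C 1) {y : P} (hyM : y ∈ M) (hys : y ∈ stab R) (hyC : ∀ c ∈ C, Commute y c) {h : P}
    (hh : h ∈ stab R) (hhM : h ∉ M) (hy : h⁻¹ * y * h ∈ M) : y ∈ kerN M R := by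
  refine ⟨hys, fun g hg => ?_⟩
  rcases F.class_cases K hC hh hhM hg with hgM | ⟨d, hd, hdg⟩
  · exact mul_mem (mul_mem (M.inv_mem hgM) hyM) hgM
  · have e2 : g⁻¹ * y * g = ((d * h)⁻¹ * g)⁻¹ * (h⁻¹ * (d⁻¹ * (y * d)) * h) * ((d * h)⁻¹ * g) := by
      group
    rw [e2, (hyC d hd).eq, inv_mul_cancel_left]
    exact mul_mem (mul_mem (M.inv_mem hdg) hy) hdg

/-- An element of order prime to `p` of `M` commuting with the class fixes all the points. -/
theorem Frame.rot_kerN {R : Set (Subgroup P)} (F : Frame φ p M T R) (K : Ctx φ p M) {C : Subgroup P}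
    (hC : Cl φ p M R C 1) {x : P} {m : ℕ} (hm : m.Coprime p) (hxm : x ^ m = 1) (hxM : x ∈ M) (hxs : x ∈ stab R)
    (hxC : ∀ c ∈ C, Commute x c) : x ∈ kerN M R := by
  obtain ⟨h, hh, hhM⟩ := F.out
  have hxh : x * h ∉ M := fun e => hhM (by simpa using mul_mem (inv_mem hxM) e)
  obtain ⟨c, hc, hcx⟩ := (F.class_cases K hC hh hhM (mul_mem hxs hh)).resolve_left hxh
  have hcM : c ∈ M := by
    have := hC.le_cj hc
    rwa [cj_one] at this
  have hy : c⁻¹ * x ∈ kerN M R := F.kerN_of_point K hC (mul_mem (M.inv_mem hcM) hxM)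
    (mul_mem ((stab R).inv_mem (hC.le_stab hc)) hxs)
    (fun d hd => ((hC.mem.comm c hc d hd).inv_left).mul_left (hxC d hd)) hh hhM
    (by simpa [mul_assoc] using hcx)
  have hpow : (c⁻¹ * x) ^ m = (c ^ m)⁻¹ := by
    rw [(((hxC c hc).symm).inv_left).mul_pow, hxm, mul_one, inv_pow]
  have h1 : c ^ m = 1 := by
    have h2 : (c ^ m)⁻¹ ∈ kerN M R := hpow ▸ pow_mem hy m
    have h3 : c ^ m ∈ kerN M R := by simpa using inv_mem h2
    exact F.tc K hC hh (by simpa using hhM) (pow_mem hc m) (mem_cj.2 (h3.2 h hh))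
  have h2 : orderOf c = 1 := by
    obtain ⟨k, hk⟩ := hC.mem.isP ⟨c, hc⟩
    refine Nat.dvd_one.1 ?_
    have hcop : Nat.gcd m (p ^ k) = 1 := (hm.pow_right k).gcd_eq_one
    rw [← hcop]
    exact Nat.dvd_gcd (orderOf_dvd_of_pow_eq_one h1) (orderOf_dvd_of_pow_eq_one (congrArg Subtype.val hk :))
  rwa [orderOf_eq_one_iff.1 h2, inv_one, one_mul] at hy

variable (φ p) in
/-- The natural `SL₂` of a member of `T`. -/
def Hb (T D : Subgroup P) : Subgroup P := ⨆ g : stab (others φ p T D), Fusion.cj D (g : P)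

omit [Finite P] [Finite X] hp in
theorem others_cj {D : Subgroup P} {t : P} (ht : t ∈ T) :
    others φ p T (Fusion.cj D t) = cjS t (others φ p T D) := by
  rw [others, others, cjS, Set.image_sdiff (fun A B e => by
    have := congrArg (fun A => Fusion.cj A t⁻¹) e
    simpa only [cj_cj_inv] using this), Set.image_singleton]
  congr 1
  exact (mem_stab.1 (OffBlock.le_stab_mems T ht)).symm

omit [Finite P] [Finite X] hp in
theorem cj_Hb_le {D : Subgroup P} {t : P} (ht : t ∈ T) :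
    Fusion.cj (Hb φ p T D) t ≤ Hb φ p T (Fusion.cj D t) := by
  rw [cj_le_iff, Hb]
  refine iSup_le fun g => cj_le_iff.1 ?_
  rw [cj_cj, show t * (g : P) = t * g * t⁻¹ * t by group, ← cj_cj]
  have hm : t * (g : P) * t⁻¹ ∈ stab (others φ p T (Fusion.cj D t)) := by
    rw [others_cj ht, stab_cjS]; exact conj_mem_cj g.2
  exact le_iSup (fun g : stab (others φ p T (Fusion.cj D t)) => Fusion.cj (Fusion.cj D t) (g : P)) ⟨_, hm⟩

omit [Finite P] [Finite X] hp in
theorem cj_Hb {D : Subgroup P} {t : P} (ht : t ∈ T) :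
    Fusion.cj (Hb φ p T D) t = Hb φ p T (Fusion.cj D t) := by
  refine le_antisymm (cj_Hb_le ht) ?_
  have := cj_mono (cj_Hb_le (φ := φ) (p := p) (D := Fusion.cj D t) (T.inv_mem ht)) t
  rwa [cj_inv_cj, cj_cj_inv] at this

namespace Ctx

variable (K : Ctx φ p M) (hT : SylIn p T ⊤) (hTM : T ≤ M)
include K hT hTM

theorem blk {D : Subgroup P} (hD : D ∈ mems φ p T) :
    Nat2 φ M D (Hb φ p T D) ∧ Hb φ p T D ≤ stab (others φ p T D) ⊓
        Subgroup.normalizer ((T ⊓ kerN M (others φ p T D) : Subgroup P) : Set P) ∧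
      stab (others φ p T D) ≤ Subgroup.normalizer (Hb φ p T D : Set P) := by
  obtain ⟨F, hC, -⟩ := K.members hT hTM hD
  obtain ⟨H, hH, N⟩ := F.exists_natH₀ K hC hD.2
  have e : H = Hb φ p T D := F.eq_iSup K hC hD.2 (hH.trans inf_le_left) N
  subst e
  exact ⟨N, hH, F.stab_le_normalizer K hC hD.2 (hH.trans inf_le_left) N⟩

theorem blk_commute {D E : Subgroup P} (hD : D ∈ mems φ p T) (hE : E ∈ mems φ p T) (hne : E ≠ D) {x e : P}
    (hx : x ∈ Hb φ p T D) (he : e ∈ E) : Commute e x := by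
  obtain ⟨F, hC, -⟩ := K.members hT hTM hD
  obtain ⟨N, hH, -⟩ := K.blk hT hTM hD
  exact F.kerN_commute K hC hD.2 (hH.trans inf_le_left) N (F.le_kerN ⟨hE, hne⟩ he).2 hx

theorem blk_fix {D E : Subgroup P} (hD : D ∈ mems φ p T) (hE : E ∈ mems φ p T) (hne : E ≠ D) :
    fixed φ (T ⊓ kerN M (others φ p T D)) ≤ fixed φ E :=
  fixed_anti φ ((K.members hT hTM hD).1.le_kerN ⟨hE, hne⟩)

theorem cen_le {D E : Subgroup P} (hD : D ∈ mems φ p T) (hE : E ∈ mems φ p T) (hne : E ≠ D) :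
    cen φ E ≤ fixed φ (Hb φ p T D) := by
  obtain ⟨F, hC, -⟩ := K.members hT hTM hD
  obtain ⟨N, hH, -⟩ := K.blk hT hTM hD
  exact F.cen_le_fixedH K hC hD.2 hH N ⟨hE, hne⟩

theorem card_members {D E : Subgroup P} (hD : D ∈ mems φ p T) (hE : E ∈ mems φ p T) :
    Nat.card D = Nat.card E := by
  obtain ⟨t, -, rfl⟩ := (K.members hT hTM hD).2.2 E hE
  exact (card_cj D t).symm

theorem plane_le {D : Subgroup P} (hD : D ∈ mems φ p T) {x : P} (hx : x ∈ Hb φ p T D) :
    plane φ x ≤ fixed φ (T ⊓ kerN M (others φ p T D)) := by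
  obtain ⟨F, hC, -⟩ := K.members hT hTM hD
  obtain ⟨N, hH, -⟩ := K.blk hT hTM hD
  intro u hu
  obtain ⟨v, rfl⟩ := (mem_plane φ).1 hu
  obtain ⟨y, hy, w, hw, rfl⟩ := AddSubgroup.mem_sup.1 ((F.plane_top K hC hD.2 hH N).ge (AddSubgroup.mem_top v))
  rw [map_add, hw x hx, add_sub_add_right_eq_sub]
  exact sub_mem (F.Q₀_inv hC hD.2 hH N hx hy) hy

theorem plane_le_member {D E : Subgroup P} (hD : D ∈ mems φ p T) (hE : E ∈ mems φ p T) (hne : E ≠ D) {x : P}
    (hx : x ∈ Hb φ p T D) : plane φ x ≤ fixed φ E :=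
  (K.plane_le hT hTM hD hx).trans (K.blk_fix hT hTM hD hE hne)

/-- The product of the natural `SL₂`s and `T` generate. -/
theorem gen_top {N : Subgroup P} {D : Subgroup P} (hD : D ∈ mems φ p T) (hle : Hb φ p T D ≤ N) :
    N ⊔ T = ⊤ := by
  obtain ⟨h, hh, hhM⟩ := (K.blk hT hTM hD).1.exH
  by_contra hne
  exact hhM (K.uniq T hT hTM _ le_sup_right hne (Subgroup.mem_sup_left (hle hh)))

omit hTM in
theorem exists_member {D : Subgroup P} (hD : Mem φ p D) : ∃ E, E ∈ mems φ p T := by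
  obtain ⟨g, -, hg⟩ := hT.conj_le hD.isP le_top
  exact ⟨_, hD.cj g, hg⟩

theorem iSup_Hb_normal {D : Subgroup P} (hD : D ∈ mems φ p T) {N : Subgroup P}
    (hN : N = ⨆ E : mems φ p T, Hb φ p T (E : Subgroup P)) : N.Normal := by
  have hTN : T ≤ Subgroup.normalizer (N : Set P) := fun t ht => mem_normalizer_of_cj_le (by
    rw [hN, cj_le_iff]
    refine iSup_le fun E => cj_le_iff.1 ?_
    rw [cj_Hb ht]
    exact le_iSup (fun E : mems φ p T => Hb φ p T (E : Subgroup P))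
      ⟨_, cj_mem_of_stab (OffBlock.le_stab_mems T ht) E.2⟩)
  refine Subgroup.normalizer_eq_top_iff.1 (top_le_iff.1 ?_)
  rw [← K.gen_top hT hTM hD (N := N) (hN ▸ le_iSup (fun E : mems φ p T => Hb φ p T (E : Subgroup P)) ⟨D, hD⟩)]
  exact sup_le Subgroup.le_normalizer hTN

end Ctx

end Cfsg.Agent.OffBlock
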