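import Cfsg.Agent.Lib.PushUp.OffBlock.Basic

/-!
# Maximal intersections of the members of two Sylow subgroups
-/

set_option autoImplicit false

namespace Cfsg.Agent.OffBlock

open Cfsg Cfsg.Agent Cfsg.Agent.Fusion Cfsg.Agent.BestOff
open Cfsg.Agent.OffProd (cen off cjS stab sub_mem_cen act_mem_fixed act_mem_cen fixed_anti cen_mono off_eq_meas
  off_bot card_fixed_cj off_cj cjS_one cjS_cjS ncard_cjS mem_cjS mem_stab cj_mem_of_stab mem_stab_of_maps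
  le_normalizer_sSup stab_cjS)

universe u v

variable {P : Type u} [Group P] {X : Type v} [AddCommGroup X] {φ : P →* AddMonoid.End X} {p : ℕ}

variable [Finite P] [hp : Fact p.Prime] {M : Subgroup P}

theorem Ctx.max_le (K : Ctx φ p M) {n : ℕ}
    (hmax : ∀ T₁ T₂, SylIn p T₁ ⊤ → SylIn p T₂ ⊤ → T₁ ≤ M → ∀ g, g ∉ M → T₂ ≤ cj M g →
      (mems φ p T₁ ∩ mems φ p T₂).ncard ≤ n)
    {T₁ T₂ : Subgroup P} (h₁ : SylIn p T₁ ⊤) (h₂ : SylIn p T₂ ⊤) {a b : P} (ha : T₁ ≤ cj M a)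
    (hb : T₂ ≤ cj M b) (hab : a⁻¹ * b ∉ M) {Z : Set (Subgroup P)}
    (hZ₁ : Z ⊆ mems φ p T₁) (hZ₂ : Z ⊆ mems φ p T₂) : Z.ncard ≤ n := by
  refine le_trans ?_ (hmax (cj T₁ a⁻¹) (cj T₂ a⁻¹) (K.sylIn_cj h₁ _) (K.sylIn_cj h₂ _)
    (by rw [cj_le_iff, inv_inv]; exact ha) _ hab
    (le_trans (cj_mono hb a⁻¹) (le_of_eq (cj_cj M b a⁻¹))))
  rw [← ncard_cjS Z a⁻¹, mems_cj', mems_cj']
  exact Set.ncard_le_ncard (Set.subset_inter (Set.image_mono hZ₁) (Set.image_mono hZ₂)) (Set.toFinite _)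

namespace Frame

variable {T : Subgroup P} {R : Set (Subgroup P)} (F : Frame φ p M T R) (K : Ctx φ p M)
include F

theorem isP_sSup : IsPGroup p (sSup R : Subgroup P) := OffProd.isPGroup_sSup F.syl.isPGroup fun _ hB => (F.sub hB).2

theorem le_cj_M {g : P} (hg : g ∈ stab R) {D : Subgroup P} (hD : D ∈ R) : D ≤ cj M g := by
  have := (F.sub (cj_mem_of_stab (inv_mem hg) hD)).2.trans F.le_M
  rwa [cj_le_iff, inv_inv] at this

include K in
/-- A member outside `R` normalizing it lies in one conjugate of `M` only. -/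
theorem exit₀ {B : Subgroup P} (hB : Mem φ p B) (hBN : B ≤ stab R) (hBR : B ∉ R) (h1 : B ≤ M) {g : P}
    (hg : g ∈ stab R) (h2 : B ≤ cj M g) : g ∈ M := by
  by_contra hgM
  have hP : IsPGroup p (B ⊔ sSup R : Subgroup P) :=
    hB.isP.to_sup_of_normal_right' F.isP_sSup (hBN.trans le_normalizer_sSup)
  obtain ⟨T₁, hT₁, hT₁M, hle₁⟩ := K.exists_syl_ge hP (g := 1)
    (by rw [cj_one]; exact sup_le h1 (sSup_le fun D hD => (F.sub hD).2.trans F.le_M))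
  obtain ⟨T₂, hT₂, hT₂M, hle₂⟩ := K.exists_syl_ge hP (g := g) (sup_le h2 (sSup_le fun D hD => F.le_cj_M hg hD))
  rw [cj_one] at hT₁M
  have hsub : ∀ {T' : Subgroup P}, B ⊔ sSup R ≤ T' → insert B R ⊆ mems φ p T' := fun {T'} h => by
    rintro D (rfl | hD)
    · exact ⟨hB, le_sup_left.trans h⟩
    · exact ⟨(F.sub hD).1, ((le_sSup hD).trans le_sup_right).trans h⟩
  have := F.max T₁ T₂ hT₁ hT₂ hT₁M g hgM hT₂M
  have h4 := Set.ncard_le_ncard (Set.subset_inter (hsub hle₁) (hsub hle₂)) (Set.toFinite _)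
  rw [Set.ncard_insert_of_notMem hBR (Set.toFinite R)] at h4
  omega

include K in
theorem exit {B : Subgroup P} (hB : Mem φ p B) (hBN : B ≤ stab R) (hBR : B ∉ R) {a b : P} (ha : a ∈ stab R)
    (hb : b ∈ stab R) (h1 : B ≤ cj M a) (h2 : B ≤ cj M b) : a⁻¹ * b ∈ M := by
  refine F.exit₀ K (hB.cj a⁻¹) ?_ (fun h => hBR ?_) (by rw [cj_le_iff, inv_inv]; exact h1)
    (mul_mem (inv_mem ha) hb) ?_
  · intro x hx
    have h3 := hBN (mem_cj.1 hx)
    have := mul_mem (mul_mem (inv_mem ha) h3) ha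
    simpa [mul_assoc] using this
  · have := cj_mem_of_stab ha h
    rwa [cj_inv_cj] at this
  · rw [← cj_cj]; exact cj_mono h2 _

include K in
theorem not_le_M {B : Subgroup P} (hB : Mem φ p B) (hBN : B ≤ stab R) (hBR : B ∉ R) (hBM : B ≤ M) {x : P}
    (hx : x ∈ stab R) (hxM : x ∉ M) : ¬ cj B x ≤ M := fun h => by
  have := F.exit₀ K hB hBN hBR hBM (inv_mem hx) (cj_le_iff.1 h)
  exact hxM (by simpa using inv_mem this)

include K in
theorem translate {m : P} (hm : m ∈ M) : Frame φ p M (cj T m) (cjS m R) where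
  syl := K.sylIn_cj F.syl m
  le_M := (cj_mono F.le_M m).trans (cj_eq_self_of_mem hm).le
  sub := by rw [mems_cj']; exact Set.image_mono F.sub
  out := by
    obtain ⟨n, hn, hnM⟩ := F.out
    refine ⟨m * n * m⁻¹, by rw [stab_cjS]; exact conj_mem_cj hn, fun h => hnM ?_⟩
    simpa [mul_assoc] using mul_mem (mul_mem (inv_mem hm) h) hm
  sylN := by rw [stab_cjS, ← cj_inf]; exact F.sylN.cj m
  exC := by
    obtain ⟨C, hC, hCR, hCN⟩ := F.exC
    refine ⟨cj C m, by rw [mems_cj']; exact ⟨C, hC, rfl⟩, fun h => hCR ?_, by rw [stab_cjS]; exact cj_mono hCN m⟩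
    rwa [mem_cjS, cj_cj_inv] at h
  le_stab := by
    rintro _ ⟨D, hD, rfl⟩
    rw [stab_cjS]
    exact cj_mono (F.le_stab D hD) m
  max := fun T₁ T₂ h1 h2 h3 g hg h4 => (ncard_cjS R m).symm ▸ F.max T₁ T₂ h1 h2 h3 g hg h4

end Frame

/-- There is a frame as soon as there is a member. -/
theorem Ctx.exists_frame (K : Ctx φ p M) {D : Subgroup P} (hD : Mem φ p D) :
    ∃ T R, Frame φ p M T R := by
  classical
  obtain ⟨T₀, hT₀, hT₀M, -⟩ := K.exT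
  obtain ⟨g₀, hg₀⟩ : ∃ g, g ∉ M := by
    by_contra h
    push Not at h
    exact K.M_ne (top_le_iff.1 fun x _ => h x)
  set s : Set (Subgroup P × Subgroup P) := {q | SylIn p q.1 ⊤ ∧ SylIn p q.2 ⊤ ∧ q.1 ≤ M ∧
    ∃ g, g ∉ M ∧ q.2 ≤ cj M g}
  obtain ⟨⟨T₁, T₂⟩, ⟨h₁, h₂, h₁M, g, hg, h₂M⟩, hmax⟩ := Set.exists_max_image s
    (fun q => (mems φ p q.1 ∩ mems φ p q.2).ncard) (Set.toFinite s)
    ⟨(T₀, cj T₀ g₀), hT₀, K.sylIn_cj hT₀ g₀, hT₀M, g₀, hg₀, cj_mono hT₀M g₀⟩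
  set R := mems φ p T₁ ∩ mems φ p T₂ with hR
  have hmax' : ∀ U₁ U₂, SylIn p U₁ ⊤ → SylIn p U₂ ⊤ → U₁ ≤ M → ∀ g, g ∉ M → U₂ ≤ cj M g →
      (mems φ p U₁ ∩ mems φ p U₂).ncard ≤ R.ncard :=
    fun U₁ U₂ a b c g d e => hmax (U₁, U₂) ⟨a, b, c, g, d, e⟩
  have hboth : T₁ ⊓ T₂ ≤ stab R := fun x hx => mem_stab_of_maps fun B hB =>
    ⟨cj_mem_of_stab (le_stab_mems T₁ hx.1) hB.1, cj_mem_of_stab (le_stab_mems T₂ hx.2) hB.2⟩
  have hRle : ∀ B ∈ R, B ≤ stab R := fun B hB => (le_inf hB.1.2 hB.2.2).trans hboth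
  -- a member outside `R` normalizing it
  have hex : ∀ U U' : Subgroup P, SylIn p U ⊤ → SylIn p U' ⊤ → R = mems φ p U ∩ mems φ p U' →
      U ⊓ U' ≤ stab R → (∀ V : Subgroup P, U' ≤ V → U ≤ V → V ≠ ⊤ → False) →
      ∃ C ∈ mems φ p U, C ∉ R ∧ C ≤ stab R := by
    intro U U' hU hU' e hUU hgen
    by_contra hcon
    simp only [not_exists, not_and] at hcon
    set L := U ⊓ stab R
    have hL : mems φ p L = R := by
      refine Set.Subset.antisymm (fun B hB => ?_) fun B hB => ?_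
      · by_contra hBR
        exact hcon B ⟨hB.1, hB.2.trans inf_le_left⟩ hBR (hB.2.trans inf_le_right)
      · exact ⟨hB.1.1, le_inf (e.le hB).1.2 (hRle B hB)⟩
    have hLU : L = U := by
      by_contra hne
      refine (SylIn.normalizer_growth inf_le_left hne hU.isPGroup).not_ge ?_
      refine le_inf inf_le_left fun x hx => ?_
      rw [← hL]
      exact mem_stab_mems_of_normalizer hx.2
    rw [hLU] at hL
    have hsub : mems φ p U ⊆ mems φ p U' := fun B hB => ((hL ▸ hB : B ∈ R) |> fun h => (e.le h).2)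
    obtain ⟨x, -, hx⟩ := hU.conj_eq hU'
    have heq : mems φ p U = mems φ p U' := Set.eq_of_subset_of_ncard_le hsub
      (by rw [← hx, mems_cj', ncard_cjS]) (Set.toFinite _)
    refine hgen (stab (mems φ p U)) (heq ▸ le_stab_mems U') (le_stab_mems U) fun htop => ?_
    have h0 := K.eq_bot_of_normal (top_le_iff.1 (htop.ge.trans le_normalizer_sSup))
      (OffProd.isPGroup_sSup hU.isPGroup (R := mems φ p U) fun _ h => h.2)
    obtain ⟨y, -, hy⟩ := hU.conj_le hD.isP le_top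
    exact (hD.cj y).ne (le_bot_iff.1 (h0 ▸ le_sSup ⟨hD.cj y, hy⟩))
  obtain ⟨C₁, hC₁, hC₁R, hC₁N⟩ := hex T₁ T₂ h₁ h₂ rfl hboth fun V hV hV' hVt =>
    hg (K.mem_of_syl h₂ (hV.trans (K.uniq T₁ h₁ h₁M V hV' hVt)) h₂M)
  obtain ⟨C₂, hC₂, hC₂R, hC₂N⟩ := hex T₂ T₁ h₂ h₁ (Set.inter_comm _ _) (inf_comm T₁ T₂ ▸ hboth)
    fun V hV hV' hVt => hg (K.mem_of_syl h₂ (hV'.trans (K.uniq T₁ h₁ h₁M V hV hVt)) h₂M)
  -- a Sylow subgroup of the stabilizer
  obtain ⟨P₀, hP₀, hP₀le⟩ := exists_sylIn_ge (h₁.isPGroup.to_inf_left (K := stab R)) inf_le_right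
  obtain ⟨T, hT, hP₀T⟩ := exists_sylIn_ge (H := (⊤ : Subgroup P)) hP₀.isPGroup le_top
  obtain ⟨a, ha⟩ := K.exists_le_cj hT
  have hins : ∀ {C : Subgroup P} {U : Subgroup P}, Mem φ p C → C ≤ U → (∀ B ∈ R, B ≤ U) →
      insert C R ⊆ mems φ p U := fun {C U} hC hCU hRU => by
    rintro B (rfl | hB)
    · exact ⟨hC, hCU⟩
    · exact ⟨hB.1.1, hRU B hB⟩
  have hlt : ∀ {C : Subgroup P}, C ∉ R → ¬ (insert C R).ncard ≤ R.ncard := fun {C} hC h => by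
    rw [Set.ncard_insert_of_notMem hC (Set.toFinite R)] at h; omega
  have hRP : ∀ B ∈ R, B ≤ P₀ := fun B hB => (le_inf hB.1.2 (hRle B hB)).trans hP₀le
  have hC₁P : C₁ ≤ P₀ := (le_inf hC₁.2 hC₁N).trans hP₀le
  have haM : a ∈ M := by
    by_contra haM
    exact hlt hC₁R (K.max_le hmax' h₁ hT (a := 1) (by rwa [cj_one]) ha (by simpa using haM)
      (hins hC₁.1 hC₁.2 fun B hB => hB.1.2) (hins hC₁.1 (hC₁P.trans hP₀T) fun B hB => (hRP B hB).trans hP₀T))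
  have hTM : T ≤ M := ha.trans (cj_eq_self_of_mem haM).le
  obtain ⟨x, hxN, hx⟩ := hP₀.conj_le (h₂.isPGroup.to_inf_left (K := stab R)) inf_le_right
  have hxle : T₂ ⊓ stab R ≤ cj T x⁻¹ := by
    have := cj_mono (hx.trans hP₀T) x⁻¹
    rwa [cj_cj_inv] at this
  have hxM : x ∉ M := by
    intro hxM
    refine hlt hC₂R (K.max_le hmax' h₂ (K.sylIn_cj hT x⁻¹) h₂M (cj_mono hTM x⁻¹) ?_
      (hins hC₂.1 hC₂.2 fun B hB => hB.2.2)
      (hins hC₂.1 ((le_inf hC₂.2 hC₂N).trans hxle) fun B hB => (le_inf hB.2.2 (hRle B hB)).trans hxle))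
    intro h
    exact hg (by simpa using inv_mem (mul_mem h hxM))
  refine ⟨T, R, hT, hTM, fun B hB => ⟨hB.1.1, (hRP B hB).trans hP₀T⟩, ⟨x, hxN, hxM⟩, ?_,
    ⟨C₁, ⟨hC₁.1, hC₁P.trans hP₀T⟩, hC₁R, hC₁N⟩, hRle, hmax'⟩
  rwa [hP₀.eq_of_le (hT.isPGroup.to_inf_left (K := stab R)) (le_inf hP₀T hP₀.le) inf_le_right]

end Cfsg.Agent.OffBlock
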