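import Cfsg.Agent.Lib.PushUp.OffBlock.Unique

/-!
# All members of a Sylow subgroup normalize the frames, and the Sylow subgroup permutes them transitively
-/

set_option autoImplicit false

namespace Cfsg.Agent.OffBlock

open Cfsg Cfsg.Agent Cfsg.Agent.Fusion Cfsg.Agent.BestOff
open Cfsg.Agent.OffProd (cen off cjS stab sub_mem_cen act_mem_fixed act_mem_cen fixed_anti cen_mono off_eq_meas
  off_bot card_fixed_cj off_cj cjS_one cjS_cjS ncard_cjS mem_cjS mem_stab cj_mem_of_stab mem_stab_of_maps
  le_normalizer_sSup stab_cjS kerN kerN_le_M stab_le_normalizer_kerN)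

universe u v

variable {P : Type u} [Group P] {X : Type v} [AddCommGroup X] {φ : P →* AddMonoid.End X} {p : ℕ}
variable [Finite P] [Finite X] [hp : Fact p.Prime] {M T : Subgroup P}

namespace Frame

variable {R : Set (Subgroup P)} (F : Frame φ p M T R) (K : Ctx φ p M)
include F K

theorem translate_of_mem {g : P} (hg : g ∈ T) : Frame φ p M T (cjS g R) := by
  have := F.translate K (F.le_M hg)
  rwa [cj_eq_self_of_mem hg] at this

section Class

variable {C H : Subgroup P} (hC : Cl φ p M R C 1) (hCT : C ≤ T)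
  (hH : H ≤ stab R ⊓ Subgroup.normalizer ((T ⊓ kerN M R : Subgroup P) : Set P)) (N : Nat2 φ M C H)
include hC hCT hH N

/-- A member of the frame moves the module into the fixed vectors of `H`. -/
theorem cen_le_fixedH {D : Subgroup P} (hD : D ∈ R) : cen φ D ≤ fixed φ H := by
  refine (AddSubgroup.closure_le _).2 ?_
  rintro _ ⟨v, d, hd, rfl⟩
  obtain ⟨y, hy, w, hw, rfl⟩ := AddSubgroup.mem_sup.1 ((F.plane_top K hC hCT hH N).ge (AddSubgroup.mem_top v))
  rw [map_add, hy d (F.le_kerN hD hd), add_sub_add_left_eq_sub]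
  exact sub_mem (F.fixedH_inv K hC hCT (hH.trans inf_le_left) N (F.le_stab D hD hd) hw) hw

/-- The fixed vectors of `C` are commutators modulo those of `H`. -/
theorem fixed_le_cen : fixed φ C ≤ cen φ C ⊔ fixed φ H := by
  obtain ⟨h, hh, hhM⟩ := N.exH
  have hB' := hC.move (hH hh).1
  have hab : (1 : P)⁻¹ * (h * 1) ∉ M := by simpa using hhM
  obtain ⟨v, hv, hvC⟩ : ∃ v ∈ fixed φ (Fusion.cj C h), v ∉ fixed φ C := by
    by_contra hcon
    simp only [not_exists, not_and, not_not] at hcon
    refine hC.mem.ne (eq_bot_of_fixed_top φ K.faithful fun v => ?_)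
    exact (F.pair K hC hB' hab).2.1.ge.trans (sup_le le_rfl hcon) (AddSubgroup.mem_top v)
  intro l hl
  rcases F.cover K hC hB' hab (l + v) with hlv | ⟨c, hc, hlv⟩
  · exact absurd ((add_mem_cancel_left hl).1 hlv) hvC
  rw [cj_cj] at hlv
  have hch : c * h ∈ H := mul_mem (N.C_le hc) hh
  have hchM : c * h ∉ M := fun h' => hhM (by simpa using mul_mem (inv_mem (F.le_M (hCT hc))) h')
  have h1 : φ c v ∈ fixed φ (Fusion.cj C (c * h)) := by
    rw [← cj_cj]; exact act_mem_fixed φ c hv
  have h3 : l - (φ c v - v) ∈ fixed φ H := (F.fixedH_eq N hch hchM).ge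
    ⟨(fixed φ C).sub_mem hl (hC.mem.quad K.exp K.faithful c hc v), by
      have := sub_mem hlv h1
      rwa [show l + v - φ c v = l - (φ c v - v) by abel] at this⟩
  rw [← add_sub_cancel (φ c v - v) l]
  exact add_mem (AddSubgroup.mem_sup_left (sub_mem_cen φ hc v)) (AddSubgroup.mem_sup_right h3)

end Class

/-- The members inside the stabilizer are those of the frame and the one of its class. -/
theorem mems_inf {C : Subgroup P} (hC : Cl φ p M R C 1) (hCT : C ≤ T) :
    mems φ p (T ⊓ stab R) = insert C R := by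
  refine Set.Subset.antisymm (fun B hB => ?_) ?_
  · by_cases hBR : B ∈ R
    · exact Or.inr hBR
    · exact Or.inl (F.cls_unique K (F.cl_of_mems ⟨hB.1, hB.2.trans inf_le_left⟩ hBR (hB.2.trans inf_le_right))
        (hB.2.trans inf_le_left) hC hCT)
  · rintro B (rfl | hB)
    · exact ⟨hC.mem, le_inf hCT hC.le_stab⟩
    · exact ⟨(F.sub hB).1, le_inf (F.sub hB).2 (F.le_stab B hB)⟩

/-- All members of `T` normalize the frame. -/
theorem mem_le_stab {B : Subgroup P} (hB : B ∈ mems φ p T) : B ≤ stab R := by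
  suffices h : T ⊓ stab (mems φ p (T ⊓ stab R)) = T ∧
      ∀ B ∈ mems φ p (T ⊓ stab (mems φ p (T ⊓ stab R))), B ≤ stab R from h.2 B (by rwa [h.1])
  obtain ⟨C, hC, hCT⟩ := F.exists_cls
  obtain ⟨H, hH, N⟩ := F.exists_natH₀ K hC hCT
  set 𝔇 := mems φ p (T ⊓ stab R)
  have h𝔇 : 𝔇 = insert C R := F.mems_inf K hC hCT
  set T' := T ⊓ stab 𝔇
  set Y := fixed φ (T ⊓ kerN M R)
  set W := fixed φ H
  -- moving `C` moves the vectors fixed by the frame into those fixed by `C`
  have hCg : ∀ g ∈ T', g ∉ stab R → Fusion.cj C g ∈ R ∧ C ∈ cjS g R := by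
    intro g hg hgR
    have hne : Fusion.cj C g ≠ C := fun e => hgR (mem_stab_of_maps fun D hD => by
      rcases h𝔇.le (cj_mem_of_stab hg.2 (h𝔇.ge (Or.inr hD))) with h | h
      · exact absurd (by
          have := congrArg (fun A => Fusion.cj A g⁻¹) (h.trans e.symm)
          simpa only [cj_cj_inv] using this : D = C) (fun e' => hC.not_mem (e' ▸ hD))
      · exact h)
    refine ⟨(h𝔇.le (cj_mem_of_stab hg.2 (h𝔇.ge (Or.inl rfl)))).resolve_left hne, mem_cjS.2 ?_⟩
    refine (h𝔇.le (cj_mem_of_stab (inv_mem hg.2) (h𝔇.ge (Or.inl rfl)))).resolve_left fun e => hne ?_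
    conv_lhs => rw [← e]
    rw [cj_inv_cj]
  have hmoveY : ∀ g ∈ T', g ∉ stab R → ∀ v ∈ Y, φ g v ∈ fixed φ C := by
    intro g hg hgR v hv
    obtain ⟨D, hD, e⟩ := (hCg g hg hgR).2
    have : φ g v ∈ fixed φ (Fusion.cj D g) := act_mem_fixed φ g (fixed_anti φ (F.le_kerN hD) hv)
    rwa [show Fusion.cj D g = C from e] at this
  have hB : ∀ B ∈ mems φ p T', B ≤ stab R := by
    intro B hB
    by_contra hBR
    obtain ⟨f, hf, hfR⟩ := SetLike.not_le_iff_exists.1 hBR
    have hf' : f ∈ T' := hB.2 hf
    have hquad := fun b hb v => hB.1.quad K.exp K.faithful b hb v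
    obtain ⟨v, hv, hvC⟩ : ∃ v ∈ Y, v ∉ fixed φ C := by
      by_contra hcon
      simp only [not_exists, not_and, not_not] at hcon
      refine hC.mem.ne (eq_bot_of_fixed_top φ K.faithful fun v => ?_)
      exact (F.plane_top K hC hCT hH N).ge.trans (sup_le hcon (fixed_anti φ N.C_le)) (AddSubgroup.mem_top v)
    set B₁ := B ⊓ stab R
    -- outside `B₁` the product of two elements is in `B₁`
    have htwo : ∀ g ∈ B, g ∉ stab R → f * g ∈ stab R := by
      intro g hg hgR
      by_contra hfg
      have h1 := hmoveY _ (hB.2 (mul_mem hf hg)) hfg v hv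
      have h2 := hquad g hg v f hf
      rw [map_sub, ← act_mul] at h2
      apply hvC
      have e : v = φ g v + φ f v - φ (f * g) v := by
        have e' : φ (f * g) v = φ g v - v + φ f v := sub_eq_iff_eq_add.1 h2
        rw [e']; abel
      rw [e]
      exact sub_mem (add_mem (hmoveY g (hB.2 hg) hgR v hv) (hmoveY f hf' hfR v hv)) h1
    have hcard : Nat.card B ≤ 2 * Nat.card B₁ := by
      classical
      have hmem : ∀ b : B, (b : P) ∈ stab R → (b : P) ∈ B₁ := fun b h => ⟨b.2, h⟩
      let F₂ : B → Bool × B₁ := fun b => if h : (b : P) ∈ stab R then (true, ⟨b, hmem b h⟩)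
        else (false, ⟨f * b, mul_mem hf b.2, htwo b b.2 h⟩)
      have hinj : Function.Injective F₂ := fun a b e => by
        simp only [F₂] at e
        split_ifs at e
        · exact Subtype.ext (congrArg (fun z => ((z.2 : B₁) : P)) e :)
        · simp at e
        · simp at e
        · exact Subtype.ext (mul_left_cancel (congrArg (fun z => ((z.2 : B₁) : P)) e :))
      refine (Nat.card_le_card_of_injective F₂ hinj).trans_eq ?_
      rw [Nat.card_prod, Nat.card_eq_fintype_card, Fintype.card_bool]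
    -- commutators of `C` moved by `f`
    have hfC : ∀ u ∈ cen φ C, φ f u ∈ W := fun u hu =>
      F.cen_le_fixedH K hC hCT hH N (hCg f hf' hfR).1 (act_mem_cen φ f hu)
    -- the elements of `B₁` fix the plane
    have hB₁ : ∀ b ∈ B₁, φ b v = v := by
      intro b hb
      have hbT : b ∈ T := (hB.2 hb.1).1
      have hbC : Fusion.cj C b = C :=
        (h𝔇.le (cj_mem_of_stab (hB.2 hb.1).2 (h𝔇.ge (Or.inl rfl)))).resolve_right fun h => hC.not_mem (by
          have := cj_mem_of_stab (inv_mem hb.2) h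
          rwa [cj_cj_inv] at this)
      have hbF : ∀ l ∈ fixed φ C, φ b l ∈ fixed φ C := fun l hl => by
        have := act_mem_fixed φ b hl
        rwa [hbC] at this
      have hbY : φ b v - v ∈ fixed φ C := by
        have h1 := hquad f hf v b hb.1
        rw [map_sub, sub_eq_sub_iff_sub_eq_sub] at h1
        rw [← h1]
        exact sub_mem (hbF _ (hmoveY f hf' hfR v hv)) (hmoveY f hf' hfR v hv)
      have hbW : ∀ w ∈ W, φ b w ∈ W := fun w hw =>
        F.fixedH_inv K hC hCT (hH.trans inf_le_left) N hb.2 hw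
      have hbcen : ∀ l ∈ fixed φ C, φ b l - l ∈ W := fun l hl => by
        obtain ⟨j, hj, w, hw, rfl⟩ := AddSubgroup.mem_sup.1 (F.fixed_le_cen K hC hCT hH N hl)
        rw [map_add, add_sub_add_comm]
        refine add_mem ?_ (sub_mem (hbW w hw) hw)
        have h1 : φ b j ∈ cen φ C := by
          have := act_mem_cen φ b hj
          rwa [hbC] at this
        have h2 := hquad b hb.1 j f hf
        rw [← h2]
        exact hfC _ (sub_mem h1 hj)
      have hcomm : ∀ c ∈ C, Commute b c := by
        intro c hc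
        have hc' : b * c * b⁻¹ ∈ C := hbC ▸ conj_mem_cj hc
        have h1 : φ (b * c * b⁻¹) (φ b v) = φ (b * c * b⁻¹) v + (φ b v - v) := by
          conv_lhs => rw [← add_sub_cancel v (φ b v)]
          rw [map_add, hbY _ hc']
        have h2 := hbcen _ (hC.mem.quad K.exp K.faithful c hc v)
        have h3 : φ b (φ c v - v) = φ (b * c * b⁻¹) v - v := by
          rw [map_sub]
          have e : φ b (φ c v) = φ (b * c * b⁻¹) (φ b v) := by rw [← act_mul, ← act_mul]; congr 2; group
          rw [e, h1]; abel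
        rw [h3, sub_sub_sub_cancel_right] at h2
        have h4 : φ (c⁻¹ * (b * c * b⁻¹)) v - v ∈ W := by
          have h5 : φ c⁻¹ (φ (b * c * b⁻¹) v - φ c v) = φ (b * c * b⁻¹) v - φ c v :=
            h2 _ (N.C_le (C.inv_mem hc))
          rw [map_sub, act_inv_self, ← act_mul] at h5
          rw [h5]
          exact h2
        by_contra hne
        exact hvC (N.free _ (mul_mem (C.inv_mem hc) hc') (fun e => hne (by
          rw [inv_mul_eq_one] at e
          show b * c = c * b
          nth_rewrite 2 [e]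
          group)) v h4)
      obtain ⟨c, hc, hcb⟩ := F.exists_match K hC hCT hbT hb.2 hcomm
      have hbv : φ b v = φ c v := by
        have := congrArg (φ c) (hv _ hcb)
        rwa [← act_mul, mul_inv_cancel_left] at this
      by_cases hc1 : c = 1
      · rw [hbv, hc1, act_one]
      refine absurd (N.free c hc hc1 v ?_) hvC
      rw [← hbv, ← hquad b hb.1 v f hf, hbv]
      exact hfC _ (sub_mem_cen φ hc v)
    have hfv : φ f v ≠ v := fun e => hvC (by
      rw [← e]; exact hmoveY f hf' hfR v hv)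
    have hlt : 2 ≤ (fixed φ B).relIndex (fixed φ B₁) := by
      have h0 : (fixed φ B).relIndex (fixed φ B₁) ≠ 0 := AddSubgroup.index_ne_zero_of_finite
      have h1 : (fixed φ B).relIndex (fixed φ B₁) ≠ 1 := fun h =>
        hfv (AddSubgroup.relIndex_eq_one.1 h hB₁ f hf)
      omega
    have hidx : (fixed φ B).index ≤ Nat.card B := by
      refine Nat.le_of_mul_le_mul_right ?_ (Nat.card_pos (α := fixed φ B))
      rw [AddSubgroup.index_mul_card]
      exact hB.1.le_off
    by_cases hB₁0 : B₁ = ⊥
    · have hc2 : Nat.card B ≤ 2 := by rwa [hB₁0, Subgroup.card_bot] at hcard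
      have h2 : (fixed φ B).index = 2 := by
        have h1 : (fixed φ B).index ≠ 1 := fun h => hB.1.ne (eq_bot_of_fixed_top φ K.faithful fun w => by
          rw [AddSubgroup.index_eq_one.1 h]; exact AddSubgroup.mem_top w)
        have h0 : (fixed φ B).index ≠ 0 := AddSubgroup.index_ne_zero_of_finite
        omega
      obtain ⟨c, hc, hc1⟩ := (Subgroup.bot_or_exists_ne_one C).resolve_left hC.mem.ne
      set e := φ c v - v
      have heW : e ∉ W := fun h => hvC (N.free c hc hc1 v h)
      have hfe := hfC e (sub_mem_cen φ hc v)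
      have heB : e ∉ fixed φ B := fun h => heW (h f hf ▸ hfe)
      have hvB : v ∉ fixed φ B := fun h => hfv (h f hf)
      have hev : e + v ∈ fixed φ B := (AddSubgroup.add_mem_iff_of_index_two h2).2 (iff_of_false heB hvB)
      have h4 := hev f hf
      rw [map_add] at h4
      refine hvC ?_
      rw [show v = φ f e + φ f v - e by rw [h4, add_sub_cancel_left]]
      exact sub_mem (add_mem (fixed_anti φ N.C_le hfe) (hmoveY f hf' hfR v hv))
        (hC.mem.quad K.exp K.faithful c hc v)
    · have hB₁ne : B₁ ≠ B := fun e => hfR (e.ge hf).2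
      have h1 := hB.1.min B₁ inf_le_left hB₁0 hB₁ne
      have h2 := hB.1.le_off
      have h3 : off φ B ≤ Nat.card X := K.off_le hB.1 hB.1.isP hB.1.comm
      have h4 : (fixed φ B).relIndex (fixed φ B₁) * (fixed φ B₁).index = (fixed φ B).index :=
        AddSubgroup.relIndex_mul_index (fixed_anti φ (inf_le_left : B₁ ≤ B))
      have h5 : Nat.card X < (fixed φ B₁).index * Nat.card (fixed φ B₁) + 1 := by
        rw [AddSubgroup.index_mul_card]; omega
      have h6 : Nat.card B₁ < (fixed φ B₁).index := by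
        refine Nat.lt_of_mul_lt_mul_right (a := Nat.card (fixed φ B₁)) ?_
        rw [AddSubgroup.index_mul_card]
        exact h1.trans_le h3
      have h7 := Nat.mul_le_mul_right ((fixed φ B₁).index) hlt
      omega
  refine ⟨?_, hB⟩
  by_contra hne
  refine (SylIn.normalizer_growth inf_le_left hne F.syl.isPGroup).not_ge (le_inf inf_le_left fun x hx => ?_)
  have : mems φ p T' = 𝔇 := Set.Subset.antisymm
    (fun D hD => ⟨hD.1, le_inf (hD.2.trans inf_le_left) (hB D hD)⟩)
    fun D hD => ⟨hD.1, le_inf (hD.2.trans inf_le_left) (hD.2.trans (OffBlock.le_stab_mems _))⟩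
  rw [← this]
  exact mem_stab_mems_of_normalizer hx.2

/-- The members of `T` are those of the frame and the one of its class. -/
theorem mems_eq {C : Subgroup P} (hC : Cl φ p M R C 1) (hCT : C ≤ T) : mems φ p T = insert C R := by
  rw [← F.mems_inf K hC hCT]
  exact Set.Subset.antisymm (fun B hB => ⟨hB.1, le_inf hB.2 (F.mem_le_stab K hB)⟩)
    fun B hB => ⟨hB.1, hB.2.trans inf_le_left⟩

end Frame

variable (φ p) in
/-- The other members. -/
def others (T D : Subgroup P) : Set (Subgroup P) := mems φ p T \ {D}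

namespace Ctx

variable (K : Ctx φ p M) (hT : SylIn p T ⊤) (hTM : T ≤ M)
include K hT hTM

/-- `T` permutes its members transitively, and each is the class of a frame. -/
theorem members {D : Subgroup P} (hD : D ∈ mems φ p T) :
    Frame φ p M T (others φ p T D) ∧ Cl φ p M (others φ p T D) D 1 ∧
      ∀ E ∈ mems φ p T, ∃ t ∈ T, Fusion.cj D t = E := by
  obtain ⟨T₁, R₁, F₁⟩ := K.exists_frame hD.1
  obtain ⟨m, hm, hmT⟩ := (F₁.syl.mono F₁.le_M le_top).conj_eq (hT.mono hTM le_top)
  have F := F₁.translate K hm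
  rw [hmT] at F
  obtain ⟨C, hC, hCT⟩ := F.exists_cls
  have hmems := F.mems_eq K hC hCT
  have hR : cjS m R₁ = others φ p T C := by
    rw [others, hmems, Set.insert_sdiff_of_mem _ (Set.mem_singleton C),
      Set.sdiff_singleton_eq_self hC.not_mem]
  obtain ⟨H, hH, N⟩ := F.exists_natH₀ K hC hCT
  obtain ⟨h, hh, hhM⟩ := N.exH
  -- everything is in the orbit of `C`
  have horb : ∀ E ∈ mems φ p T, ∃ t ∈ T, Fusion.cj C t = E := by
    set Z : Set (Subgroup P) := {E | E ∈ mems φ p T ∧ ¬ ∃ t ∈ T, Fusion.cj C t = E}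
    intro E hE
    by_contra hcon
    have hZT : T ≤ stab Z := fun s hs => mem_stab_of_maps fun B hB => by
      refine ⟨cj_mem_of_stab (OffBlock.le_stab_mems T hs) hB.1, fun ⟨t, ht, e⟩ => hB.2 ⟨s⁻¹ * t, mul_mem (inv_mem hs) ht, ?_⟩⟩
      rw [← cj_cj, e, cj_cj_inv]
    have hhZ : h ∈ stab Z := mem_stab_of_maps fun B hB => by
      have hBR : B ∈ cjS m R₁ := (hmems.le hB.1).resolve_left fun e => hB.2 ⟨1, one_mem T, by rw [cj_one, e]⟩
      rw [cj_eq_self (Subgroup.centralizer_le_normalizer _ (Subgroup.mem_centralizer_iff.2 fun x hx =>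
        (F.kerN_commute K hC hCT (hH.trans inf_le_left) N (F.le_kerN hBR hx).2 hh).eq))]
      exact hB
    exact hE.1.ne (K.eq_top_of_stab hT hTM hZT hhZ hhM (fun B hB => hB.1.2) E ⟨hE, hcon⟩)
  obtain ⟨t, ht, htD⟩ := horb D hD
  have hFD : Frame φ p M T (others φ p T D) := by
    have := F.translate_of_mem K ht
    rwa [hR, show cjS t (others φ p T C) = others φ p T D from ?_] at this
    rw [others, others, ← htD, cjS, Set.image_sdiff (fun A B e => by
      have := congrArg (fun A => Fusion.cj A t⁻¹) e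
      simpa only [cj_cj_inv] using this), Set.image_singleton]
    congr 1
    exact mem_stab.1 (OffBlock.le_stab_mems T ht)
  refine ⟨hFD, hFD.cl_of_mems hD (fun h => h.2 rfl) (hFD.mem_le_stab K hD), fun E hE => ?_⟩
  obtain ⟨s, hs, hsE⟩ := horb E hE
  exact ⟨s * t⁻¹, mul_mem hs (inv_mem ht), by rw [← cj_cj, ← htD, cj_cj_inv, hsE]⟩

end Ctx

end Cfsg.Agent.OffBlock
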