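import Cfsg.Agent.Lib.PushUp.OffBlock.Rot
import Mathlib.FieldTheory.Finite.GaloisField

/-!
# Members of order above two give commuting natural `SL₂`s
-/

set_option autoImplicit false

namespace Cfsg.Agent.OffBlock

open Cfsg Cfsg.Agent Cfsg.Agent.Fusion Cfsg.Agent.BestOff
open Cfsg.Agent.OffProd (cen off cjS stab sub_mem_cen act_mem_fixed act_mem_cen fixed_anti cen_mono
  mem_stab cj_mem_of_stab mem_stab_of_maps stab_cjS kerN kerN_le_M)

universe u v

variable {P : Type u} [Group P] {X : Type v} [AddCommGroup X] (φ : P →* AddMonoid.End X) {p : ℕ}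

variable (p) in
/-- `E` is `SL₂(p ^ n)` on the natural module `[X, E]` modulo the fixed vectors. -/
def IsLinear (n : ℕ) (E : Subgroup P) : Prop :=
  ∃ (F : Type) (_ : Field F) (_ : Fintype F), Fintype.card F = p ^ n ∧
    ∃ (R : E ≃* Matrix.SpecialLinearGroup (Fin 2) F) (ψ : X →+ (Fin 2 → F)),
      (∀ v, ψ v = 0 ↔ v ∈ fixed φ E) ∧ (∀ w, ∃ u ∈ cen φ E, ψ u = w) ∧
        ∀ (g : E) (v : X), ψ (φ (g : P) v) = (R g : Matrix (Fin 2) (Fin 2) F).mulVec (ψ v)

/-- `E` is the symmetric group of degree `N` on the even weight module `[X, E]` modulo the fixed vectors. -/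
def IsSymm (N : ℕ) (E : Subgroup P) : Prop :=
  ∃ (R : E ≃* Equiv.Perm (Fin N)) (ψ : X →+ (Fin N → ZMod 2)),
    (∀ v, ∑ i, ψ v i = 0) ∧ (∀ w : Fin N → ZMod 2, ∑ i, w i = 0 → ∃ u ∈ cen φ E, ψ u = w) ∧
      (∀ v, ψ v = 0 ↔ v ∈ fixed φ E) ∧ ∀ (g : E) (v : X) (i : Fin N), ψ (φ (g : P) v) i = ψ v ((R g)⁻¹ i)

variable (p) in
/-- The structure of a group with a minimal offender: commuting blocks. -/
structure Decomp (T : Subgroup P) {ι : Type*} (E : ι → Subgroup P) : Prop where
  comm : ∀ i j, i ≠ j → ∀ x ∈ E i, ∀ y ∈ E j, Commute x y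
  disj : ∀ i, E i ⊓ (⨆ j ∈ {j | j ≠ i}, E j) = ⊥
  gen : (⨆ i, E i) ⊔ T = ⊤
  conj : ∀ i j, ∃ t ∈ T, cj (E i) t = E j
  decomp : fixed φ (⨆ i, E i) ⊔ (⨆ i, cen φ (E i)) = ⊤
  cen_fix : ∀ i j, i ≠ j → cen φ (E i) ≤ fixed φ (E j)
  natural : ∀ i, ∃ n : ℕ, 1 ≤ n ∧ (IsLinear φ p n (E i) ∨ (p = 2 ∧ IsSymm φ (2 ^ n + 1) (E i)))
  mems_le : sSup (mems φ p T) ≤ ⨆ i, E i
  normal : (⨆ i, E i).Normal
  closure : ∀ N : Subgroup P, N.Normal → sSup (mems φ p T) ≤ N → ⨆ i, E i ≤ N

variable {φ}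

theorem Decomp.reindex {T : Subgroup P} {ι κ : Type*} {E : ι → Subgroup P} (D : Decomp φ p T E) (e : κ ≃ ι) :
    Decomp φ p T (fun k => E (e k)) where
  comm i j h := D.comm _ _ (e.injective.ne h)
  disj i := by
    refine eq_bot_iff.2 ((inf_le_inf_left _ (iSup₂_le fun j hj => ?_)).trans (D.disj (e i)).le)
    exact le_iSup₂_of_le (e j) (e.injective.ne hj) le_rfl
  gen := by rw [e.iSup_comp (g := E)]; exact D.gen
  conj i j := D.conj _ _
  decomp := by
    rw [e.iSup_comp (g := E), e.iSup_comp (g := fun i => cen φ (E i))]; exact D.decomp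
  cen_fix i j h := D.cen_fix _ _ (e.injective.ne h)
  natural i := D.natural _
  mems_le := by rw [e.iSup_comp (g := E)]; exact D.mems_le
  normal := by rw [e.iSup_comp (g := E)]; exact D.normal
  closure := by rw [e.iSup_comp (g := E)]; exact D.closure

theorem mem_fixed_iSup {ι : Type*} {E : ι → Subgroup P} {v : X} (h : ∀ i, v ∈ fixed φ (E i)) :
    v ∈ fixed φ (⨆ i, E i) := by
  have hle : (⨆ i, E i) ≤ PGV.pstab φ {v} :=
    iSup_le fun i g hg w hw => Set.mem_singleton_iff.1 hw ▸ h i g hg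
  exact fun g hg => hle hg v rfl

variable [Finite P] [Finite X] [hp : Fact p.Prime] {M T : Subgroup P}

theorem exists_pow_card {D : Subgroup P} (hD : Mem φ p D) : ∃ n, 1 ≤ n ∧ Nat.card D = p ^ n := by
  obtain ⟨n, hn⟩ := IsPGroup.iff_card.1 hD.isP
  refine ⟨n, Nat.one_le_iff_ne_zero.2 fun h => hD.ne (Subgroup.card_eq_one.1 (by rw [hn, h, pow_zero])), hn⟩

theorem Nat2.linear {C H : Subgroup P} (N : Nat2 φ M C H) {n : ℕ} (hn : 1 ≤ n) (hcard : Nat.card C = p ^ n)
    {x : P} (r : Rot φ p H x) (hexp : ∀ v : X, p • v = 0) : IsLinear φ p n H := by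
  classical
  obtain ⟨F, _, _, R, ψ, hF, hRb, hψs, hψ0, hact⟩ := N.natural
  have hn0 : n ≠ 0 := Nat.one_le_iff_ne_zero.1 hn
  letI : Fintype (GaloisField p n) := Fintype.ofFinite _
  have hFn : Fintype.card (GaloisField p n) = p ^ n := by
    rw [← Nat.card_eq_fintype_card, GaloisField.card p n hn0]
  let e : F ≃+* GaloisField p n := FiniteField.ringEquivOfCardEq (by rw [hF, hcard, hFn])
  let eSL := Matrix.SpecialLinearGroup.map (n := Fin 2) (e : F →+* GaloisField p n)
  have hbij : Function.Bijective (eSL.comp R) := by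
    rw [MonoidHom.coe_comp]
    refine Function.Bijective.comp (g := ⇑eSL) ⟨fun a b h => ?_, fun y => ?_⟩ hRb
    · ext i j
      exact e.injective (congrArg (fun m : Matrix.SpecialLinearGroup (Fin 2) (GaloisField p n) => m.1 i j) h)
    · refine ⟨Matrix.SpecialLinearGroup.map (n := Fin 2) (e.symm : GaloisField p n →+* F) y, ?_⟩
      ext i j
      exact e.apply_symm_apply _
  let ψ' : X →+ (Fin 2 → GaloisField p n) :=
    AddMonoidHom.mk' (fun v i => e (ψ v i)) fun a b => funext fun i => by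
      rw [map_add, Pi.add_apply, map_add]; rfl
  refine ⟨GaloisField p n, inferInstance, inferInstance, hFn, MulEquiv.ofBijective _ hbij, ψ',
    fun v => ?_, fun w => ?_, fun g v => ?_⟩
  · rw [← hψ0]
    exact ⟨fun h => funext fun i => e.injective ((congrFun h i).trans (map_zero e).symm),
      fun h => funext fun i => by show e (ψ v i) = 0; rw [h]; exact map_zero e⟩
  · obtain ⟨v, hv⟩ := hψs fun i => e.symm (w i)
    obtain ⟨u, hu, hw⟩ := r.split hexp v
    refine ⟨u, plane_le_cen φ r.mem hu, funext fun i => ?_⟩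
    show e (ψ u i) = _
    have h1 := (hψ0 _).2 hw
    rw [map_sub, sub_eq_zero] at h1
    rw [← h1, hv, e.apply_symm_apply]
  · funext i
    show e (ψ (φ (g : P) v) i) = _
    rw [hact]
    exact RingHom.map_mulVec (e : F →+* GaloisField p n) _ _ i

namespace Ctx

variable (K : Ctx φ p M) (hT : SylIn p T ⊤) (hTM : T ≤ M)
include K hT hTM

theorem closure_Hb (N : Subgroup P) (hN : N.Normal) (h : sSup (mems φ p T) ≤ N) {D : Subgroup P}
    (hD : D ∈ mems φ p T) : Hb φ p T D ≤ N :=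
  iSup_le fun g => (cj_mono ((le_sSup hD).trans h) _).trans (cj_of_normal N _).le

theorem exists_rot_of {D : Subgroup P} (hD : D ∈ mems φ p T) :
    ∃ x, Rot φ p (Hb φ p T D) x ∧ (2 < Nat.card D → Fusion.cj D x = D ∧
      ∀ g ∈ Hb φ p T D, Fusion.cj D g = D → ∃ i : ℕ, ∃ c ∈ D, g = x ^ i * c) :=
  (K.blk hT hTM hD).1.exists_rot hD.1.ne hD.1.isP

/-- The torus of one block centralizes the others. -/
theorem rot_commute {D E : Subgroup P} (hD : D ∈ mems φ p T) (hE : E ∈ mems φ p T) (hne : E ≠ D) {x : P}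
    (r : Rot φ p (Hb φ p T D) x) (hxD : Fusion.cj D x = D) {g : P} (hg : g ∈ Hb φ p T E) : Commute x g := by
  obtain ⟨F, hC, -⟩ := K.members hT hTM hD
  obtain ⟨N, hH, -⟩ := K.blk hT hTM hD
  obtain ⟨F', hC', -⟩ := K.members hT hTM hE
  obtain ⟨N', hH', -⟩ := K.blk hT hTM hE
  have hxc : ∀ B ∈ mems φ p T, B ≠ D → ∀ b ∈ B, Commute x b := fun B hB hBD b hb =>
    (K.blk_commute hT hTM hD hB hBD r.mem hb).symm
  have hxs : x ∈ stab (others φ p T E) := mem_stab_of_maps fun B hB => by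
    by_cases hBD : B = D
    · rw [hBD] at hB ⊢; rwa [hxD]
    · rw [cj_eq_self (Subgroup.centralizer_le_normalizer _ (Subgroup.mem_centralizer_iff.2 fun b hb =>
        ((hxc B hB.1 hBD b hb).eq).symm))]
      exact hB
  have hxM : x ∈ M := by
    by_contra hxM
    refine F.not_le_M K hC.mem hC.le_stab hC.not_mem (hD.2.trans hTM) (hH r.mem).1 hxM ?_
    rw [hxD]; exact hD.2.trans hTM
  obtain ⟨m, hm, hxm⟩ := r.pow
  exact F'.kerN_commute K hC' hE.2 (hH'.trans inf_le_left) N'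
    (F'.rot_kerN K hC' hm hxm hxM hxs (hxc E hE hne)) hg

/-- The structure for members of order above two. -/
theorem decomp_linear {D₀ : Subgroup P} (hD₀ : D₀ ∈ mems φ p T) (hq : 2 < Nat.card D₀) :
    Decomp φ p T (fun D : mems φ p T => Hb φ p T (D : Subgroup P)) := by
  classical
  choose x hx using fun D : mems φ p T => K.exists_rot_of hT hTM D.2
  have hr : ∀ D : mems φ p T, Rot φ p (Hb φ p T (D : Subgroup P)) (x D) := fun D => (hx D).1
  have hxD : ∀ D : mems φ p T, Fusion.cj (D : Subgroup P) (x D) = D := fun D =>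
    ((hx D).2 ((K.card_members hT hTM hD₀ D.2) ▸ hq)).1
  have hcomm : ∀ D D' : mems φ p T, D' ≠ D → ∀ g ∈ Hb φ p T (D' : Subgroup P), Commute (x D) g :=
    fun D D' hne g hg => K.rot_commute hT hTM D.2 D'.2 (fun e => hne (Subtype.ext e)) (hr D) (hxD D) hg
  -- each block fixes the planes of the others
  have hplane : ∀ D D' : mems φ p T, D' ≠ D → plane φ (x D) ≤ fixed φ (Hb φ p T (D' : Subgroup P)) := by
    intro D D' hne
    obtain ⟨N', -, -⟩ := K.blk hT hTM D'.2
    obtain ⟨h, hh, hhM⟩ := N'.exH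
    have hmem := K.plane_le_member hT hTM D.2 D'.2 (fun e => hne (Subtype.ext e)) (hr D).mem
    intro u hu
    rw [← N'.gen h hh hhM, fixed_sup]
    exact ⟨hmem hu, (mem_fixed_cj φ).2 (hmem (act_mem_plane φ (hcomm D D' hne _ (inv_mem hh)).symm hu))⟩
  have hinv : ∀ D D' : mems φ p T, D' ≠ D → ∀ g ∈ Hb φ p T (D' : Subgroup P), ∀ w ∈ fixed φ (Hb φ p T (D : Subgroup P)),
      φ g w ∈ fixed φ (Hb φ p T (D : Subgroup P)) := fun D D' hne g hg w hw => (hr D).fix _ (by
    rw [← act_mul, (hcomm D D' hne g hg).eq, act_mul, hw _ (hr D).mem])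
  have hcenfix : ∀ D D' : mems φ p T, D ≠ D' →
      cen φ (Hb φ p T (D : Subgroup P)) ≤ fixed φ (Hb φ p T (D' : Subgroup P)) := by
    intro D D' hne
    refine (AddSubgroup.closure_le _).2 ?_
    rintro _ ⟨v, g, hg, rfl⟩
    obtain ⟨u, hu, hw⟩ := (hr D).split K.exp v
    have h1 := hplane D D' hne.symm hu
    rw [← sub_add_cancel v u, map_add, hw g hg, add_sub_add_left_eq_sub]
    exact sub_mem (hinv D' D hne g hg u h1) h1
  refine
    { comm := fun D D' hne g hg g' hg' => ?_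
      disj := fun D => eq_bot_iff.2 fun g hg => ?_
      gen := K.gen_top hT hTM hD₀ (le_iSup (fun D : mems φ p T => Hb φ p T (D : Subgroup P)) ⟨D₀, hD₀⟩)
      conj := fun D D' => ?_
      decomp := top_le_iff.1 fun v _ => ?_
      cen_fix := hcenfix
      natural := fun D => ?_
      mems_le := sSup_le fun D hD => (K.blk hT hTM hD).1.C_le.trans
        (le_iSup (fun D : mems φ p T => Hb φ p T (D : Subgroup P)) ⟨D, hD⟩)
      normal := K.iSup_Hb_normal hT hTM hD₀ rfl
      closure := fun N hN h => iSup_le fun D => K.closure_Hb hT hTM N hN h D.2 }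
  · refine commutatorElement_eq_one_iff_commute.1 (K.faithful _ fun v => ?_)
    have key : ∀ v, φ (g * g') v = φ (g' * g) v := fun v => by
      obtain ⟨u, hu, hw⟩ := (hr D).split K.exp v
      have h1 := hplane D D' hne.symm hu
      have h2 : φ g' (φ g u) = φ g u := hinv D' D hne g hg u h1 g' hg'
      have h3 : φ g (φ g' (v - u)) = φ g' (v - u) := hinv D D' hne.symm g' hg' _ hw g hg
      rw [← sub_add_cancel v u, map_add, map_add, act_mul, act_mul, act_mul, act_mul, h1 g' hg', h2, h3, hw g hg]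
    rw [commutatorElement_def, mul_assoc (g * g'), ← mul_inv_rev, act_mul, key, ← act_mul, mul_inv_cancel, act_one]
  · obtain ⟨hgD, hgo⟩ := Subgroup.mem_inf.1 hg
    refine Subgroup.mem_bot.2 (K.faithful g fun v => ?_)
    obtain ⟨u, hu, hw⟩ := (hr D).split K.exp v
    have hle : (⨆ j ∈ {j : mems φ p T | j ≠ D}, Hb φ p T (j : Subgroup P)) ≤ PGV.pstab φ (plane φ (x D) : Set X) :=
      iSup₂_le fun j hj g' hg' w hw' => hplane D j hj hw' g' hg'
    rw [← sub_add_cancel v u, map_add, hw g hgD, hle hgo u hu]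
  · obtain ⟨t, ht, e⟩ := (K.members hT hTM D.2).2.2 (D' : Subgroup P) D'.2
    exact ⟨t, ht, by rw [cj_Hb ht, e]⟩
  · have : Fintype (mems φ p T) := Fintype.ofFinite _
    suffices h : ∀ s : Finset (mems φ p T), ∃ z, (∀ D ∈ s, z ∈ fixed φ (Hb φ p T (D : Subgroup P))) ∧
        v - z ∈ ⨆ D : mems φ p T, cen φ (Hb φ p T (D : Subgroup P)) by
      obtain ⟨z, hz, hvz⟩ := h Finset.univ
      rw [← add_sub_cancel z v]
      exact add_mem (AddSubgroup.mem_sup_left (mem_fixed_iSup fun D => hz D (Finset.mem_univ D)))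
        (AddSubgroup.mem_sup_right hvz)
    intro s
    induction s using Finset.induction_on with
    | empty => exact ⟨v, by simp, by rw [sub_self]; exact zero_mem _⟩
    | insert D s hDs ih =>
      obtain ⟨z, hz, hvz⟩ := ih
      obtain ⟨u, hu, hw⟩ := (hr D).split K.exp z
      refine ⟨z - u, fun D' hD' => ?_, ?_⟩
      · rcases Finset.mem_insert.1 hD' with rfl | hD'
        · exact hw
        · exact sub_mem (hz D' hD') (hplane D D' (fun e => hDs (e ▸ hD')) hu)
      · rw [sub_sub_eq_add_sub, add_sub_right_comm]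
        exact add_mem hvz (le_iSup (fun D : mems φ p T => cen φ (Hb φ p T (D : Subgroup P))) D
          (plane_le_cen φ (hr D).mem hu))
  · obtain ⟨n, hn, hcard⟩ := exists_pow_card D.2.1
    exact ⟨n, hn, Or.inl ((K.blk hT hTM D.2).1.linear hn hcard (hr D) K.exp)⟩

end Ctx

end Cfsg.Agent.OffBlock
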