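import Cfsg.Agent.Lib.PushUp.OffBlock.Setup

/-!
# The local C** situation: the action on `Ω₁(Z(O_p(G)))`
-/

set_option autoImplicit false
open scoped commutatorElement

namespace Cfsg.Agent.OffBlock

open Cfsg Cfsg.Agent Cfsg.Agent.Fusion Cfsg.Agent.BestOff
open Cfsg.Agent.OffProd (off)

universe u

variable {G : Type u} [Group G] {p : ℕ}

theorem omega_props (H : Subgroup G) :
    omegaOneCenter p H ≤ H ⊓ Subgroup.centralizer (H : Set G) ∧ IsElementaryAbelian p (omegaOneCenter p H) ∧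
      ∀ x, x ∈ H → x ∈ Subgroup.centralizer (H : Set G) → x ^ p = 1 → x ∈ omegaOneCenter p H := by
  have hle : omegaOneCenter p H ≤ H ⊓ Subgroup.centralizer (H : Set G) :=
    (Subgroup.closure_le _).2 fun x hx => hx.1
  have hc : ∀ a ∈ omegaOneCenter p H, ∀ b ∈ omegaOneCenter p H, a * b = b * a := fun a ha b hb =>
    Subgroup.mem_centralizer_iff.1 (hle hb).2 a (hle ha).1
  refine ⟨hle, ⟨⟨⟨fun a b => Subtype.ext (hc a a.2 b b.2)⟩⟩, ?_⟩, fun x h1 h2 h3 => Subgroup.subset_closure ⟨⟨h1, h2⟩, h3⟩⟩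
  intro a ha
  induction ha using Subgroup.closure_induction with
  | mem x hx => exact hx.2
  | one => exact one_pow p
  | mul x y hx hy h1 h2 => rw [(show Commute x y from hc x hx y hy).mul_pow, h1, h2, one_mul]
  | inv x _ h => rw [inv_pow, h, inv_one]

theorem omega_normal (H : Subgroup G) [H.Normal] : (omegaOneCenter p H).Normal := by
  refine ⟨fun n hn g => ?_⟩
  induction hn using Subgroup.closure_induction with
  | mem x hx =>
    refine Subgroup.subset_closure ⟨⟨(inferInstance : H.Normal).conj_mem x hx.1.1 g,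
      Subgroup.mem_centralizer_iff.2 fun y hy => ?_⟩, by rw [conj_pow, hx.2, mul_one, mul_inv_cancel]⟩
    have := Subgroup.mem_centralizer_iff.1 hx.1.2 _ ((inferInstance : H.Normal).conj_mem y hy g⁻¹)
    calc y * (g * x * g⁻¹) = g * ((g⁻¹ * y * g⁻¹⁻¹) * x) * g⁻¹ := by group
      _ = g * (x * (g⁻¹ * y * g⁻¹⁻¹)) * g⁻¹ := by rw [this]
      _ = _ := by group
  | one => simp
  | mul x y _ _ h1 h2 =>
    rw [show g * (x * y) * g⁻¹ = g * x * g⁻¹ * (g * y * g⁻¹) by group]
    exact mul_mem h1 h2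
  | inv x _ h =>
    rw [show g * x⁻¹ * g⁻¹ = (g * x * g⁻¹)⁻¹ by group]
    exact inv_mem h

variable [Finite G] [hp : Fact p.Prime]

theorem elemAb_cj {A : Subgroup G} (hA : IsElementaryAbelian p A) (g : G) : IsElementaryAbelian p (Fusion.cj A g) := by
  refine ⟨⟨⟨fun a b => Subtype.ext ?_⟩⟩, fun a ha => ?_⟩
  · have := hA.1.1.comm ⟨g⁻¹ * (a : G) * g, mem_cj.1 a.2⟩ ⟨g⁻¹ * (b : G) * g, mem_cj.1 b.2⟩
    have h2 := congrArg (fun x : A => g * (x : G) * g⁻¹) this
    simpa [mul_assoc] using h2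
  · have := hA.2 _ (mem_cj.1 ha)
    rw [show g⁻¹ * a * g = g⁻¹ * a * g⁻¹⁻¹ by group, conj_pow, conj_eq_one_iff] at this
    exact this

/-- The centre of `T` sees `V` as its fixed vectors. -/
theorem omega_le_omega (hG : Subgroup.centralizer (pCore p G : Set G) ≤ pCore p G) (T : Sylow p G)
    (hQT : pCore p G ≤ (T : Subgroup G)) :
    omegaOneCenter p (T : Subgroup G) ≤ omegaOneCenter p (pCore p G) :=
  (Subgroup.closure_le _).2 fun x hx => by
    have h1 : x ∈ Subgroup.centralizer (pCore p G : Set G) :=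
      Subgroup.centralizer_le (fun y hy => hQT hy) hx.1.2
    exact (omega_props (pCore p G)).2.2 x (hG h1) h1 hx.2

end Cfsg.Agent.OffBlock
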