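import Cfsg.Agent.Lib.PushUp.OffBlock.SymDecomp

/-!
# The block decomposition, and the abelian offenders lie in the product of the members
-/

set_option autoImplicit false

namespace Cfsg.Agent.OffBlock

open Cfsg Cfsg.Agent Cfsg.Agent.Fusion Cfsg.Agent.BestOff
open Cfsg.Agent.OffProd (cen off cjS stab sub_mem_cen act_mem_fixed act_mem_cen fixed_anti cen_mono off_bot
  mem_stab cj_mem_of_stab mem_stab_of_maps kerN kerN_le_M)

universe u v

variable {P : Type u} [Group P] {X : Type v} [AddCommGroup X] {φ : P →* AddMonoid.End X} {p : ℕ}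
variable [Finite P] [Finite X] [hp : Fact p.Prime] {M T : Subgroup P}

namespace Ctx

variable (K : Ctx φ p M) (hT : SylIn p T ⊤) (hTM : T ≤ M)
include K hT hTM

/-- The block decomposition. -/
theorem exists_decomp {D₀ : Subgroup P} (hD₀ : D₀ ∈ mems φ p T) :
    ∃ (r : ℕ) (E : Fin r → Subgroup P), 1 ≤ r ∧ Decomp φ p T E := by
  have key : ∃ (ι : Type u) (_ : Finite ι) (_ : Nonempty ι) (E : ι → Subgroup P), Decomp φ p T E := by
    by_cases hq : 2 < Nat.card D₀
    · exact ⟨mems φ p T, inferInstance, ⟨⟨D₀, hD₀⟩⟩, _, K.decomp_linear hT hTM hD₀ hq⟩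
    · obtain ⟨n, hn, hcard⟩ := exists_pow_card hD₀.1
      have h1 : p ≤ Nat.card D₀ := by rw [hcard]; exact Nat.le_self_pow (by omega) p
      have hp2 : p = 2 := le_antisymm (h1.trans (not_lt.1 hq)) hp.out.two_le
      subst hp2
      letI : Module (ZMod 2) X := AddCommGroup.zmodModule K.exp
      refine K.decomp_symm hT hTM (fun D hD => ?_) hD₀
      obtain ⟨g, -, hg⟩ := hT.conj_le hD.isP le_top
      have := K.card_members hT hTM hD₀ (show Fusion.cj D g ∈ mems φ 2 T from ⟨hD.cj g, hg⟩)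
      rw [card_cj] at this
      omega
  obtain ⟨ι, _, hne, E, hE⟩ := key
  have : Fintype ι := Fintype.ofFinite ι
  exact ⟨Fintype.card ι, fun i => E ((Fintype.equivFin ι).symm i), Fintype.card_pos,
    hE.reindex (Fintype.equivFin ι).symm⟩

omit hTM in
/-- A nontrivial abelian offender contains a member. -/
theorem exists_mem_le {D₀ : Subgroup P} (hD₀ : D₀ ∈ mems φ p T) {B : Subgroup P} (hne : B ≠ ⊥) (hB : B ≤ T)
    (hc : ∀ a ∈ B, ∀ b ∈ B, Commute a b) (hoff : Nat.card X ≤ off φ B) : ∃ D ≤ B, D ∈ mems φ p T := by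
  classical
  obtain ⟨D, hD, hmin⟩ := Set.exists_min_image {D | D ≤ B ∧ D ≠ ⊥ ∧ Nat.card X ≤ off φ D}
    (fun D => Nat.card D) (Set.toFinite _) ⟨B, le_rfl, hne, hoff⟩
  refine ⟨D, hD.1, ⟨hD.2.1, hT.isPGroup.to_le (hD.1.trans hB), fun a ha b hb => hc a (hD.1 ha) b (hD.1 hb), hD.2.2,
    fun B' h1 h2 => (K.off_le hD₀.1 h1 h2).trans hD.2.2, fun D₁ h0 hne0 hne' => ?_⟩, hD.1.trans hB⟩
  by_contra hcon
  exact hne' (Subgroup.eq_of_le_of_card_ge h0 (hmin D₁ ⟨h0.trans hD.1, hne0, hD.2.2.trans (not_lt.1 hcon)⟩))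

/-- Abelian offenders in `T` lie in the product of the members. -/
theorem off_le_sSup {D₀ : Subgroup P} (hD₀ : D₀ ∈ mems φ p T) {B : Subgroup P} (hB : B ≤ T)
    (hBc : ∀ a ∈ B, ∀ b ∈ B, Commute a b) (hoff : Nat.card X ≤ off φ B) : B ≤ sSup (mems φ p T) := by
  suffices H : ∀ n, ∀ B : Subgroup P, Nat.card B = n → B ≤ T → (∀ a ∈ B, ∀ b ∈ B, Commute a b) →
      Nat.card X ≤ off φ B → B ≤ sSup (mems φ p T) from H _ B rfl hB hBc hoff
  intro n
  induction n using Nat.strong_induction_on with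
  | _ n ih =>
    intro B hn hB hBc hoff
    by_cases hB0 : B = ⊥
    · rw [hB0]; exact bot_le
    obtain ⟨D, hDB, hD⟩ := K.exists_mem_le hT hD₀ hB0 hB hBc hoff
    obtain ⟨F, hC, -⟩ := K.members hT hTM hD
    obtain ⟨N, -, -⟩ := K.blk hT hTM hD
    obtain ⟨x, hx, -⟩ := K.exists_rot_of hT hTM hD
    set B₁ := B ⊓ (T ⊓ kerN M (others φ p T D))
    have hsplit : ∀ y ∈ B, ∃ d ∈ D, d⁻¹ * y ∈ B₁ := fun y hy => by
      have hyD : Fusion.cj D y = D := cj_eq_self (Subgroup.centralizer_le_normalizer _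
        (Subgroup.mem_centralizer_iff.2 fun z hz => (hBc y hy z (hDB hz)).eq.symm))
      have hys : y ∈ stab (others φ p T D) := mem_stab_of_maps fun E hE =>
        ⟨cj_mem_of_stab (OffBlock.le_stab_mems T (hB hy)) hE.1, fun e => hE.2 (by
          have h1 : Fusion.cj E y = Fusion.cj D y := hyD.symm ▸ Set.mem_singleton_iff.1 e
          have := congrArg (fun A => Fusion.cj A y⁻¹) h1
          simpa only [cj_cj_inv, Set.mem_singleton_iff] using this)⟩
      obtain ⟨d, hd, h⟩ := F.exists_match K hC hD.2 (hB hy) hys fun c hc => hBc y hy c (hDB hc)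
      exact ⟨d, hd, mul_mem (B.inv_mem (hDB hd)) hy, h⟩
    have hlt : Nat.card B₁ < n := by
      rw [← hn]
      refine lt_of_le_of_ne (Subgroup.card_le_of_le inf_le_left) fun e => ?_
      have e' := Subgroup.eq_of_le_of_card_ge (inf_le_left : B₁ ≤ B) e.ge
      obtain ⟨g, hg, hgM⟩ := F.out
      exact hD.1.ne (eq_bot_iff.2 fun d hd => Subgroup.mem_bot.2
        (F.tc K hC hg (by simpa using hgM) hd (mem_cj.2 ((e'.ge (hDB hd)).2.2.2 g hg))))
    have hcard : Nat.card B ≤ Nat.card D * Nat.card B₁ := by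
      rw [← Nat.card_prod]
      choose f hf hf' using fun y : B => hsplit y y.2
      refine Nat.card_le_card_of_injective (fun y => ((⟨f y, hf y⟩ : D), (⟨_, hf' y⟩ : B₁))) fun y z e => ?_
      simp only [Prod.mk.injEq, Subtype.mk.injEq] at e
      have := e.2
      rw [e.1] at this
      exact Subtype.ext (mul_left_cancel this)
    set U := plane φ x
    set q := Nat.card D
    have hq : 0 < q := Nat.card_pos
    have hU : Nat.card U = q * q := by
      have e1 := PGV.card_inf_mul_sup U (fixed φ (Hb φ p T D))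
      have e2 : U ⊓ fixed φ (Hb φ p T D) = ⊥ := eq_bot_iff.2 fun v hv => hx.eq_zero K.exp hv.1 hv.2
      have e3 : U ⊔ fixed φ (Hb φ p T D) = ⊤ := top_le_iff.1 fun v _ => by
        obtain ⟨u, hu, hw⟩ := hx.split K.exp v
        rw [← add_sub_cancel u v]
        exact add_mem (AddSubgroup.mem_sup_left hu) (AddSubgroup.mem_sup_right hw)
      rw [e2, e3, AddSubgroup.card_bot, mul_one, AddSubgroup.card_top] at e1
      refine Nat.eq_of_mul_eq_mul_right (Nat.card_pos (α := fixed φ (Hb φ p T D))) ?_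
      rw [e1, ← N.indexH, AddSubgroup.index_mul_card]
    have hUD : Nat.card ↥(fixed φ D ⊓ U) = q := by
      have e1 := PGV.card_inf_mul_sup (fixed φ D) U
      have e3 : fixed φ D ⊔ U = ⊤ := top_le_iff.1 fun v _ => by
        obtain ⟨u, hu, hw⟩ := hx.split K.exp v
        rw [← sub_add_cancel v u]
        exact add_mem (AddSubgroup.mem_sup_left (fixed_anti φ N.C_le hw)) (AddSubgroup.mem_sup_right hu)
      have e4 := AddSubgroup.index_mul_card (fixed φ D)
      rw [N.index] at e4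
      rw [e3, AddSubgroup.card_top, hU, ← e4] at e1
      refine Nat.eq_of_mul_eq_mul_left (Nat.mul_pos hq (Nat.card_pos (α := fixed φ D))) ?_
      rw [← e1]; ring
    have hfix : Nat.card (fixed φ B) * q ≤ Nat.card (fixed φ B₁) := by
      have e1 := PGV.card_inf_mul_sup (fixed φ B) U
      have hint : Nat.card ↥(fixed φ B ⊓ U) ≤ q :=
        hUD ▸ AddSubgroup.card_le_of_le (inf_le_inf_right U (fixed_anti φ hDB))
      have hsup : fixed φ B ⊔ U ≤ fixed φ B₁ := sup_le (fixed_anti φ inf_le_left)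
        ((K.plane_le hT hTM hD hx.mem).trans (fixed_anti φ inf_le_right))
      refine Nat.le_of_mul_le_mul_right ?_ hq
      calc Nat.card (fixed φ B) * q * q = Nat.card ↥(fixed φ B ⊔ U) * Nat.card ↥(fixed φ B ⊓ U) := by
            rw [← e1, hU, mul_assoc]
        _ ≤ _ := Nat.mul_le_mul (AddSubgroup.card_le_of_le hsup) hint
    have hoff₁ : Nat.card X ≤ off φ B₁ := by
      refine hoff.trans ((Nat.mul_le_mul_right _ hcard).trans ?_)
      calc q * Nat.card B₁ * Nat.card (fixed φ B) = Nat.card B₁ * (Nat.card (fixed φ B) * q) := by ring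
        _ ≤ _ := Nat.mul_le_mul_left _ hfix
    intro y hy
    obtain ⟨d, hd, hdy⟩ := hsplit y hy
    rw [show y = d * (d⁻¹ * y) by group]
    exact mul_mem (le_sSup hD hd)
      (ih _ hlt B₁ rfl (inf_le_left.trans hB) (fun a ha c hc => hBc a ha.1 c hc.1) hoff₁ hdy)

end Ctx

end Cfsg.Agent.OffBlock
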