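import Cfsg.Agent.Lib.PushUp.OffBlock.Main

/-!
# With an offender, nothing outside `M` fixes the fixed vectors of a Sylow subgroup of `M`
-/

set_option autoImplicit false

namespace Cfsg.Agent.OffBlock

open Cfsg Cfsg.Agent Cfsg.Agent.Fusion Cfsg.Agent.BestOff
open Cfsg.Agent.OffProd (cen off cjS stab sub_mem_cen act_mem_fixed act_mem_cen fixed_anti cen_mono off_bot
  mem_stab cj_mem_of_stab mem_stab_of_maps)

universe u v

variable {P : Type u} [Group P] [Finite P] {p : ℕ} [hp : Fact p.Prime]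

variable (p) in
/-- The hypotheses on the group alone. -/
structure PMin (M : Subgroup P) : Prop where
  M_ne : M ≠ ⊤
  exT : ∃ T, SylIn p T ⊤ ∧ T ≤ M ∧ T ≠ ⊥
  core : pCore p P = ⊥
  uniq : ∀ T, SylIn p T ⊤ → T ≤ M → ∀ H, T ≤ H → H ≠ ⊤ → H ≤ M

theorem PMin.moved {M : Subgroup P} (B₀ : PMin p M) {X : Type v} [AddCommGroup X] [Finite X]
    (φ : P →* AddMonoid.End X) (hexp : ∀ v : X, p • v = 0) (hfaith : ∀ g, (∀ v, φ g v = v) → g = 1)
    {A : Subgroup P} (hA : A ≠ ⊥) (hAp : IsPGroup p A) (hAc : ∀ a ∈ A, ∀ b ∈ A, Commute a b)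
    (hoff : Nat.card X ≤ off φ A) :
    ∀ T, SylIn p T ⊤ → T ≤ M → ∀ g, g ∉ M → ∃ z ∈ fixed φ T, φ g z ≠ z := by
  classical
  suffices H : ∀ (n : ℕ) (Y : Type v) [AddCommGroup Y] [Finite Y] (ψ : P →* AddMonoid.End Y),
      Nat.card Y = n → (∀ v : Y, p • v = 0) → (∀ g, (∀ v, ψ g v = v) → g = 1) → Nat.card Y ≤ off ψ A →
      ∀ T, SylIn p T ⊤ → T ≤ M → ∀ g, g ∉ M → ∃ z ∈ fixed ψ T, ψ g z ≠ z from
    H _ X φ rfl hexp hfaith hoff
  intro n
  induction n using Nat.strong_induction_on with
  | _ n ih =>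
  intro X _ _ φ hn hexp hfaith hoff T hT hTM g hg
  by_contra hcon
  simp only [not_exists, not_and, not_not] at hcon
  set W₀ := fixed φ T with hW₀
  set C := PGV.pstab φ (W₀ : Set X)
  have hTC : T ≤ C := fun t ht w hw => hw t ht
  have hC : C = ⊤ := by
    by_contra hne
    exact hg (B₀.uniq T hT hTM C hTC hne fun w hw => hcon w hw)
  have hW : ∀ g : P, ∀ w ∈ W₀, φ g w = w := fun g w hw => (hC.ge (Subgroup.mem_top g)) w hw
  -- there are nonzero fixed vectors
  have hW0 : W₀ ≠ ⊥ := by
    intro hbot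
    obtain ⟨v₀, hv₀⟩ : ∃ v : X, v ≠ 0 := by
      by_contra h
      push Not at h
      exact hA (eq_bot_iff.2 fun a _ => Subgroup.mem_bot.2 (hfaith a fun v => by rw [h v, map_zero]))
    letI : MulAction T X :=
      { smul := fun t v => φ (t : P) v
        one_smul := fun v => act_one φ v
        mul_smul := fun s t v => act_mul φ (s : P) (t : P) v }
    have hdvd : p ∣ Nat.card X := by
      rw [← addOrderOf_eq_prime (hexp v₀) hv₀]
      exact addOrderOf_dvd_natCard v₀
    obtain ⟨w, hw, hw0⟩ := hT.isPGroup.exists_fixed_point_of_prime_dvd_card_of_fixed_point X hdvd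
      (a := 0) (fun t => map_zero (φ (t : P)))
    refine hw0 (AddSubgroup.mem_bot.1 (hbot ▸ (fun t ht => hw ⟨t, ht⟩ : w ∈ W₀))).symm
  -- the quotient module
  let mk : X →+ X ⧸ W₀ := QuotientAddGroup.mk' W₀
  have hmk : ∀ v, mk v = 0 ↔ v ∈ W₀ := fun v => QuotientAddGroup.eq_zero_iff v
  have hsurj : Function.Surjective mk := QuotientAddGroup.mk'_surjective W₀
  let φb : P →* AddMonoid.End (X ⧸ W₀) :=
    { toFun := fun g => QuotientAddGroup.map W₀ W₀ (φ g : X →+ X) fun w hw => by
        show φ g w ∈ W₀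
        rw [hW g w hw]
        exact hw
      map_one' := AddMonoidHom.ext fun q => by
        induction q using QuotientAddGroup.induction_on with
        | H w => exact congrArg mk (act_one φ w)
      map_mul' := fun g h => AddMonoidHom.ext fun q => by
        induction q using QuotientAddGroup.induction_on with
        | H w => exact congrArg mk (act_mul φ g h w) }
  have hφb : ∀ g v, φb g (mk v) = mk (φ g v) := fun _ _ => rfl
  have hexpb : ∀ v : X ⧸ W₀, p • v = 0 := fun v => by
    obtain ⟨w, rfl⟩ := hsurj v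
    rw [← map_nsmul, hexp, map_zero]
  have hfaithb : ∀ g, (∀ v, φb g v = v) → g = 1 := by
    intro g hg
    let Kr : Subgroup P :=
      { carrier := {g | ∀ v, φb g v = v}
        one_mem' := act_one φb
        mul_mem' := fun {a b} ha hb v => by rw [act_mul, hb, ha]
        inv_mem' := fun {a} ha v => by
          conv_lhs => rw [← ha v]
          rw [act_inv_self] }
    haveI : Kr.Normal := ⟨fun k hk a v => by rw [act_mul, act_mul, hk, act_self_inv]⟩
    have hKp : IsPGroup p Kr := fun k => ⟨1, Subtype.ext (hfaith _ fun v => by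
      have hd : φ (k : P) v - v ∈ W₀ := by
        rw [← hmk, map_sub, sub_eq_zero, ← hφb]
        exact k.2 _
      have h1 : ∀ n : ℕ, φ ((k : P) ^ n) v = v + n • (φ (k : P) v - v) := by
        intro n
        induction n with
        | zero => rw [pow_zero, act_one, zero_smul, add_zero]
        | succ n ih =>
          rw [pow_succ', act_mul, ih, map_add, map_nsmul, hW _ _ hd, succ_nsmul]
          abel
      have h2 := h1 (p ^ 1)
      rwa [pow_one, hexp, add_zero, ← pow_one p] at h2)⟩
    have hle : Kr ≤ pCore p P := le_sSup ⟨inferInstance, hKp⟩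
    rw [B₀.core] at hle
    exact Subgroup.mem_bot.1 (hle hg)
  have hmap : ∀ H : Subgroup P, (fixed φ H).map mk ≤ fixed φb H := fun H => by
    rintro _ ⟨v, hv, rfl⟩ h hh
    rw [hφb, hv h hh]
  have hoffb : ∀ H : Subgroup P, Nat.card X ≤ off φ H → Nat.card (X ⧸ W₀) ≤ off φb H := by
    intro H hH
    have h1 : (fixed φ H).index ≤ Nat.card H := by
      refine Nat.le_of_mul_le_mul_right ?_ (Nat.card_pos (α := fixed φ H))
      rw [AddSubgroup.index_mul_card]; exact hH
    have h2 : (fixed φb H).index ≤ (fixed φ H).index := by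
      rw [← AddSubgroup.index_comap_of_surjective (fixed φb H) hsurj]
      exact Nat.le_of_dvd (Nat.pos_of_ne_zero AddSubgroup.index_ne_zero_of_finite)
        (AddSubgroup.index_dvd_of_le (AddSubgroup.map_le_iff_le_comap.1 (hmap H)))
    rw [← AddSubgroup.index_mul_card (fixed φb H)]
    exact Nat.mul_le_mul_right _ (h2.trans h1)
  have hlt : Nat.card (X ⧸ W₀) < n := by
    rw [← hn, AddSubgroup.card_eq_card_quotient_mul_card_addSubgroup W₀]
    exact lt_mul_of_one_lt_right Nat.card_pos
      (Finite.one_lt_card_iff_nontrivial.2 ((AddSubgroup.nontrivial_iff_ne_bot W₀).2 hW0))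
  have K : Ctx φb p M :=
    { exp := hexpb, faithful := hfaithb, M_ne := B₀.M_ne, exT := B₀.exT, core := B₀.core, uniq := B₀.uniq
      moved := ih _ hlt (X ⧸ W₀) φb rfl hexpb hfaithb (hoffb A hoff) }
  -- a member on `X` and one on the quotient inside it
  obtain ⟨Db, hDb⟩ := exists_mem hA hAp hAc (hoffb A hoff)
  obtain ⟨E₀, hE₀⟩ := K.exists_member hT hDb
  obtain ⟨B₁, hB₁⟩ := exists_mem hA hAp hAc hoff
  obtain ⟨b₀, -, hb₀⟩ := hT.conj_le hB₁.isP le_top
  set B := Fusion.cj B₁ b₀
  have hB : Mem φ p B := hB₁.cj b₀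
  have hBT : B ≤ T := hb₀
  have hBoff : Nat.card (X ⧸ W₀) ≤ off φb B := hoffb B hB.le_off
  have hFB : (fixed φb B).comap mk ≤ fixed φ B := by
    have hle : fixed φ B ≤ (fixed φb B).comap mk := AddSubgroup.map_le_iff_le_comap.1 (hmap B)
    have h1 : (fixed φ B).index ≤ Nat.card B := by
      refine Nat.le_of_mul_le_mul_right ?_ (Nat.card_pos (α := fixed φ B))
      rw [AddSubgroup.index_mul_card]; exact hB.le_off
    have h2 : Nat.card B ≤ (fixed φb B).index := by
      refine Nat.le_of_mul_le_mul_right ?_ (Nat.card_pos (α := fixed φb B))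
      rw [AddSubgroup.index_mul_card]
      exact K.off_le hDb hB.isP hB.comm
    refine (AddSubgroup.eq_of_le_of_card_ge hle ?_).ge
    refine Nat.le_of_mul_le_mul_left ?_
      (Nat.pos_of_ne_zero (AddSubgroup.index_ne_zero_of_finite (H := fixed φ B)))
    rw [AddSubgroup.index_mul_card]
    calc (fixed φ B).index * Nat.card ((fixed φb B).comap mk)
        ≤ ((fixed φb B).comap mk).index * Nat.card ((fixed φb B).comap mk) := Nat.mul_le_mul_right _
          ((h1.trans h2).trans_eq (AddSubgroup.index_comap_of_surjective (fixed φb B) hsurj).symm)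
      _ = Nat.card X := AddSubgroup.index_mul_card _
  obtain ⟨D, hDB, hD⟩ := K.exists_mem_le hT hE₀ hB.ne hBT hB.comm hBoff
  have hBm : B ≤ sSup (mems φb p T) := K.off_le_sSup hT hTM hE₀ hBT hB.comm hBoff
  obtain ⟨N, -, -⟩ := K.blk hT hTM hD
  have : Fintype (mems φb p T) := Fintype.ofFinite _
  choose xr hxr using fun E : mems φb p T => K.exists_rot_of hT hTM E.2
  -- `D` fixes the preimage of its fixed vectors
  have hFD : ∀ v, mk v ∈ fixed φb D → v ∈ fixed φ D := by
    intro v hv
    suffices h : ∀ s : Finset (mems φb p T), ∃ z, mk z ∈ fixed φb D ∧ v - z ∈ fixed φ D ∧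
        ∀ E ∈ s, mk z ∈ fixed φb (E : Subgroup P) by
      obtain ⟨z, -, hvz, hz⟩ := h Finset.univ
      have hzB : mk z ∈ fixed φb B := fun b hb => by
        have hle : sSup (mems φb p T) ≤ PGV.pstab φb {mk z} :=
          sSup_le fun E hE e he w hw => Set.mem_singleton_iff.1 hw ▸ hz ⟨E, hE⟩ (Finset.mem_univ _) e he
        exact hle (hBm hb) _ rfl
      rw [← sub_add_cancel v z]
      exact add_mem hvz (fixed_anti φ hDB (hFB hzB))
    intro s
    induction s using Finset.induction_on with
    | empty => exact ⟨v, hv, by rw [sub_self]; exact zero_mem _, by simp⟩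
    | insert E s hEs ih' =>
      obtain ⟨z, hzD, hvz, hz⟩ := ih'
      by_cases hED : (E : Subgroup P) = D
      · refine ⟨z, hzD, hvz, fun E' hE' => ?_⟩
        rcases Finset.mem_insert.1 hE' with rfl | h
        · rw [hED]; exact hzD
        · exact hz E' h
      set x := xr E
      have hx := (hxr E).1
      obtain ⟨ub, hub, huw⟩ := hx.split hexpb (mk z)
      obtain ⟨wb, rfl⟩ := (mem_plane φb).1 hub
      obtain ⟨w, rfl⟩ := hsurj wb
      rw [hφb, ← map_sub] at hub huw
      set u := φ x w - w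
      have huD : u ∈ fixed φ D := by
        intro d hd
        have hcom : Commute d x := K.blk_commute hT hTM E.2 hD (Ne.symm hED) hx.mem hd
        set δ := φ d w - w
        have hδ : φ x δ = δ := by
          obtain ⟨m, hm, hxm⟩ := hx.pow
          refine eq_zero_of_move hp.out hexp hm hxm (hW x _ ?_)
          rw [← hmk, map_sub, sub_eq_zero, ← hφb]
          refine K.cen_le hT hTM E.2 hD (Ne.symm hED) ?_ x hx.mem
          rw [map_sub, ← hφb]
          exact sub_mem_cen φb hd _
        show φ d (φ x w - w) = φ x w - w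
        rw [map_sub, ← act_mul, hcom.eq, act_mul, show φ d w = w + δ by simp only [δ]; abel, map_add, hδ]
        abel
      have humem : ∀ E' : mems φb p T, E' ≠ E → mk u ∈ fixed φb (E' : Subgroup P) := fun E' hne =>
        K.plane_le_member hT hTM E.2 E'.2 (fun e => hne (Subtype.ext e)) hx.mem hub
      refine ⟨z - u, ?_, ?_, fun E' hE' => ?_⟩
      · rw [map_sub]
        exact sub_mem hzD (humem ⟨D, hD⟩ fun e => hED (congrArg Subtype.val e).symm)
      · rw [sub_sub_eq_add_sub, add_sub_right_comm]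
        exact add_mem hvz huD
      · rw [map_sub]
        rcases Finset.mem_insert.1 hE' with rfl | h
        · rw [← map_sub]
          exact fixed_anti φb (K.blk hT hTM E'.2).1.C_le huw
        · exact sub_mem (hz E' h) (humem E' fun e => hEs (e ▸ h))
  -- a vector fixed by the normalizer of `D` in `T`, outside the fixed vectors of the block
  obtain ⟨d₀, hd₀, hd₀1⟩ := (Subgroup.bot_or_exists_ne_one D).resolve_left hD.1.ne
  obtain ⟨w₀, hw₀⟩ : ∃ w, w ∉ fixed φ D := by
    by_contra h
    push Not at h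
    exact hd₀1 (hfaith d₀ fun v => h v d₀ hd₀)
  obtain ⟨v, hvcen, hvW, hvfix⟩ : ∃ v, mk v ∈ cen φb D ∧ mk v ∉ fixed φb (Hb φb p T D) ∧
      ∀ t ∈ T, Fusion.cj D t = D → φ t v = v := by
    have hl : mk (φ d₀ w₀ - w₀) ∈ cen φb D ∧ mk (φ d₀ w₀ - w₀) ∉ fixed φb (Hb φb p T D) := by
      rw [map_sub, ← hφb]
      exact ⟨sub_mem_cen φb hd₀ _, fun h => hw₀ (hFD _ (N.free d₀ hd₀ hd₀1 _ h))⟩
    by_cases hq : 2 < Nat.card D
    · obtain ⟨x, hx, hq'⟩ := K.exists_rot_of hT hTM hD
      obtain ⟨hxD, hnorm⟩ := hq' hq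
      obtain ⟨m, hm, hxm⟩ := hx.pow
      set Lh := (cen φb D).comap mk
      have hLfix : Lh ≤ fixed φ D := fun l hl => hFD l ((hD.1.cen_le_fixed hexpb hfaithb) hl)
      have hLinv : ∀ {y : P}, Fusion.cj D y = D → ∀ l ∈ Lh, φ y l ∈ Lh := fun {y} hy l hl => by
        show mk (φ y l) ∈ cen φb D
        rw [← hφb]
        have := act_mem_cen φb y (show mk l ∈ cen φb D from hl)
        rwa [hy] at this
      let J : AddSubgroup X :=
        { carrier := {j | ∃ l ∈ Lh, φ x l - l = j}
          zero_mem' := ⟨0, zero_mem _, by rw [map_zero, sub_zero]⟩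
          add_mem' := by
            rintro _ _ ⟨a, ha, rfl⟩ ⟨b, hb, rfl⟩
            exact ⟨a + b, add_mem ha hb, by rw [map_add]; abel⟩
          neg_mem' := by
            rintro _ ⟨a, ha, rfl⟩
            exact ⟨-a, neg_mem ha, by rw [map_neg]; abel⟩ }
      have hJ : ∀ j ∈ J, mk j ∈ fixed φb (Hb φb p T D) → j = 0 := by
        rintro _ ⟨l, -, rfl⟩ h
        refine plane_disjoint hp.out hexp hm hxm (sub_mem_plane φ x l) ?_
        refine eq_zero_of_move hp.out hexp hm hxm (hW x _ ?_)
        rw [← hmk, map_sub, sub_eq_zero, ← hφb]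
        exact h x hx.mem
      have hJ0 : φ x (φ d₀ w₀ - w₀) - (φ d₀ w₀ - w₀) ≠ 0 := fun h => hl.2 (hx.fix _ (by
        rw [hφb, sub_eq_zero.1 h]))
      have hJT : ∀ t ∈ T, Fusion.cj D t = D → ∀ j ∈ J, φ t j ∈ J := by
        rintro t ht htD _ ⟨l, hl', rfl⟩
        have hgH : t * x * t⁻¹ ∈ Hb φb p T D := by
          have := conj_mem_cj (g := t) hx.mem
          rwa [cj_Hb ht, htD] at this
        obtain ⟨i, c, hc, hgx⟩ := hnorm _ hgH (by
          have htD' : Fusion.cj D t⁻¹ = D := by
            conv_lhs => rw [← htD]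
            exact cj_cj_inv D t
          rw [show t * x * t⁻¹ = t * (x * t⁻¹) by group, ← cj_cj, ← cj_cj, htD', hxD, htD])
        have hl2 : φ t l ∈ Lh := hLinv htD l hl'
        have e : φ t (φ x l - l) = φ (x ^ i) (φ t l) - φ t l := by
          have h1 : φ (t * x * t⁻¹) (φ t l) = φ t (φ x l) := by rw [← act_mul, ← act_mul]; congr 2; group
          rw [map_sub, ← h1, hgx, act_mul, hLfix hl2 c hc]
        rw [e]
        clear e hgx
        induction i with
        | zero => rw [pow_zero, act_one, sub_self]; exact zero_mem _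
        | succ i ihi =>
          have hmem : φ (x ^ i) (φ t l) ∈ Lh := by
            clear ihi
            induction i with
            | zero => rw [pow_zero, act_one]; exact hl2
            | succ i ihi => rw [pow_succ', act_mul]; exact hLinv hxD _ ihi
          rw [pow_succ', act_mul,
            show φ x (φ (x ^ i) (φ t l)) - φ t l =
              (φ x (φ (x ^ i) (φ t l)) - φ (x ^ i) (φ t l)) + (φ (x ^ i) (φ t l) - φ t l) by abel]
          exact add_mem ⟨_, hmem, rfl⟩ ihi
      set T₁ : Subgroup P := T ⊓ Subgroup.normalizer (D : Set P)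
      have hT₁ : ∀ t ∈ T₁, ∀ j ∈ J, φ t j ∈ J := fun t ht => hJT t ht.1 (cj_eq_self ht.2)
      letI : MulAction T₁ J :=
        { smul := fun t j => ⟨φ (t : P) j, hT₁ t t.2 j j.2⟩
          one_smul := fun j => Subtype.ext (act_one φ (j : X))
          mul_smul := fun s t j => Subtype.ext (act_mul φ (s : P) (t : P) (j : X)) }
      have hj₀ : φ x (φ d₀ w₀ - w₀) - (φ d₀ w₀ - w₀) ∈ J := ⟨_, hl.1, rfl⟩
      have hdvd : p ∣ Nat.card J := by
        have h1 : addOrderOf (⟨_, hj₀⟩ : J) = p :=
          addOrderOf_eq_prime (Subtype.ext (hexp _)) (fun h => hJ0 (congrArg Subtype.val h))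
        rw [← h1]
        exact addOrderOf_dvd_natCard _
      obtain ⟨⟨j, hj⟩, hfix, hne⟩ := (hT.isPGroup.to_le (inf_le_left : T₁ ≤ T)).exists_fixed_point_of_prime_dvd_card_of_fixed_point J hdvd
        (a := 0) (fun t => Subtype.ext (map_zero (φ (t : P))))
      refine ⟨j, ?_, fun h => hne (Subtype.ext (hJ j hj h).symm), fun t ht htD => ?_⟩
      · obtain ⟨l, hl', rfl⟩ := hj
        exact ((cen φb D).comap mk).sub_mem (hLinv hxD l hl') hl'
      · exact congrArg Subtype.val (hfix ⟨t, ht, mem_normalizer_iff_cj.2 htD⟩)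
    · refine ⟨φ d₀ w₀ - w₀, hl.1, hl.2, fun t ht htD => ?_⟩
      have hcard : Nat.card D = 2 := by
        have h1 : 1 < Nat.card D := (Subgroup.one_lt_card_iff_ne_bot D).2 hD.1.ne
        omega
      have hidx : (fixed φ D).index = 2 := by
        have e : fixed φ D = (fixed φb D).comap mk :=
          le_antisymm (AddSubgroup.map_le_iff_le_comap.1 (hmap D)) hFD
        rw [e, AddSubgroup.index_comap_of_surjective (fixed φb D) hsurj, N.index, hcard]
      have htd : t * d₀ = d₀ * t := by
        have := Mem.eq_or hcard hd₀ hd₀1 (show t * d₀ * t⁻¹ ∈ D by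
          have := conj_mem_cj (g := t) hd₀
          rwa [htD] at this)
        rcases this with h | h
        · exact absurd (by simpa [mul_eq_one_iff_eq_inv] using h) hd₀1
        · exact mul_inv_eq_iff_eq_mul.1 h
      have htw : φ t w₀ ∉ fixed φ D := fun h => hw₀ (by
        have := act_mem_fixed φ t⁻¹ h
        rwa [act_inv_self, show Fusion.cj D t⁻¹ = D by conv_lhs => rw [← htD]; rw [cj_cj_inv]] at this)
      have h2 := ((AddSubgroup.add_mem_iff_of_index_two hidx).2
        (iff_of_false htw (fun h => hw₀ (by simpa using h))) : φ t w₀ + -w₀ ∈ fixed φ D) d₀ hd₀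
      rw [map_add, map_neg, ← sub_eq_add_neg, ← sub_eq_add_neg, sub_eq_sub_iff_sub_eq_sub] at h2
      rw [map_sub, ← act_mul, htd, act_mul]
      exact h2
  -- the orbit sum is fixed by `T`
  choose tt htt htD using fun E : mems φb p T => (K.members hT hTM hD).2.2 (E : Subgroup P) E.2
  have hw : ∀ (E : mems φb p T) (t : P), t ∈ T → Fusion.cj D t = E → φ t v = φ (tt E) v := by
    intro E t ht hte
    have h := hvfix ((tt E)⁻¹ * t) (mul_mem (inv_mem (htt E)) ht) (by
      rw [← cj_cj, hte, ← htD E, cj_cj_inv])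
    have := congrArg (φ (tt E)) h
    rwa [← act_mul, mul_inv_cancel_left] at this
  set z := ∑ E : mems φb p T, φ (tt E) v
  have hz : z ∈ W₀ := by
    intro s hs
    let e : mems φb p T ≃ mems φb p T :=
      { toFun := fun E => ⟨Fusion.cj (E : Subgroup P) s, cj_mem_of_stab (OffBlock.le_stab_mems T hs) E.2⟩
        invFun := fun E => ⟨Fusion.cj (E : Subgroup P) s⁻¹,
          cj_mem_of_stab (OffBlock.le_stab_mems T (inv_mem hs)) E.2⟩
        left_inv := fun E => Subtype.ext (cj_cj_inv _ _)
        right_inv := fun E => Subtype.ext (cj_inv_cj _ _) }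
    show φ s (∑ E, φ (tt E) v) = ∑ E, φ (tt E) v
    rw [map_sum]
    calc ∑ E, φ s (φ (tt E) v) = ∑ E, φ (tt (e E)) v := Finset.sum_congr rfl fun E _ => by
          rw [← act_mul]
          exact hw (e E) _ (mul_mem hs (htt E)) (by rw [← cj_cj, htD]; rfl)
      _ = _ := Equiv.sum_comp e (fun E => φ (tt E) v)
  have h0 : mk z = 0 := (hmk z).2 hz
  rw [map_sum, ← Finset.add_sum_erase _ _ (Finset.mem_univ (⟨D, hD⟩ : mems φb p T))] at h0
  have hself : φ (tt ⟨D, hD⟩) v = v := by
    rw [← hw ⟨D, hD⟩ 1 (one_mem T) (cj_one D), act_one]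
  rw [hself, add_eq_zero_iff_eq_neg] at h0
  refine hvW ?_
  rw [h0]
  refine neg_mem (sum_mem fun E hE => ?_)
  refine K.cen_le hT hTM hD E.2 (fun e => (Finset.ne_of_mem_erase hE) (Subtype.ext e)) ?_
  rw [← hφb, ← htD E]
  exact act_mem_cen φb _ hvcen

end Cfsg.Agent.OffBlock
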