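import Cfsg.Agent.Lib.PushUp.OffBlock.Blocks
import Mathlib.FieldTheory.Finite.Basic

/-!
# Coordinates fixing the line of a member, and the torus
-/

set_option autoImplicit false

namespace Cfsg.Agent.OffBlock

open Cfsg Cfsg.Agent Cfsg.Agent.Fusion Cfsg.Agent.BestOff
open Cfsg.Agent.OffProd (cen off cjS stab sub_mem_cen act_mem_fixed act_mem_cen fixed_anti exists_sl2_col
  sl2_fix_first diag2 coe_diag2_pow)

universe u v

variable {P : Type u} [Group P] {X : Type v} [AddCommGroup X] {φ : P →* AddMonoid.End X} {p : ℕ}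
variable [Finite P] [Finite X] [hp : Fact p.Prime] {M C H : Subgroup P}

omit [Finite P] hp in
theorem exists_not_fixedH (N : Nat2 φ M C H) (hC : C ≠ ⊥) : ∃ l ∈ fixed φ C, l ∉ fixed φ H := by
  by_contra hcon
  simp only [not_exists, not_and, not_not] at hcon
  have h1 : (fixed φ H).index ≤ (fixed φ C).index :=
    Nat.le_of_dvd (Nat.pos_of_ne_zero AddSubgroup.index_ne_zero_of_finite) (AddSubgroup.index_dvd_of_le hcon)
  have h0 : (fixed φ C).index ≠ 0 := AddSubgroup.index_ne_zero_of_finite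
  rw [N.indexH, N.index] at h1
  rw [N.index] at h0
  have h2 : Nat.card C ≠ 1 := fun e => hC (Subgroup.card_eq_one.1 e)
  have h3 : 2 * Nat.card C ≤ Nat.card C * Nat.card C := Nat.mul_le_mul_right _ (by omega)
  omega

omit hp in
/-- Coordinates in which `C` is the stabilizer of the first axis vector. -/
theorem Nat2.coords (N : Nat2 φ M C H) (hC : C ≠ ⊥) :
    ∃ (F : Type v) (_ : Field F) (_ : Fintype F) (R : H →* Matrix.SpecialLinearGroup (Fin 2) F)
      (ψ : X →+ (Fin 2 → F)), Fintype.card F = Nat.card C ∧ Function.Bijective R ∧ Function.Surjective ψ ∧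
      (∀ v, ψ v = 0 ↔ v ∈ fixed φ H) ∧
      (∀ (g : H) (v : X), ψ (φ (g : P) v) = (R g : Matrix (Fin 2) (Fin 2) F).mulVec (ψ v)) ∧
      ∀ g : H, (g : P) ∈ C ↔ (R g : Matrix (Fin 2) (Fin 2) F).mulVec ![1, 0] = ![1, 0] := by
  classical
  obtain ⟨F, _, _, R, ψ, hF, hRb, hψs, hψ0, hact⟩ := N.natural
  obtain ⟨l, hl, hlH⟩ := exists_not_fixedH N hC
  obtain ⟨A, hA⟩ := exists_sl2_col (ψ l) (fun h => hlH ((hψ0 l).1 h))
  let R' : H →* Matrix.SpecialLinearGroup (Fin 2) F := (MulAut.conj A⁻¹).toMonoidHom.comp R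
  have hR' : ∀ g, R' g = A⁻¹ * R g * A := fun g => by
    show A⁻¹ * R g * A⁻¹⁻¹ = _
    rw [inv_inv]
  let ψ' : X →+ (Fin 2 → F) :=
    (Matrix.mulVecLin (A⁻¹ : Matrix.SpecialLinearGroup (Fin 2) F).1).toAddMonoidHom.comp ψ
  have hψ' : ∀ v, ψ' v = (A⁻¹ : Matrix.SpecialLinearGroup (Fin 2) F).1.mulVec (ψ v) := fun _ => rfl
  have hinv : ∀ B : Matrix.SpecialLinearGroup (Fin 2) F, ∀ w : Fin 2 → F,
      B.1.mulVec ((B⁻¹ : Matrix.SpecialLinearGroup (Fin 2) F).1.mulVec w) = w := fun B w => by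
    rw [Matrix.mulVec_mulVec, ← Matrix.SpecialLinearGroup.coe_mul, mul_inv_cancel,
      Matrix.SpecialLinearGroup.coe_one, Matrix.one_mulVec]
  have hinv' : ∀ B : Matrix.SpecialLinearGroup (Fin 2) F, ∀ w : Fin 2 → F,
      (B⁻¹ : Matrix.SpecialLinearGroup (Fin 2) F).1.mulVec (B.1.mulVec w) = w := fun B w => by
    rw [Matrix.mulVec_mulVec, ← Matrix.SpecialLinearGroup.coe_mul, inv_mul_cancel,
      Matrix.SpecialLinearGroup.coe_one, Matrix.one_mulVec]
  have hact' : ∀ (g : H) (v : X), ψ' (φ (g : P) v) = (R' g : Matrix (Fin 2) (Fin 2) F).mulVec (ψ' v) := by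
    intro g v
    rw [hψ', hψ', hact, hR', Matrix.SpecialLinearGroup.coe_mul, Matrix.SpecialLinearGroup.coe_mul,
      ← Matrix.mulVec_mulVec, ← Matrix.mulVec_mulVec, hinv]
  have hl1 : ψ' l = ![1, 0] := by rw [hψ', ← hA, hinv']
  have hCfix : ∀ g : H, (g : P) ∈ C → (R' g : Matrix (Fin 2) (Fin 2) F).mulVec ![1, 0] = ![1, 0] := fun g hg => by
    rw [← hl1, ← hact', hl _ hg]
  have hRb' : Function.Bijective R' := (MulAut.conj A⁻¹).bijective.comp hRb
  refine ⟨F, inferInstance, inferInstance, R', ψ', hF, hRb', fun w => ?_, fun v => ?_, hact',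
    fun g => ⟨hCfix g, fun hg => ?_⟩⟩
  · obtain ⟨v, hv⟩ := hψs (A.1.mulVec w)
    exact ⟨v, by rw [hψ', hv, hinv']⟩
  · rw [← hψ0, hψ']
    exact ⟨fun h => by rw [← hinv A (ψ v), h, Matrix.mulVec_zero], fun h => by rw [h, Matrix.mulVec_zero]⟩
  · let f : C → F := fun c => (R' ⟨c, N.C_le c.2⟩ : Matrix (Fin 2) (Fin 2) F) 0 1
    have heq : ∀ a b : H, (R' a : Matrix (Fin 2) (Fin 2) F).mulVec ![1, 0] = ![1, 0] →
        (R' b : Matrix (Fin 2) (Fin 2) F).mulVec ![1, 0] = ![1, 0] →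
        (R' a : Matrix (Fin 2) (Fin 2) F) 0 1 = (R' b : Matrix (Fin 2) (Fin 2) F) 0 1 → a = b := fun a b ha hb e => by
      refine hRb'.1 (Subtype.ext ?_)
      show (R' a : Matrix (Fin 2) (Fin 2) F) = R' b
      rw [sl2_fix_first ha, sl2_fix_first hb, e]
    have hinj : Function.Injective f := fun a b e => Subtype.ext (congrArg Subtype.val
      (heq ⟨a, N.C_le a.2⟩ ⟨b, N.C_le b.2⟩ (hCfix _ a.2) (hCfix _ b.2) e) :)
    obtain ⟨c, hc⟩ := ((Nat.bijective_iff_injective_and_card f).2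
      ⟨hinj, by rw [Nat.card_eq_fintype_card (α := F), hF]⟩).2 ((R' g : Matrix (Fin 2) (Fin 2) F) 0 1)
    rw [← heq ⟨c, N.C_le c.2⟩ g (hCfix _ c.2) hg hc]
    exact c.2

/-- An element of order prime to `p` with the fixed vectors of `H`; above order two it normalizes `C` and, with
`C`, gives the whole normalizer. -/
theorem Nat2.exists_rot (N : Nat2 φ M C H) (hC : C ≠ ⊥) (hCp : IsPGroup p C) :
    ∃ x, Rot φ p H x ∧ (2 < Nat.card C → Fusion.cj C x = C ∧
      ∀ g ∈ H, Fusion.cj C g = C → ∃ i : ℕ, ∃ c ∈ C, g = x ^ i * c) := by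
  classical
  obtain ⟨F, _, _, R, ψ, hF, hRb, -, hψ0, hact, hmem⟩ := N.coords hC
  obtain ⟨k, hk⟩ := IsPGroup.iff_card.1 hCp
  have hk0 : k ≠ 0 := fun h => hC (Subgroup.card_eq_one.1 (by rw [hk, h, pow_zero]))
  have hrot : ∀ (D : Matrix.SpecialLinearGroup (Fin 2) F) (m : ℕ), m.Coprime p → D ^ m = 1 →
      (∀ w : Fin 2 → F, D.1.mulVec w = w → w = 0) → ∀ x : H, R x = D → Rot φ p H (x : P) := by
    intro D m hm hDm hD x hx
    refine ⟨x.2, ⟨m, hm, ?_⟩, fun v hv => (hψ0 v).1 (hD _ ?_)⟩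
    · rw [← SubmonoidClass.coe_pow]
      exact congrArg Subtype.val (hRb.1 (by rw [map_pow, hx, hDm, map_one] : R (x ^ m) = R 1))
    · rw [← hx, ← hact, hv]
  by_cases h2 : Nat.card C = 2
  · have hp2 : p = 2 := by
      have h : p ∣ 2 := by rw [← h2, hk]; exact dvd_pow_self p hk0
      exact (Nat.prime_dvd_prime_iff_eq hp.out Nat.prime_two).1 h
    have htwo : (2 : F) = 0 := by
      have := FiniteField.cast_card_eq_zero F
      rwa [hF, h2, Nat.cast_ofNat] at this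
    have hone : (1 : F) + 1 = 0 := by rw [one_add_one_eq_two, htwo]
    let D : Matrix.SpecialLinearGroup (Fin 2) F := ⟨!![0, 1; 1, 1], by
      rw [Matrix.det_fin_two]; simp only [Matrix.of_apply, Matrix.cons_val', Matrix.cons_val_zero,
        Matrix.cons_val_one, Matrix.cons_val_fin_one, zero_mul, one_mul, zero_sub]
      linear_combination -hone⟩
    obtain ⟨x, hx⟩ := hRb.2 D
    refine ⟨x, hrot D 3 (by rw [hp2]; norm_num) ?_ (fun w hw => ?_) x hx, fun h => absurd h2 h.ne'⟩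
    · apply Subtype.ext
      rw [Matrix.SpecialLinearGroup.coe_pow, Matrix.SpecialLinearGroup.coe_one, pow_succ, pow_succ, pow_one]
      ext i j
      fin_cases i <;> fin_cases j <;> simp [D, Matrix.mul_apply, Fin.sum_univ_two, hone]
    · have e0 := congrFun hw 0
      have e1 := congrFun hw 1
      simp only [D, Matrix.mulVec, dotProduct, Fin.sum_univ_two, Matrix.of_apply, Matrix.cons_val',
        Matrix.cons_val_zero, Matrix.cons_val_one, Matrix.cons_val_fin_one, zero_mul, one_mul, zero_add] at e0 e1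
      have h0 : w 0 = 0 := by linear_combination e1
      funext i
      fin_cases i
      · exact h0
      · exact e0.trans h0
  · have hq : 2 < Nat.card C := by
      have := hp.out.two_le
      have h1 : p ≤ Nat.card C := by rw [hk]; exact Nat.le_self_pow hk0 p
      omega
    obtain ⟨μ, hμ⟩ := IsCyclic.exists_generator (α := Fˣ)
    have hord : orderOf μ = Nat.card C - 1 := by
      rw [orderOf_eq_card_of_forall_mem_zpowers hμ, Nat.card_eq_fintype_card, Fintype.card_units, hF]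
    have hμ1 : (μ : F) ≠ 1 := fun h => by
      rw [Units.val_eq_one.1 h, orderOf_one] at hord
      omega
    have hdiag : diag2 μ ^ (Nat.card C - 1) = 1 := by
      apply Subtype.ext
      rw [coe_diag2_pow, ← hord, pow_orderOf_eq_one]
      ext i j; fin_cases i <;> fin_cases j <;> simp
    have hcop : (Nat.card C - 1).Coprime p := by
      refine (Nat.Prime.coprime_iff_not_dvd hp.out).2 (fun h => hp.out.one_lt.ne' (Nat.dvd_one.1 ?_)) |>.symm
      have h1 : p ∣ Nat.card C := by rw [hk]; exact dvd_pow_self p hk0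
      have := Nat.dvd_sub h1 h
      rwa [Nat.sub_sub_self (by omega : 1 ≤ Nat.card C)] at this
    obtain ⟨x, hx⟩ := hRb.2 (diag2 μ)
    have hxpow : ∀ n : ℕ, (R (x ^ n) : Matrix (Fin 2) (Fin 2) F).mulVec ![1, 0] = ![((μ ^ n : Fˣ) : F), 0] :=
      fun n => by
        rw [map_pow, hx, coe_diag2_pow]
        funext i; fin_cases i <;> simp [Matrix.mulVec, dotProduct, Fin.sum_univ_two]
    refine ⟨x, hrot _ _ hcop hdiag (fun w hw => ?_) x hx, fun _ => ⟨?_, fun g hg hgC => ?_⟩⟩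
    · have e0 := congrFun hw 0
      have e1 := congrFun hw 1
      simp only [diag2, Matrix.mulVec, dotProduct, Fin.sum_univ_two, Matrix.of_apply, Matrix.cons_val',
        Matrix.cons_val_zero, Matrix.cons_val_one, Matrix.cons_val_fin_one, zero_mul, zero_add, add_zero] at e0 e1
      funext i
      fin_cases i
      · by_contra h
        exact hμ1 ((mul_eq_right₀ h).1 e0)
      · by_contra h
        exact hμ1 (Units.val_eq_one.2 (inv_eq_one.1 (Units.val_eq_one.1 ((mul_eq_right₀ h).1 e1))))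
    · refine Subgroup.eq_of_le_of_card_ge ?_ (card_cj C _).ge
      rintro _ ⟨c, hc, rfl⟩
      refine (hmem (x * ⟨c, N.C_le hc⟩ * x⁻¹)).2 ?_
      have h1 := (hmem ⟨c, N.C_le hc⟩).1 hc
      obtain ⟨n, hn⟩ : ∃ n : ℕ, R x⁻¹ = R (x ^ n) := ⟨orderOf x - 1, by
        congr 1
        rw [inv_eq_iff_mul_eq_one, ← pow_succ', Nat.sub_add_cancel (orderOf_pos x), pow_orderOf_eq_one]⟩
      have h2 : (R (x * ⟨c, N.C_le hc⟩ * x⁻¹) : Matrix (Fin 2) (Fin 2) F).mulVec ![1, 0] =
          (R x : Matrix (Fin 2) (Fin 2) F).mulVec ((R (x ^ n) : Matrix (Fin 2) (Fin 2) F).mulVec ![1, 0]) := by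
        rw [map_mul, map_mul, hn, Matrix.SpecialLinearGroup.coe_mul, Matrix.SpecialLinearGroup.coe_mul,
          ← Matrix.mulVec_mulVec, ← Matrix.mulVec_mulVec, hxpow,
          show ![((μ ^ n : Fˣ) : F), 0] = ((μ ^ n : Fˣ) : F) • ![(1 : F), 0] by simp, Matrix.mulVec_smul, h1]
      rw [h2, Matrix.mulVec_mulVec, ← Matrix.SpecialLinearGroup.coe_mul, ← hn, ← map_mul, mul_inv_cancel,
        map_one, Matrix.SpecialLinearGroup.coe_one, Matrix.one_mulVec]
    · set w := (R ⟨g, hg⟩ : Matrix (Fin 2) (Fin 2) F).mulVec ![1, 0] with hw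
      let f : C → F := fun c => (R ⟨c, N.C_le c.2⟩ : Matrix (Fin 2) (Fin 2) F) 0 1
      have hinj : Function.Injective f := fun a b e => by
        have h : R ⟨a, N.C_le a.2⟩ = R ⟨b, N.C_le b.2⟩ := Subtype.ext (by
          show (R ⟨a, N.C_le a.2⟩ : Matrix (Fin 2) (Fin 2) F) = R ⟨b, N.C_le b.2⟩
          rw [sl2_fix_first ((hmem ⟨a, N.C_le a.2⟩).1 a.2), sl2_fix_first ((hmem ⟨b, N.C_le b.2⟩).1 b.2),
            show (R ⟨a, N.C_le a.2⟩ : Matrix (Fin 2) (Fin 2) F) 0 1 = _ from e])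
        exact Subtype.ext (congrArg Subtype.val (hRb.1 h) :)
      obtain ⟨c, hc⟩ := ((Nat.bijective_iff_injective_and_card f).2
        ⟨hinj, by rw [Nat.card_eq_fintype_card (α := F), hF]⟩).2 1
      have hgc : g⁻¹ * c * g ∈ C := mem_cj.1 (by rw [hgC]; exact c.2)
      have hfix : (R ⟨c, N.C_le c.2⟩ : Matrix (Fin 2) (Fin 2) F).mulVec w = w := by
        have h2 := congrArg ((R ⟨g, hg⟩ : Matrix (Fin 2) (Fin 2) F).mulVec)
          ((hmem ⟨g⁻¹ * c * g, N.C_le hgc⟩).1 hgc)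
        rw [Matrix.mulVec_mulVec, ← Matrix.SpecialLinearGroup.coe_mul, ← map_mul,
          show (⟨g, hg⟩ : H) * ⟨g⁻¹ * c * g, N.C_le hgc⟩ = ⟨c, N.C_le c.2⟩ * ⟨g, hg⟩ from
            Subtype.ext (show g * (g⁻¹ * (c : P) * g) = c * g by group),
          map_mul, Matrix.SpecialLinearGroup.coe_mul, ← Matrix.mulVec_mulVec] at h2
        exact h2
      have hc' : (R ⟨c, N.C_le c.2⟩ : Matrix (Fin 2) (Fin 2) F) 0 1 = 1 := hc
      rw [sl2_fix_first ((hmem ⟨c, N.C_le c.2⟩).1 c.2), hc'] at hfix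
      have hw1 : w 1 = 0 := by
        have := congrFun hfix 0
        simpa [Matrix.mulVec, dotProduct, Fin.sum_univ_two] using this
      have hw0 : w 0 ≠ 0 := fun h0 => by
        have h2 : w = 0 := by funext i; fin_cases i <;> assumption
        have h3 := congrArg (((R ⟨g, hg⟩)⁻¹ : Matrix.SpecialLinearGroup (Fin 2) F).1.mulVec) h2
        rw [hw, Matrix.mulVec_mulVec, ← Matrix.SpecialLinearGroup.coe_mul, inv_mul_cancel,
          Matrix.SpecialLinearGroup.coe_one, Matrix.one_mulVec, Matrix.mulVec_zero] at h3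
        simpa using congrFun h3 0
      obtain ⟨i, hi⟩ := (mem_powers_iff_mem_zpowers (G := Fˣ)).2 (hμ (Units.mk0 (w 0) hw0))
      refine ⟨i, ((x : P) ^ i)⁻¹ * g, ?_, (mul_inv_cancel_left _ _).symm⟩
      refine (hmem ((x ^ i)⁻¹ * ⟨g, hg⟩)).2 ?_
      have h4 : w = (R (x ^ i) : Matrix (Fin 2) (Fin 2) F).mulVec ![1, 0] := by
        rw [hxpow, show μ ^ i = _ from hi]
        funext j; fin_cases j <;> simp [hw1]
      rw [map_mul, Matrix.SpecialLinearGroup.coe_mul, ← Matrix.mulVec_mulVec, ← hw, h4, Matrix.mulVec_mulVec,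
        ← Matrix.SpecialLinearGroup.coe_mul, ← map_mul, inv_mul_cancel, map_one, Matrix.SpecialLinearGroup.coe_one,
        Matrix.one_mulVec]

end Cfsg.Agent.OffBlock
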