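import Cfsg.Agent.Lib.PushUp.OffBlock.Apply
import Cfsg.Prelude.Def_LocalEven

/-!
# The hypotheses of the statements
-/

set_option autoImplicit false
open scoped commutatorElement

namespace Cfsg.Agent.OffBlock

open Cfsg Cfsg.Agent Cfsg.Agent.Fusion Cfsg.Agent.BestOff
open Cfsg.Agent.OffProd (off)

universe u

variable {G : Type u} [Group G] [Finite G] {p : ℕ} [hp : Fact p.Prime]

theorem pMin_uniq {P : Type u} [Group P] [Finite P] {M : Subgroup P} (hM : IsCoatom M)
    (hmin : IsPMinimal p P) : ∀ T, SylIn p T ⊤ → T ≤ M → ∀ H, T ≤ H → H ≠ ⊤ → H ≤ M := by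
  intro T hT hTM H hTH hH
  obtain ⟨S, hS⟩ := hT.exists_sylow
  obtain ⟨N, hN, hle⟩ := (eq_top_or_exists_le_coatom H).resolve_left hH
  obtain ⟨M₀, -, huniq⟩ := (hmin S).2
  rw [huniq M ⟨hM, hS ▸ hTM⟩, ← huniq N ⟨hN, hS ▸ hTH.trans hle⟩]
  exact hle

theorem pMin_of {P : Type u} [Group P] [Finite P] {M : Subgroup P} (hM : IsCoatom M)
    (hmin : IsPMinimal p P) (T : Sylow p P) (hTM : (T : Subgroup P) ≤ M) (hOp : pCore p P = ⊥) : PMin p M where
  M_ne := hM.1
  exT := ⟨T, sylIn_top T, hTM, fun e => (hmin T).1 (e ▸ inferInstance)⟩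
  core := hOp
  uniq := pMin_uniq hM hmin

/-- The module of a subgroup acting faithfully, with its offender. -/
theorem exists_module (V P : Subgroup G) (hV : IsElementaryAbelian p V)
    (hPV : P ≤ Subgroup.normalizer (V : Set G)) (hfaith : P ⊓ Subgroup.centralizer (V : Set G) = ⊥)
    (hoff : ∃ A : Subgroup G, A ≤ P ∧ ¬ A ≤ Subgroup.centralizer (V : Set G) ∧ IsBestOffenderOn p V A) :
    ∃ (X : Type u) (_ : AddCommGroup X) (_ : Finite X) (φ : ↥P →* AddMonoid.End X) (val : X → G),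
      Seen V P.subtype (MonoidHom.id ↥P) φ val ∧ (∀ v : X, p • v = 0) ∧ (∀ g, (∀ v, φ g v = v) → g = 1) ∧
      ∃ A' : Subgroup ↥P, A' ≠ ⊥ ∧ IsPGroup p A' ∧ (∀ a ∈ A', ∀ b ∈ A', Commute a b) ∧
        Nat.card X ≤ off φ A' := by
  obtain ⟨X, _, φ, val, S⟩ := exists_seen V hV.1 P.subtype (MonoidHom.id ↥P) P.subtype_injective
    Function.surjective_id (fun q => hPV q.2) (fun q hq => by
      rw [show q = 1 from hq, map_one]; exact one_mem _)
  haveI : Finite X := Finite.of_injective val S.val_inj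
  have hexp : ∀ v : X, p • v = 0 := fun v => S.val_inj (by
    have h : ∀ n : ℕ, val (n • v) = val v ^ n := fun n => by
      induction n with
      | zero => rw [zero_smul, pow_zero, S.val_zero]
      | succ n ih => rw [succ_nsmul, S.val_add, ih, pow_succ]
    rw [h, S.val_zero]
    exact hV.2 _ (S.val_mem v))
  have hf : ∀ g, (∀ v, φ g v = v) → g = 1 := fun g hg => by
    refine Subtype.ext ?_
    have hmem : (g : G) ∈ P ⊓ Subgroup.centralizer (V : Set G) :=
      Subgroup.mem_inf.2 ⟨g.2, Subgroup.mem_centralizer_iff.2 fun x hx => by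
        obtain ⟨a, rfl⟩ := (S.range x).1 hx
        exact ((S.act_eq g a).1 (hg a)).symm⟩
    rw [hfaith] at hmem
    exact Subgroup.mem_bot.1 hmem
  refine ⟨X, inferInstance, inferInstance, φ, val, S, hexp, hf, ?_⟩
  obtain ⟨A, hAP, hAne, hbest, hcomm, hpow⟩ := hoff
  have htriv : ∀ x : ↥P, (x : G) ∈ Subgroup.centralizer (V : Set G) → x = 1 := fun x hx => by
    have hmem : (x : G) ∈ P ⊓ Subgroup.centralizer (V : Set G) := Subgroup.mem_inf.2 ⟨x.2, hx⟩
    rw [hfaith] at hmem
    exact Subtype.ext (Subgroup.mem_bot.1 hmem)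
  refine ⟨A.subgroupOf P, fun h => hAne fun a ha => ?_, fun a => ⟨1, Subtype.ext (htriv _ ?_)⟩, fun a ha b hb => ?_, ?_⟩
  · have h1 : (⟨a, hAP ha⟩ : ↥P) ∈ A.subgroupOf P := ha
    rw [h, Subgroup.mem_bot] at h1
    rw [show a = 1 from congrArg Subtype.val h1]
    exact one_mem _
  · rw [pow_one]
    simpa using hpow _ a.2
  · refine commutatorElement_eq_one_iff_commute.1 (htriv _ (hcomm ?_))
    rw [commutatorElement_def, Subgroup.coe_mul, Subgroup.coe_mul, Subgroup.coe_mul, Subgroup.coe_inv,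
      Subgroup.coe_inv, ← commutatorElement_def]
    exact Subgroup.commutator_mem_commutator ha hb
  · have himg : Seen.img P.subtype (MonoidHom.id ↥P) (A.subgroupOf P) = A := Subgroup.map_subgroupOf_eq_of_le hAP
    have h1 := hbest ⊥ bot_le
    rw [Subgroup.card_bot, one_mul, Subgroup.coe_bot,
      show Subgroup.centralizer ({1} : Set G) = ⊤ from top_le_iff.1 fun g _ => Subgroup.mem_centralizer_iff.2
        fun y hy => by rw [Set.mem_singleton_iff.1 hy, one_mul, mul_one], inf_top_eq] at h1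
    rw [S.card_X, off, S.card_fixed, himg,
      Nat.card_congr (Subgroup.subgroupOfEquivOfLe hAP).toEquiv]
    exact h1

end Cfsg.Agent.OffBlock
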