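import Cfsg.Agent.Lib.PushUp.OffBlock.Frame

/-!
# The spread of the members of a frame's class

Two members at different points meet in a subspace of index `q ^ 2` of fixed vectors, and the translates of one by
the other cover the rest; so there are `q + 1` points, and members at the same point commute.
-/

set_option autoImplicit false

namespace Cfsg.Agent.OffBlock

open Cfsg Cfsg.Agent Cfsg.Agent.Fusion Cfsg.Agent.BestOff
open Cfsg.Agent.OffProd (cen off cjS stab sub_mem_cen act_mem_fixed act_mem_cen fixed_anti cen_mono off_eq_meas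
  off_bot card_fixed_cj off_cj cjS_one cjS_cjS ncard_cjS mem_cjS mem_stab cj_mem_of_stab mem_stab_of_maps
  le_normalizer_sSup stab_cjS fixed_comp_subgroupOf fixed_comp_top)

universe u v

variable {P : Type u} [Group P] {X : Type v} [AddCommGroup X] (φ : P →* AddMonoid.End X) {p : ℕ}

theorem fixed_sup (A B : Subgroup P) : fixed φ (A ⊔ B) = fixed φ A ⊓ fixed φ B :=
  le_antisymm (le_inf (fixed_anti φ le_sup_left) (fixed_anti φ le_sup_right)) fun v hv g hg => by
    have hle : A ⊔ B ≤ PGV.pstab φ {v} := sup_le (fun a ha w hw => Set.mem_singleton_iff.1 hw ▸ hv.1 a ha)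
      (fun b hb w hw => Set.mem_singleton_iff.1 hw ▸ hv.2 b hb)
    exact hle hg v rfl

theorem mem_fixed_cj {B : Subgroup P} {g : P} {v : X} :
    v ∈ fixed φ (cj B g) ↔ φ g⁻¹ v ∈ fixed φ B := by
  constructor
  · intro h
    have := act_mem_fixed φ g⁻¹ h
    rwa [cj_cj_inv] at this
  · intro h
    have := act_mem_fixed φ g h
    rwa [act_self_inv] at this

theorem index_fixed_cj [Finite X] (B : Subgroup P) (g : P) :
    (fixed φ (cj B g)).index = (fixed φ B).index := by
  refine Nat.eq_of_mul_eq_mul_right (Nat.card_pos (α := fixed φ B)) ?_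
  rw [AddSubgroup.index_mul_card, ← card_fixed_cj φ B g, AddSubgroup.index_mul_card]

theorem eq_bot_of_fixed_top (hfaith : ∀ g, (∀ v, φ g v = v) → g = 1) {B : Subgroup P}
    (h : ∀ v, v ∈ fixed φ B) : B = ⊥ :=
  eq_bot_iff.2 fun b hb => Subgroup.mem_bot.2 (hfaith b fun v => h v b hb)

theorem sup_eq_top_of_index [Finite X] {A B : AddSubgroup X} (h : (A ⊓ B).index = A.index * B.index) :
    A ⊔ B = ⊤ := by
  refine AddSubgroup.eq_top_of_card_eq _ ?_
  have e := PGV.card_inf_mul_sup A B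
  have hA := AddSubgroup.index_mul_card A
  have hB := AddSubgroup.index_mul_card B
  have hI := AddSubgroup.index_mul_card (A ⊓ B)
  rw [h] at hI
  refine Nat.eq_of_mul_eq_mul_right (Nat.card_pos (α := (A ⊓ B : AddSubgroup X))) ?_
  rw [← e]
  refine Nat.eq_of_mul_eq_mul_left (Nat.pos_of_ne_zero (Nat.mul_ne_zero
    (AddSubgroup.index_ne_zero_of_finite (H := A)) (AddSubgroup.index_ne_zero_of_finite (H := B)))) ?_
  calc A.index * B.index * (Nat.card A * Nat.card B)
      = (A.index * Nat.card A) * (B.index * Nat.card B) := by ring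
    _ = _ := by rw [hA, hB, ← mul_left_comm, hI]

/-- `C` generates `H` with each conjugate outside `M`, and the natural module modulo the fixed vectors of `H`. -/
structure Nat2 (M C H : Subgroup P) : Prop where
  C_le : C ≤ H
  exH : ∃ h ∈ H, h ∉ M
  gen : ∀ h ∈ H, h ∉ M → C ⊔ cj C h = H
  index : (fixed φ C).index = Nat.card C
  indexH : (fixed φ H).index = Nat.card C * Nat.card C
  free : ∀ c ∈ C, c ≠ 1 → ∀ v, φ c v - v ∈ fixed φ H → v ∈ fixed φ C
  natural : ∃ (F : Type v) (_ : Field F) (_ : Fintype F) (R : H →* Matrix.SpecialLinearGroup (Fin 2) F)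
    (ψ : X →+ (Fin 2 → F)), Fintype.card F = Nat.card C ∧ Function.Bijective R ∧ Function.Surjective ψ ∧
      (∀ v, ψ v = 0 ↔ v ∈ fixed φ H) ∧
      ∀ (g : H) (v : X), ψ (φ (g : P) v) = (R g : Matrix (Fin 2) (Fin 2) F).mulVec (ψ v)

variable (p) in
/-- A member of the frame's class at the point `a`. -/
structure Cl (M : Subgroup P) (R : Set (Subgroup P)) (B : Subgroup P) (a : P) : Prop where
  mem : Mem φ p B
  le_stab : B ≤ stab R
  not_mem : B ∉ R
  a_mem : a ∈ stab R
  le_cj : B ≤ cj M a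

variable {φ} {M : Subgroup P}

theorem Cl.move {R : Set (Subgroup P)} {B : Subgroup P} {a : P} (h : Cl φ p M R B a) {n : P}
    (hn : n ∈ stab R) : Cl φ p M R (cj B n) (n * a) :=
  ⟨h.mem.cj n, (cj_mono h.le_stab n).trans (cj_eq_self_of_mem hn).le, fun hc => h.not_mem (by
    have := cj_mem_of_stab (inv_mem hn) hc
    rwa [cj_cj_inv] at this), mul_mem hn h.a_mem, by rw [← cj_cj]; exact cj_mono h.le_cj n⟩

theorem Cl.reroot {R : Set (Subgroup P)} {B : Subgroup P} {a : P} (h : Cl φ p M R B a) {a' : P}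
    (ha' : a' ∈ stab R) (e : a⁻¹ * a' ∈ M) : Cl φ p M R B a' :=
  { h with
    a_mem := ha'
    le_cj := by
      rw [show a' = a * (a⁻¹ * a') by group, ← cj_cj, cj_eq_self_of_mem e]
      exact h.le_cj }

theorem Cl.one {R : Set (Subgroup P)} {B : Subgroup P} {a : P} (h : Cl φ p M R B a) :
    Cl φ p M R (cj B a⁻¹) 1 := by
  have := h.move (inv_mem h.a_mem)
  rwa [inv_mul_cancel] at this

variable [Finite P] [Finite X] [hp : Fact p.Prime]

theorem nat2_of_data {C H T : Subgroup P} (hCH : C ≤ H) (hTH : T ≤ H)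
    (D : Data (φ.comp H.subtype) (C.subgroupOf H) (T.subgroupOf H) (M.subgroupOf H) p) :
    Nat2 φ M C H := by
  obtain ⟨-, F, _, _, R, ψ, hF, hRb, hψs, hψ0, hact⟩ := D.exists_natural
  simp only [fixed_comp_top] at hψ0
  have hcard : Nat.card (C.subgroupOf H) = Nat.card C := Nat.card_congr (Subgroup.subgroupOfEquivOfLe hCH).toEquiv
  obtain ⟨x₀, hx₀⟩ := D.notMem_M
  obtain ⟨e1, -, -, eP⟩ := D.equalities hx₀
  rw [fixed_comp_subgroupOf hCH, hcard] at e1
  rw [fixed_comp_top, fixed_comp_subgroupOf hCH, hcard] at eP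
  have hconj : ∀ (x : P) (hx : x ∈ H), (C.subgroupOf H).map (MulAut.conj (⟨x, hx⟩ : H)).toMonoidHom =
      (cj C x).subgroupOf H := fun x hx => by
    ext y
    simp only [Subgroup.mem_subgroupOf, Subgroup.mem_map, MulEquiv.toMonoidHom_eq_coe, MonoidHom.coe_coe,
      MulAut.conj_apply, Subtype.exists]
    constructor
    · rintro ⟨a, haH, ha, rfl⟩
      exact ⟨a, ha, by simp⟩
    · rintro ⟨a, ha, e⟩
      exact ⟨a, hCH ha, ha, Subtype.ext e⟩
  refine ⟨hCH, ⟨x₀, x₀.2, hx₀⟩, fun h hh hhM => ?_, e1, ?_, fun c hc hc1 v hv => ?_,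
    F, inferInstance, inferInstance, R, ψ, hF.trans hcard, hRb, hψs, hψ0, hact⟩
  · have hle : cj C h ≤ H := (cj_mono hCH h).trans (cj_eq_self_of_mem hh).le
    have := D.gen ⟨h, hh⟩ hhM
    rw [hconj h hh, ← Subgroup.subgroupOf_sup hCH hle, Subgroup.subgroupOf_eq_top] at this
    exact le_antisymm (sup_le hCH hle) this
  · rw [← AddSubgroup.relIndex_mul_index (fixed_anti φ hCH), eP, e1]
  · have := D.free (a := ⟨c, hCH hc⟩) hc (fun h => hc1 (congrArg Subtype.val h)) (v := v)
      (by rw [fixed_comp_top]; exact hv)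
    rwa [fixed_comp_subgroupOf hCH] at this

/-- The natural `SL₂` inside a subgroup normalizing the frame and not inside `M`. -/
theorem Frame.exists_natH {T : Subgroup P} {R : Set (Subgroup P)} (F : Frame φ p M T R) (K : Ctx φ p M)
    {C N : Subgroup P} (hC : Mem φ p C) (hCR : C ∉ R) (hCM : C ≤ M) (hCN : C ≤ N) (hN : N ≤ stab R)
    {y₀ : P} (hy₀ : y₀ ∈ N) (hy₀M : y₀ ∉ M) : ∃ H, H ≤ N ∧ Nat2 φ M C H := by
  classical
  obtain ⟨y, ⟨hy, hyM⟩, hmin⟩ := Set.exists_min_image {y | y ∈ N ∧ y ∉ M}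
    (fun y => Nat.card (C ⊔ cj C y : Subgroup P)) (Set.toFinite _) ⟨y₀, hy₀, hy₀M⟩
  set H := C ⊔ cj C y with hH
  have hHN : H ≤ N := sup_le hCN ((cj_mono hCN y).trans (cj_eq_self_of_mem hy).le)
  have hnot : ∀ x ∈ N, x ∉ M → ¬ cj C x ≤ M := fun x hx hxM =>
    F.not_le_M K hC (hCN.trans hN) hCR hCM (hN hx) hxM
  have hgen : ∀ x ∈ H, x ∉ M → C ⊔ cj C x = H := fun x hx hxM => by
    refine Subgroup.eq_of_le_of_card_ge (sup_le le_sup_left ?_) (hmin x ⟨hHN hx, hxM⟩)
    exact (cj_mono (le_sup_left : C ≤ H) x).trans (cj_eq_self_of_mem hx).le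
  obtain ⟨x₀, hx₀, hx₀M⟩ := SetLike.not_le_iff_exists.1
    (fun h : H ≤ M => hnot y hy hyM (le_sup_right.trans h))
  obtain ⟨TH, hTH, hCT⟩ := exists_sylIn_ge hC.isP (le_inf le_sup_left hCM : C ≤ H ⊓ M)
  have hTHH : TH ≤ H := hTH.le.trans inf_le_left
  have hnn : ∀ x ∈ H, x ∈ Subgroup.normalizer (TH : Set P) → x ∈ M := fun x hx hxn => by
    by_contra hxM
    exact hnot x (hHN hx) hxM ((cj_mono hCT x).trans ((cj_eq_self hxn).le.trans (hTH.le.trans inf_le_right)))
  have hsyl : SylIn p TH H := by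
    obtain ⟨S', hS', hle⟩ := exists_sylIn_ge hTH.isPGroup hTHH
    suffices TH = S' from this ▸ hS'
    by_contra hne
    refine (SylIn.normalizer_growth hle hne hS'.isPGroup).ne ?_
    refine (hTH.eq_of_le hS'.isPGroup.to_inf_left (le_inf hle Subgroup.le_normalizer) fun x hx => ?_).symm
    exact ⟨hS'.le hx.1, hnn x (hS'.le hx.1) hx.2⟩
  have D : Data (φ.comp H.subtype) (C.subgroupOf H) (TH.subgroupOf H) (M.subgroupOf H) p :=
    { exp := K.exp
      M_ne := fun e => hx₀M (Subgroup.subgroupOf_eq_top.1 e hx₀)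
      syl := ⟨le_top, hTH.isPGroup.comap_subtype, by rw [Subgroup.relIndex_top_right]; exact hsyl.not_dvd⟩
      T_le := fun x hx => (hTH.le hx).2
      A_le := fun x hx => hCT hx
      not_normal := fun hn => hx₀M (hnn x₀ hx₀ (by
        have := (Subgroup.normal_subgroupOf_iff_le_normalizer hTHH).1 hn
        exact this hx₀))
      gen := fun x hx => by
        have e : (C.subgroupOf H).map (MulAut.conj x).toMonoidHom = (cj C x).subgroupOf H := by
          ext z
          simp only [Subgroup.mem_subgroupOf, Subgroup.mem_map, MulEquiv.toMonoidHom_eq_coe, MonoidHom.coe_coe,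
            MulAut.conj_apply, Subtype.exists]
          constructor
          · rintro ⟨a, haH, ha, rfl⟩
            exact ⟨a, ha, by simp⟩
          · rintro ⟨a, ha, e⟩
            exact ⟨a, (le_sup_left : C ≤ H) ha, ha, Subtype.ext e⟩
        have hle : cj C x ≤ H := (cj_mono (le_sup_left : C ≤ H) x).trans (cj_eq_self_of_mem x.2).le
        rw [e, ← Subgroup.subgroupOf_sup le_sup_left hle, Subgroup.subgroupOf_eq_top]
        exact (hgen x x.2 hx).ge
      quad := fun a ha v c hc => hC.quad K.exp K.faithful a ha v c hc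
      off := by
        rw [fixed_comp_subgroupOf le_sup_left, Nat.card_congr (Subgroup.subgroupOfEquivOfLe le_sup_left).toEquiv]
        exact hC.le_off
      strict := fun A₀ h0 hne hne' => by
        have h1 : A₀.map H.subtype ≤ C := by rintro _ ⟨a, ha, rfl⟩; exact h0 ha
        have h2 : fixed (φ.comp H.subtype) A₀ = fixed φ (A₀.map H.subtype) := by
          ext v
          exact ⟨fun hv => by rintro _ ⟨a, ha, rfl⟩; exact hv a ha, fun hv a ha => hv a ⟨a, ha, rfl⟩⟩
        rw [h2, ← Subgroup.card_map_of_injective H.subtype_injective, fixed_comp_subgroupOf le_sup_left,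
          Nat.card_congr (Subgroup.subgroupOfEquivOfLe le_sup_left).toEquiv]
        refine hC.min _ h1 (fun e => hne ?_) fun e => hne' ?_
        · exact (Subgroup.map_eq_bot_iff_of_injective _ H.subtype_injective).1 e
        · rw [← e, Subgroup.subgroupOf, Subgroup.comap_map_eq_self_of_injective H.subtype_injective]
      faithful := fun g hg => Subtype.ext (K.faithful g hg)
      moved := by
        obtain ⟨Ts, hTs, hTsM, hle⟩ := K.exists_syl_ge hTH.isPGroup (g := 1)
          (by rw [cj_one]; exact hTH.le.trans inf_le_right)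
        rw [cj_one] at hTsM
        obtain ⟨z, hz, hzm⟩ := K.moved Ts hTs hTsM x₀ hx₀M
        exact ⟨z, fun c hc => hz c (hle hc), ⟨x₀, hx₀⟩, hzm⟩ }
  exact ⟨H, hHN, nat2_of_data le_sup_left hTHH D⟩

namespace Frame

variable {T : Subgroup P} {R : Set (Subgroup P)} (F : Frame φ p M T R) (K : Ctx φ p M)
include F K

/-- The index of the fixed vectors of a class member is its order. -/
theorem index_eq {B : Subgroup P} {a : P} (hB : Cl φ p M R B a) : (fixed φ B).index = Nat.card B := by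
  obtain ⟨n, hn, hnM⟩ := F.out
  have h1 := hB.one
  obtain ⟨H, -, N⟩ := F.exists_natH K h1.mem h1.not_mem (by simpa [cj_one] using h1.le_cj) h1.le_stab le_rfl hn hnM
  rw [← index_fixed_cj φ B a⁻¹, N.index, card_cj]

theorem exists_other {B : Subgroup P} {a : P} (hB : Cl φ p M R B a) :
    ∃ B' b, Cl φ p M R B' b ∧ a⁻¹ * b ∉ M := by
  obtain ⟨n, hn, hnM⟩ := F.out
  refine ⟨_, _, hB.move (mul_mem (mul_mem hB.a_mem hn) (inv_mem hB.a_mem)), fun h => hnM ?_⟩
  simpa [mul_assoc] using h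

theorem pair₀ {C B : Subgroup P} {g : P} (hC : Cl φ p M R C 1) (hB : Cl φ p M R B g) (hg : g ∉ M) :
    Nat.card C ≤ Nat.card B ∧ (Nat.card B ≤ Nat.card C →
      (fixed φ C ⊓ fixed φ B).index = Nat.card C * Nat.card C ∧
      ∀ c ∈ C, c ≠ 1 → ∀ v, φ c v - v ∈ fixed φ C ⊓ fixed φ B → v ∈ fixed φ C) := by
  have hCM : C ≤ M := by simpa [cj_one] using hC.le_cj
  obtain ⟨b, hb, hbM⟩ := SetLike.not_le_iff_exists.1
    (fun h : B ≤ M => hg (F.exit₀ K hB.mem hB.le_stab hB.not_mem h hB.a_mem hB.le_cj))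
  obtain ⟨H, hH, N⟩ := F.exists_natH K hC.mem hC.not_mem hCM (le_sup_left : C ≤ C ⊔ B)
    (sup_le hC.le_stab hB.le_stab) (Subgroup.mem_sup_right hb) hbM
  have hle : fixed φ C ⊓ fixed φ B ≤ fixed φ H := (fixed_sup φ C B).ge.trans (fixed_anti φ hH)
  have h1 : (fixed φ H).index ≤ (fixed φ C ⊓ fixed φ B).index :=
    Nat.le_of_dvd (Nat.pos_of_ne_zero AddSubgroup.index_ne_zero_of_finite) (AddSubgroup.index_dvd_of_le hle)
  have h2 : (fixed φ C ⊓ fixed φ B).index ≤ Nat.card C * Nat.card B := by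
    rw [← F.index_eq K hC, ← F.index_eq K hB]
    exact AddSubgroup.index_inf_le
  rw [N.indexH] at h1
  refine ⟨Nat.le_of_mul_le_mul_left (h1.trans h2) Nat.card_pos, fun hle' => ?_⟩
  have e := le_antisymm (h2.trans (Nat.mul_le_mul_left _ hle')) h1
  have heq : fixed φ C ⊓ fixed φ B = fixed φ H := AddSubgroup.eq_of_le_of_card_ge hle (le_of_eq (by
    refine Nat.eq_of_mul_eq_mul_left (Nat.mul_pos (Nat.card_pos (α := C)) (Nat.card_pos (α := C))) ?_
    nth_rewrite 1 [← N.indexH]
    rw [← e, AddSubgroup.index_mul_card, AddSubgroup.index_mul_card]))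
  exact ⟨e, fun c hc hc1 v hv => N.free c hc hc1 v (heq ▸ hv)⟩

theorem card_eq {B B' : Subgroup P} {a b : P} (hB : Cl φ p M R B a) (hB' : Cl φ p M R B' b)
    (hab : a⁻¹ * b ∉ M) : Nat.card B = Nat.card B' := by
  have h1 := (F.pair₀ K hB.one (hB'.move (inv_mem hB.a_mem)) hab).1
  have h2 := (F.pair₀ K hB'.one (hB.move (inv_mem hB'.a_mem))
    (fun h => hab (by simpa using inv_mem h))).1
  rw [card_cj, card_cj] at h1 h2
  exact le_antisymm h1 h2

/-- Two class members at different points. -/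
theorem pair {B B' : Subgroup P} {a b : P} (hB : Cl φ p M R B a) (hB' : Cl φ p M R B' b) (hab : a⁻¹ * b ∉ M) :
    (fixed φ B ⊓ fixed φ B').index = Nat.card B * Nat.card B ∧ fixed φ B ⊔ fixed φ B' = ⊤ ∧
      ∀ c ∈ B, c ≠ 1 → ∀ v, φ c v - v ∈ fixed φ B ⊓ fixed φ B' → v ∈ fixed φ B := by
  obtain ⟨e, hfree⟩ := (F.pair₀ K hB.one (hB'.move (inv_mem hB.a_mem)) hab).2
    (by rw [card_cj, card_cj, F.card_eq K hB hB' hab])
  rw [← fixed_sup, ← cj_sup, index_fixed_cj, fixed_sup, card_cj] at e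
  refine ⟨e, sup_eq_top_of_index ?_, fun c hc hc1 v hv => ?_⟩
  · rw [e, F.index_eq K hB, F.index_eq K hB', F.card_eq K hB hB' hab]
  · have h1 : φ a⁻¹ v ∈ fixed φ (Fusion.cj B a⁻¹) := by
      refine hfree (a⁻¹ * c * a) (mem_cj.2 (by simpa [mul_assoc] using hc)) (fun h => hc1 ?_) _ ?_
      · calc c = a * (a⁻¹ * c * a) * a⁻¹ := by group
          _ = 1 := by rw [h, mul_one, mul_inv_cancel]
      · rw [← act_mul, show a⁻¹ * c * a * a⁻¹ = a⁻¹ * c by group, act_mul, ← map_sub]
        exact ⟨act_mem_fixed φ _ hv.1, act_mem_fixed φ _ hv.2⟩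
    have := act_mem_fixed φ a h1
    rwa [cj_inv_cj, act_self_inv] at this

theorem notMem_translate {B : Subgroup P} {a b c : P} (hB : Cl φ p M R B a) (hab : a⁻¹ * b ∉ M) (hc : c ∈ B) :
    a⁻¹ * (c * b) ∉ M := fun h => hab (by
  have := mul_mem (inv_mem (mem_cj.1 (hB.le_cj hc))) h
  simpa [mul_assoc] using this)

/-- The fixed vectors of a translate meet those of the member in the common part. -/
theorem inf_translate {B B' : Subgroup P} {a b : P} (hB : Cl φ p M R B a) (hB' : Cl φ p M R B' b)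
    (hab : a⁻¹ * b ∉ M) {c : P} (hc : c ∈ B) (hc1 : c ≠ 1) {v : X} (h1 : v ∈ fixed φ (Fusion.cj B' c))
    (h2 : v ∈ fixed φ B') : v ∈ fixed φ B ⊓ fixed φ B' := by
  have h0 : φ c⁻¹ v ∈ fixed φ B' := (mem_fixed_cj φ).1 h1
  have hB0 : φ c⁻¹ v ∈ fixed φ B := by
    refine (F.pair K hB hB' hab).2.2 c hc hc1 _ ⟨hB.mem.quad K.exp K.faithful c hc _, ?_⟩
    rw [act_self_inv]
    exact (fixed φ B').sub_mem h2 h0
  refine ⟨?_, h2⟩
  have := hB0 c hc
  rw [act_self_inv] at this
  rw [this]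
  exact hB0

/-- The translates cover. -/
theorem cover {B B' : Subgroup P} {a b : P} (hB : Cl φ p M R B a) (hB' : Cl φ p M R B' b)
    (hab : a⁻¹ * b ∉ M) (v : X) : v ∈ fixed φ B ∨ ∃ c ∈ B, v ∈ fixed φ (Fusion.cj B' c) := by
  obtain ⟨hidx, hsup, hfree⟩ := F.pair K hB hB' hab
  set W := fixed φ B ⊓ fixed φ B'
  obtain ⟨x, hx, y, hy, rfl⟩ := AddSubgroup.mem_sup.1 (hsup.ge (AddSubgroup.mem_top v))
  by_cases hyB : y ∈ fixed φ B
  · exact Or.inl (add_mem hx hyB)
  right
  let f : B → fixed φ B ⧸ W.addSubgroupOf (fixed φ B) := fun c =>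
    QuotientAddGroup.mk ⟨φ (c : P) y - y, hB.mem.quad K.exp K.faithful c c.2 y⟩
  have hinj : Function.Injective f := fun c d e => by
    by_contra hne
    have h1 : (φ (d : P) y - y) - (φ (c : P) y - y) ∈ W := by
      have := QuotientAddGroup.eq_iff_sub_mem.1 e.symm
      exact this
    rw [sub_sub_sub_cancel_right] at h1
    refine hyB (hfree ((c : P)⁻¹ * d) (mul_mem (inv_mem c.2) d.2)
      (fun h => hne (Subtype.ext (inv_mul_eq_one.1 h))) y ?_)
    have hw : φ (c : P)⁻¹ (φ (d : P) y - φ (c : P) y) = φ (d : P) y - φ (c : P) y := h1.1 _ (inv_mem c.2)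
    have e' : φ ((c : P)⁻¹ * d) y - y = φ (c : P)⁻¹ (φ (d : P) y - φ (c : P) y) := by
      rw [map_sub, act_inv_self, act_mul]
    rw [e', hw]
    exact h1
  have hq : Nat.card (fixed φ B ⧸ W.addSubgroupOf (fixed φ B)) = Nat.card B := by
    show W.relIndex (fixed φ B) = _
    have := AddSubgroup.relIndex_mul_index (inf_le_left : W ≤ fixed φ B)
    rw [hidx, F.index_eq K hB] at this
    exact Nat.eq_of_mul_eq_mul_right (Nat.card_pos (α := B)) this
  obtain ⟨c, hc⟩ := ((Nat.bijective_iff_injective_and_card f).2 ⟨hinj, hq.symm⟩).2 (QuotientAddGroup.mk ⟨x, hx⟩)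
  refine ⟨c, c.2, ?_⟩
  simp only [f] at hc
  have hw : (φ (c : P) y - y) - x ∈ W := by
    have := QuotientAddGroup.eq_iff_sub_mem.1 hc
    exact this
  have e : x + y = φ (c : P) y - ((φ (c : P) y - y) - x) := by abel
  rw [e]
  refine sub_mem (act_mem_fixed φ _ hy) ((mem_fixed_cj φ).2 ?_)
  rw [hw.1 _ (inv_mem c.2)]
  exact hw.2

/-- Members at one point move into each other's fixed vectors. -/
theorem same_cen {B₁ B₂ : Subgroup P} {a : P} (h₁ : Cl φ p M R B₁ a) (h₂ : Cl φ p M R B₂ a) :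
    cen φ B₂ ≤ fixed φ B₁ := by
  obtain ⟨B', b, hB', hab⟩ := F.exists_other K h₁
  refine (AddSubgroup.closure_le _).2 ?_
  rintro _ ⟨v, x, hx, rfl⟩
  have hu : φ x v - v ∈ fixed φ B₂ := h₂.mem.quad K.exp K.faithful x hx v
  rcases F.cover K h₁ hB' hab (φ x v - v) with h | ⟨c, hc, h⟩
  · exact h
  by_cases hx1 : x = 1
  · rw [hx1, act_one, sub_self]
    exact zero_mem _
  have hv := (F.pair K h₂ (hB'.move (h₁.le_stab hc)) (F.notMem_translate K h₁ hab hc)).2.2 x hx hx1 v ⟨hu, h⟩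
  rw [hv x hx, sub_self]
  exact zero_mem _

theorem commute_same {B C : Subgroup P} {a : P} (hB : Cl φ p M R B a) (hC : Cl φ p M R C a) :
    ∀ b ∈ B, ∀ c ∈ C, Commute b c := by
  intro b hb c hc
  have h1 : ∀ v, φ c (φ b v - v) = φ b v - v := fun v => F.same_cen K hC hB (sub_mem_cen φ hb v) c hc
  have h2 : ∀ v, φ b (φ c v - v) = φ c v - v := fun v => F.same_cen K hB hC (sub_mem_cen φ hc v) b hb
  refine commutatorElement_eq_one_iff_commute.1 (K.faithful _ fun v => ?_)
  have e : ∀ w, φ (b * c) w = φ (c * b) w := fun w => by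
    have a1 := h1 w
    have a2 := h2 w
    rw [map_sub] at a1 a2
    rw [act_mul, act_mul]
    calc φ b (φ c w) = (φ b (φ c w) - φ b w) + φ b w := by abel
      _ = (φ c w - w) + φ b w := by rw [a2]
      _ = φ c w + (φ b w - w) := by abel
      _ = φ c w + (φ c (φ b w) - φ c w) := by rw [a1]
      _ = _ := by abel
  rw [commutatorElement_def, mul_assoc (b * c), ← mul_inv_rev, act_mul, e, ← act_mul, mul_inv_cancel, act_one]

/-- An element of a class member lies in no other conjugate of `M` seen in the stabilizer. -/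
theorem tc {B : Subgroup P} {a : P} (hB : Cl φ p M R B a) {b : P} (hb : b ∈ stab R) (hab : a⁻¹ * b ∉ M)
    {c : P} (hc : c ∈ B) (hcb : c ∈ Fusion.cj M b) : c = 1 := by
  by_contra hc1
  have hB' : Cl φ p M R (Fusion.cj B (b * a⁻¹)) b := by
    have := hB.move (mul_mem hb (inv_mem hB.a_mem))
    rwa [inv_mul_cancel_right] at this
  have hB'' := (hB'.move (hB.le_stab hc)).reroot hb (by
    have := inv_mem (mem_cj.1 hcb)
    simpa [mul_assoc] using this)
  refine hB''.mem.ne (eq_bot_of_fixed_top φ K.faithful fun v x hx => ?_)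
  by_cases hx1 : x = 1
  · rw [hx1, act_one]
  have hu := hB''.mem.quad K.exp K.faithful x hx v
  have hW := F.inf_translate K hB hB' hab hc hc1 hu (F.same_cen K hB' hB'' (sub_mem_cen φ hx v))
  exact (F.pair K hB'' hB (fun h => hab (by simpa using inv_mem h))).2.2 x hx hx1 v ⟨hu, hW.1⟩ x hx

/-- The points: the one of `C` and the translates by `C` of another. -/
theorem point_cases {C B' B : Subgroup P} {a b g : P} (hC : Cl φ p M R C a) (hB' : Cl φ p M R B' b)
    (hab : a⁻¹ * b ∉ M) (hB : Cl φ p M R B g) (hag : a⁻¹ * g ∉ M) : ∃ c ∈ C, (c * b)⁻¹ * g ∈ M := by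
  by_contra hcon
  simp only [not_exists, not_and] at hcon
  refine hB.mem.ne (eq_bot_of_fixed_top φ K.faithful fun v x hx => ?_)
  by_cases hx1 : x = 1
  · rw [hx1, act_one]
  have hu := hB.mem.quad K.exp K.faithful x hx v
  rcases F.cover K hC hB' hab (φ x v - v) with h | ⟨c, hc, h⟩
  · exact (F.pair K hB hC (fun h' => hag (by simpa using inv_mem h'))).2.2 x hx hx1 v ⟨hu, h⟩ x hx
  · exact (F.pair K hB (hB'.move (hC.le_stab hc)) (fun h' => hcon c hc (by simpa using inv_mem h'))).2.2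
      x hx hx1 v ⟨hu, h⟩ x hx

/-- The conjugates of `M` seen in the stabilizer are `M` and the translates of one of them by `C`. -/
theorem class_cases {C : Subgroup P} (hC : Cl φ p M R C 1) {h g : P} (hh : h ∈ stab R) (hhM : h ∉ M)
    (hg : g ∈ stab R) : g ∈ M ∨ ∃ c ∈ C, (c * h)⁻¹ * g ∈ M := by
  by_cases hgM : g ∈ M
  · exact Or.inl hgM
  refine Or.inr (F.point_cases K hC (B' := Fusion.cj C h) (B := Fusion.cj C g) (b := h) (g := g) ?_ (by simpa using hhM) ?_ (by simpa using hgM))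
  · simpa using hC.move hh
  · simpa using hC.move hg

end Frame

end Cfsg.Agent.OffBlock
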