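import Cfsg.Agent.Lib.PushUp.OffBlock.Tv
import Mathlib.GroupTheory.Perm.Sign
import Mathlib.Algebra.BigOperators.Ring.Finset

/-!
# A star of transvections generates a symmetric group on its even weight module

`u : Y → X` and functionals `a` with `a x (u y) = 1` exactly for `x ≠ y`, `|Y|` even: the transvections
`c x` generate the symmetric group on `Option Y`, the transposition `(none, some x)` acting as `c x`.
-/

set_option autoImplicit false

namespace Cfsg.Agent.OffBlock

open Cfsg Cfsg.Agent Cfsg.Agent.Fusion Cfsg.Agent.BestOff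
open Cfsg.Agent.OffProd (cen sub_mem_cen fixed_anti)

universe u v w

variable {P : Type u} [Group P] [Finite P] {X : Type v} [AddCommGroup X] [Module (ZMod 2) X]
variable {φ : P →* AddMonoid.End X} (hfaith : ∀ g, (∀ v, φ g v = v) → g = 1)
variable {Y : Type w} [Fintype Y] [DecidableEq Y] (c : Y → P) (uu : Y → X) (a : Y → (X →ₗ[ZMod 2] ZMod 2))
  (htv : ∀ x, Tv φ (c x) (uu x) (a x)) (hval : ∀ x y, a x (uu y) = if x = y then 0 else 1)
  (hev : Even (Fintype.card Y)) (hY : 2 ≤ Fintype.card Y)
include hfaith htv hval hev hY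

theorem star_symm :
    ∃ (R : (Subgroup.closure (Set.range c)) ≃* Equiv.Perm (Option Y)) (ψ : X →+ (Option Y → ZMod 2)),
      (∀ v, ∑ i, ψ v i = 0) ∧
      (∀ w : Option Y → ZMod 2, ∑ i, w i = 0 → ∃ z ∈ cen φ (Subgroup.closure (Set.range c)), ψ z = w) ∧
      (∀ v, ψ v = 0 ↔ v ∈ fixed φ (Subgroup.closure (Set.range c))) ∧
      (∀ (g : Subgroup.closure (Set.range c)) (v : X) (i : Option Y),
        ψ (φ (g : P) v) i = ψ v ((R g)⁻¹ i)) ∧
      (∀ v, ∃ z ∈ AddSubgroup.closure (Set.range uu), v - z ∈ fixed φ (Subgroup.closure (Set.range c))) ∧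
      (∀ x, uu x ∈ cen φ (Subgroup.closure (Set.range c))) ∧
      cen φ (Subgroup.closure (Set.range c)) ≤ AddSubgroup.closure (Set.range uu) := by
  classical
  set H := Subgroup.closure (Set.range c)
  have hcH : ∀ x, c x ∈ H := fun x => Subgroup.subset_closure ⟨x, rfl⟩
  have hucen : ∀ x, uu x ∈ cen φ H := fun x => by
    obtain ⟨v, hv⟩ := (htv x).surj
    rw [← add_sub_cancel_left v (uu x), ← (htv x).act_one' hv]
    exact sub_mem_cen φ (hcH x) v
  have hodd : ((Fintype.card (Option Y) : ℕ) : ZMod 2) = 1 := by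
    obtain ⟨k, hk⟩ := hev
    rw [Fintype.card_option, hk, Nat.cast_add, Nat.cast_add, Nat.cast_one]
    rcases zmod2_cases ((k : ℕ) : ZMod 2) with h | h <;> rw [h] <;> decide
  -- coordinates
  let G : X → Option Y → ZMod 2 := fun v i => i.elim 0 fun x => a x v
  have hGadd : ∀ v w i, G (v + w) i = G v i + G w i := fun v w i => by
    cases i with
    | none => exact (add_zero _).symm
    | some x => exact map_add (a x) v w
  let Fm : X →+ (Option Y → ZMod 2) := AddMonoidHom.mk' (fun v i => G v i + ∑ j, G v j) fun v w => funext fun i => by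
    show G (v + w) i + ∑ j, G (v + w) j = G v i + ∑ j, G v j + (G w i + ∑ j, G w j)
    simp only [hGadd, Finset.sum_add_distrib]
    abel
  have hFm : ∀ v i, Fm v i = G v i + ∑ j, G v j := fun _ _ => rfl
  have hFsum : ∀ v, ∑ i, Fm v i = 0 := fun v => by
    simp only [hFm, Finset.sum_add_distrib, Finset.sum_const, Finset.card_univ, nsmul_eq_mul, hodd, one_mul]
    exact add_self_eq_zero' _
  let pm : (Option Y → ZMod 2) → X := fun w => ∑ x, w (some x) • uu x
  have pm_add : ∀ w w', pm (w + w') = pm w + pm w' := fun w w' => by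
    simp only [pm, Pi.add_apply, add_smul, Finset.sum_add_distrib]
  have pm_mem : ∀ w, pm w ∈ AddSubgroup.closure (Set.range uu) := fun w => sum_mem fun x _ => by
    rcases zmod2_cases (w (some x)) with h | h <;> rw [h]
    · rw [zero_smul]; exact zero_mem _
    · rw [one_smul]; exact AddSubgroup.subset_closure ⟨x, rfl⟩
  have hFp : ∀ w, ∑ i, w i = 0 → Fm (pm w) = w := fun w hw => by
    have hG : ∀ i, G (pm w) i = w i + w none := fun i => by
      cases i with
      | none => exact (add_self_eq_zero' _).symm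
      | some x =>
        show a x (pm w) = _
        rw [Fintype.sum_option] at hw
        simp only [pm, map_sum, map_smul, hval, smul_eq_mul, mul_ite, mul_zero, mul_one]
        have : ∑ y, (if x = y then 0 else w (some y)) + w (some x) = ∑ y, w (some y) := by
          rw [← Finset.sum_erase_add _ _ (Finset.mem_univ x), ← Finset.sum_erase_add _ (fun y => w (some y))
            (Finset.mem_univ x), if_pos rfl, add_zero]
          congr 1
          exact Finset.sum_congr rfl fun y hy => if_neg (Ne.symm (Finset.ne_of_mem_erase hy))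
        rw [add_eq_zero_iff_eq_neg] at hw
        rw [← add_right_inj (w (some x)), add_comm, this, ← add_assoc, add_self_eq_zero', zero_add, hw]
        rcases zmod2_cases (∑ y, w (some y)) with h | h <;> rw [h] <;> decide
    funext i
    rw [hFm, hG]
    have hs : ∑ j, G (pm w) j = w none := by
      simp only [hG, Finset.sum_add_distrib, hw, Finset.sum_const, Finset.card_univ, nsmul_eq_mul, hodd, one_mul,
        zero_add]
    rw [hs, add_assoc, add_self_eq_zero', add_zero]
  -- the permutations acting
  let act : Equiv.Perm (Option Y) → (Option Y → ZMod 2) → (Option Y → ZMod 2) := fun σ w i => w (σ⁻¹ i)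
  have hact_sum : ∀ σ w, ∑ i, act σ w i = ∑ i, w i := fun σ w => Equiv.sum_comp σ⁻¹ w
  let rho : Equiv.Perm (Option Y) → X → X := fun σ v => v + (pm (act σ (Fm v)) + pm (Fm v))
  have hFrho : ∀ σ v, Fm (rho σ v) = act σ (Fm v) := fun σ v => by
    simp only [rho, map_add, hFp _ (hFsum v), hFp _ ((hact_sum σ _).trans (hFsum v))]
    rw [add_left_comm, add_self_eq_zero', add_zero]
  have hrho_mul : ∀ σ τ v, rho (σ * τ) v = rho σ (rho τ v) := fun σ τ v => by
    have h1 := hFrho τ v
    show v + (pm (act (σ * τ) (Fm v)) + pm (Fm v)) = rho τ v + (pm (act σ (Fm (rho τ v))) + pm (Fm (rho τ v)))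
    rw [h1, show act σ (act τ (Fm v)) = act (σ * τ) (Fm v) from funext fun i => by
      simp only [act, mul_inv_rev, Equiv.Perm.mul_apply]]
    show _ = v + (pm (act τ (Fm v)) + pm (Fm v)) + (pm (act (σ * τ) (Fm v)) + pm (act τ (Fm v)))
    calc v + (pm (act (σ * τ) (Fm v)) + pm (Fm v))
        = v + (pm (act (σ * τ) (Fm v)) + pm (Fm v)) + (pm (act τ (Fm v)) + pm (act τ (Fm v))) := by
          rw [add_self_eq_zero', add_zero]
      _ = _ := by abel
  have hrho_one : ∀ v, rho 1 v = v := fun v => by
    show v + (pm (act 1 (Fm v)) + pm (Fm v)) = v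
    rw [show act 1 (Fm v) = Fm v from funext fun i => rfl, add_self_eq_zero', add_zero]
  have hswap : ∀ x v, rho (Equiv.swap none (some x)) v = φ (c x) v := fun x v => by
    rw [(htv x).act]
    show v + (pm (act _ (Fm v)) + pm (Fm v)) = _
    rw [← pm_add]
    congr 1
    simp only [pm, Pi.add_apply]
    rw [Finset.sum_eq_single x]
    · congr 1
      simp only [act, Equiv.swap_inv, Equiv.swap_apply_right, hFm]
      show (0 : ZMod 2) + _ + (a x v + _) = _
      rw [zero_add, ← add_assoc, add_comm _ (a x v), add_assoc, add_self_eq_zero', add_zero]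
    · intro y _ hy
      simp only [act, Equiv.swap_inv]
      rw [Equiv.swap_apply_of_ne_of_ne (Option.some_ne_none y) (fun h => hy (Option.some_injective _ h)),
        add_self_eq_zero', zero_smul]
    · exact fun h => absurd (Finset.mem_univ x) h
  have huniq : ∀ g g' : P, (∀ v, φ g v = φ g' v) → g = g' := fun g g' h =>
    (inv_mul_eq_one.1 (hfaith _ fun v => by rw [act_mul, h, act_inv_self])).symm
  -- every permutation is realized
  let Sg : Subgroup (Equiv.Perm (Option Y)) :=
    { carrier := {σ | ∃ g ∈ H, ∀ v, φ g v = rho σ v}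
      one_mem' := ⟨1, one_mem _, fun v => by rw [act_one, hrho_one]⟩
      mul_mem' := fun {σ τ} ⟨g, hg, h⟩ ⟨g', hg', h'⟩ =>
        ⟨g * g', mul_mem hg hg', fun v => by rw [act_mul, h', h, hrho_mul]⟩
      inv_mem' := fun {σ} ⟨g, hg, h⟩ => ⟨g⁻¹, inv_mem hg, fun v => by
        conv_lhs => rw [← hrho_one v, ← mul_inv_cancel σ, hrho_mul, ← h, act_inv_self]⟩ }
  have hstar : ∀ x, Equiv.swap none (some x) ∈ Sg := fun x => ⟨c x, hcH x, fun v => (hswap x v).symm⟩
  have hSg : ∀ σ, σ ∈ Sg := by
    have hall : ∀ i j : Option Y, i ≠ j → Equiv.swap i j ∈ Sg := by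
      intro i j hij
      cases i with
      | none => cases j with
        | none => exact absurd rfl hij
        | some y => exact hstar y
      | some x => cases j with
        | none => rw [Equiv.swap_comm]; exact hstar x
        | some y =>
          rw [show Equiv.swap (some x) (some y) = Equiv.swap none (some x) * Equiv.swap none (some y) *
              Equiv.swap none (some x) from ?_]
          · exact mul_mem (mul_mem (hstar x) (hstar y)) (hstar x)
          · have := Equiv.swap_mul_swap_mul_swap (x := some y) (y := (none : Option Y)) (z := some x)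
              (Option.some_ne_none y) hij.symm
            rw [Equiv.swap_comm (some y) none] at this
            exact this.symm
    intro σ
    have : σ ∈ Subgroup.closure {σ : Equiv.Perm (Option Y) | σ.IsSwap} := by
      rw [Equiv.Perm.closure_isSwap]; exact Subgroup.mem_top σ
    refine (Subgroup.closure_le _).2 ?_ this
    rintro _ ⟨i, j, hij, rfl⟩
    exact hall i j hij
  choose Θ hΘ hΘv using hSg
  have hinj : Function.Injective Θ := fun σ τ h => by
    by_contra hne
    obtain ⟨i, hi⟩ : ∃ i, σ i ≠ τ i := by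
      by_contra hcon
      push Not at hcon
      exact hne (Equiv.ext hcon)
    obtain ⟨k, hk⟩ : ∃ k : Option Y, k ≠ i ∧ k ≠ τ⁻¹ (σ i) := by
      by_contra hcon
      push Not at hcon
      have : (Finset.univ : Finset (Option Y)) ⊆ {i, τ⁻¹ (σ i)} := fun k _ => by
        by_cases hki : k = i
        · simp [hki]
        · simp [hcon k hki]
      have := (Finset.card_le_card this).trans Finset.card_le_two
      rw [Finset.card_univ, Fintype.card_option] at this
      omega
    set w : Option Y → ZMod 2 := fun l => (if l = i then 1 else 0) + (if l = k then 1 else 0)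
    have hw : ∑ l, w l = 0 := by
      simp only [w, Finset.sum_add_distrib, Finset.sum_ite_eq', Finset.mem_univ, if_true]
      exact add_self_eq_zero' _
    have e1 : Fm (rho σ (pm w)) = Fm (rho τ (pm w)) := by rw [← hΘv, ← hΘv, h]
    rw [hFrho, hFrho, hFp w hw] at e1
    have e2 := congrFun e1 (σ i)
    simp only [act, w, Equiv.Perm.inv_def, Equiv.symm_apply_apply] at e2
    have hne' : τ.symm (σ i) ≠ i := fun h' => hi (by conv_rhs => rw [← h', Equiv.apply_symm_apply])
    rw [if_pos trivial, if_neg (fun h' => hk.1 h'.symm), if_neg hne', if_neg (fun h' => hk.2 h'.symm)] at e2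
    revert e2
    decide
  let Θ' : Equiv.Perm (Option Y) →* H := MonoidHom.mk' (fun σ => ⟨Θ σ, hΘ σ⟩) fun σ τ => Subtype.ext
    (huniq _ _ fun v => by
      show φ (Θ (σ * τ)) v = φ (Θ σ * Θ τ) v
      rw [hΘv, hrho_mul, act_mul, hΘv, hΘv])
  have hbij : Function.Bijective Θ' := by
    refine ⟨fun σ τ h => hinj (congrArg Subtype.val h), fun g => ?_⟩
    have hle : H ≤ Θ'.range.map H.subtype := (Subgroup.closure_le _).2 (by
      rintro _ ⟨x, rfl⟩
      refine ⟨Θ' (Equiv.swap none (some x)), ⟨_, rfl⟩, huniq _ _ fun v => ?_⟩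
      show φ (Θ _) v = _
      rw [hΘv, hswap])
    obtain ⟨g', ⟨σ, rfl⟩, hg'⟩ := hle g.2
    exact ⟨σ, Subtype.ext hg'⟩
  let R := (MulEquiv.ofBijective Θ' hbij).symm
  have hRact : ∀ (g : H) v, φ (g : P) v = rho (R g) v := fun g v => by
    conv_lhs => rw [← (MulEquiv.ofBijective Θ' hbij).apply_symm_apply g]
    exact hΘv _ v
  have hfix : ∀ v, Fm v = 0 → v ∈ fixed φ H := fun v hv g hg => by
    rw [hRact ⟨g, hg⟩]
    show v + (pm (act _ (Fm v)) + pm (Fm v)) = v
    rw [hv, show act (R ⟨g, hg⟩) 0 = 0 from rfl, add_self_eq_zero', add_zero]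
  refine ⟨R, Fm, hFsum, fun w hw => ⟨pm w, ?_, hFp w hw⟩, fun v => ⟨hfix v, fun hv => ?_⟩,
    fun g v i => ?_, fun v => ⟨pm (Fm v), pm_mem _, hfix _ ?_⟩, hucen, (AddSubgroup.closure_le _).2 ?_⟩
  · exact (AddSubgroup.closure_le _).2 (by rintro _ ⟨x, rfl⟩; exact hucen x) (pm_mem w)
  · have hG : ∀ i, G v i = 0 := fun i => by
      cases i with
      | none => rfl
      | some x =>
        have := hv _ (hcH x)
        rw [(htv x).act, add_eq_left] at this
        rcases zmod2_cases (a x v) with h | h
        · exact h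
        · rw [h, one_smul] at this; exact absurd this (htv x).ne
    funext i
    simp [hFm, hG]
  · rw [hRact, hFrho]
  · rw [map_sub, hFp _ (hFsum v), sub_self]
  · rintro _ ⟨v, g, hg, rfl⟩
    show φ g v - v ∈ _
    rw [hRact ⟨g, hg⟩]
    show v + (pm (act _ (Fm v)) + pm (Fm v)) - v ∈ _
    rw [add_sub_cancel_left]
    exact add_mem (pm_mem _) (pm_mem _)

end Cfsg.Agent.OffBlock
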