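import Cfsg.Agent.Lib.PushUp.OffBlock.Sys
import Cfsg.Agent.Lib.PushUp.OffBlock.Star
import Mathlib.GroupTheory.GroupAction.Quotient
import Mathlib.Algebra.BigOperators.Fin

/-!
# Members of order two give commuting symmetric groups
-/

set_option autoImplicit false

namespace Cfsg.Agent.OffBlock

open Cfsg Cfsg.Agent Cfsg.Agent.Fusion Cfsg.Agent.BestOff
open Cfsg.Agent.OffProd (cen off cjS stab sub_mem_cen act_mem_fixed act_mem_cen fixed_anti cen_mono
  mem_stab cj_mem_of_stab)

universe u v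

variable {P : Type u} [Group P] {X : Type v} [AddCommGroup X] [Module (ZMod 2) X] {φ : P →* AddMonoid.End X}
variable [Finite P] [Finite X] [hp : Fact (Nat.Prime 2)] {M T : Subgroup P}
variable (K : Ctx φ 2 M) (hT : SylIn 2 T ⊤) (hTM : T ≤ M) (h2 : ∀ D : Subgroup P, Mem φ 2 D → Nat.card D = 2)

namespace Sys

variable (S : Sys φ T)

/-- The three transvections: two outside `T`. -/
def cc (x : mems φ 2 T × Bool) : P := if x.2 then S.c x.1 * S.c' x.1 * (S.c x.1)⁻¹ else S.c' x.1

/-- Their centres. -/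
def uu (x : mems φ 2 T × Bool) : X := if x.2 then S.e' x.1 + S.e x.1 else S.e' x.1

/-- Their functionals. -/
def aa (x : mems φ 2 T × Bool) : X →ₗ[ZMod 2] ZMod 2 := if x.2 then S.α' x.1 + S.α x.1 else S.α' x.1

include K hT hTM h2

theorem tv_cc (x : mems φ 2 T × Bool) : Tv φ (cc S x) (uu S x) (aa S x) := by
  obtain ⟨D, b⟩ := x
  cases b
  · exact S.tv' D
  · exact (S.tv' D).conj_tv K.faithful (S.tv D) (S.cross' D) (S.cross D)

theorem cc_mem (x : mems φ 2 T × Bool) : cc S x ∈ Hb φ 2 T (x.1 : Subgroup P) := by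
  obtain ⟨D, b⟩ := x
  have h := (K.blk hT hTM D.2).1.C_le (S.c_mem D)
  cases b
  · exact S.c'_mem D
  · exact mul_mem (mul_mem h (S.c'_mem D)) (inv_mem h)

theorem c_eq (D : mems φ 2 T) : cc S (D, false) * cc S (D, true) * (cc S (D, false))⁻¹ = S.c D := by
  have h0 := tv_cc K hT hTM h2 S (D, false)
  have h1 := tv_cc K hT hTM h2 S (D, true)
  have h := h1.conj_tv K.faithful h0 (by
    show (S.α' D + S.α D) (S.e' D) = 1
    rw [LinearMap.add_apply, (S.tv' D).zero, S.cross, zero_add]) (by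
    show S.α' D (S.e' D + S.e D) = 1
    rw [map_add, (S.tv' D).zero, S.cross', zero_add])
  refine h.eq K.faithful ?_
  have e1 : uu S (D, true) + uu S (D, false) = S.e D := by
    show S.e' D + S.e D + S.e' D = S.e D
    rw [add_right_comm, add_self_eq_zero', zero_add]
  have e2 : aa S (D, true) + aa S (D, false) = S.α D := LinearMap.ext fun w => by
    show S.α' D w + S.α D w + S.α' D w = S.α D w
    rw [add_right_comm, add_self_eq_zero', zero_add]
  rw [e1, e2]
  exact S.tv D

theorem uu_fixed {D E : mems φ 2 T} (hne : ¬ rel S D E) (b : Bool) :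
    uu S (D, b) ∈ fixed φ (Hb φ 2 T (E : Subgroup P)) := by
  have hDE : D ≠ E := fun e => hne (Or.inl e)
  have h0 : S.α' E (S.e' D) = 0 := by
    rcases zmod2_cases (S.α' E (S.e' D)) with h | h
    · exact h
    · exact absurd (Or.inr (by rw [alpha'_symm K hT hTM h2 S, h])) hne
  have hz := cross_zero K hT hTM h2 S hDE
  have hz' := cross_zero K hT hTM h2 S hDE.symm
  have ha := alpha_e K hT hTM h2 S
  have hc : ∀ {w : X}, S.α E w = 0 → S.α' E w = 0 → w ∈ fixed φ (Hb φ 2 T (E : Subgroup P)) := by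
    intro w h1 h1'
    have hle : Subgroup.closure {S.c E, S.c' E} ≤ PGV.pstab φ {w} := (Subgroup.closure_le _).2 (by
      intro g hg z hz
      rw [Set.mem_singleton_iff.1 hz]
      rcases Set.mem_insert_iff.1 hg with rfl | hg
      · rw [(S.tv E).act, h1, zero_smul, add_zero]
      · rw [Set.mem_singleton_iff.1 hg, (S.tv' E).act, h1', zero_smul, add_zero])
    exact fun g hg => hle (S.gen E hg) w rfl
  cases b
  · exact hc hz.1 h0
  · exact hc (by show S.α E (S.e' D + S.e D) = 0; rw [map_add, hz.1, ha, add_zero])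
      (by show S.α' E (S.e' D + S.e D) = 0; rw [map_add, h0, hz'.2, add_zero])

theorem commute_of_not_rel {D E : mems φ 2 T} (hne : ¬ rel S D E) {g g' : P}
    (hg : g ∈ Hb φ 2 T (D : Subgroup P)) (hg' : g' ∈ Hb φ 2 T (E : Subgroup P)) : Commute g g' := by
  have hDE : D ≠ E := fun e => hne (Or.inl e)
  have h0 : S.α' D (S.e' E) = 0 := by
    rcases zmod2_cases (S.α' D (S.e' E)) with h | h
    · exact h
    · exact absurd (Or.inr h) hne
  have hz := cross_zero K hT hTM h2 S hDE
  have hz' := cross_zero K hT hTM h2 S hDE.symm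
  have key : ∀ x ∈ ({S.c E, S.c' E} : Set P), ∀ y ∈ ({S.c D, S.c' D} : Set P), Commute y x := by
    intro x hx y hy
    rcases Set.mem_insert_iff.1 hx with rfl | hx <;> rcases Set.mem_insert_iff.1 hy with rfl | hy
    · exact (S.tv D).commute K.faithful (S.tv E) (alpha_e K hT hTM h2 S D E) (alpha_e K hT hTM h2 S E D)
    · rw [Set.mem_singleton_iff.1 hy]; exact (S.tv' D).commute K.faithful (S.tv E) hz.2 hz.1
    · rw [Set.mem_singleton_iff.1 hx]; exact (S.tv D).commute K.faithful (S.tv' E) hz'.1 hz'.2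
    · rw [Set.mem_singleton_iff.1 hx, Set.mem_singleton_iff.1 hy]
      exact (S.tv' D).commute K.faithful (S.tv' E) h0 (by rw [alpha'_symm K hT hTM h2 S, h0])
  have h1 : Subgroup.closure {S.c D, S.c' D} ≤ Subgroup.centralizer ({S.c E, S.c' E} : Set P) :=
    (Subgroup.closure_le _).2 fun y hy => Subgroup.mem_centralizer_iff.2 fun x hx => (key x hx y hy).eq.symm
  have h3 : Subgroup.closure {S.c E, S.c' E} ≤ Subgroup.centralizer (Subgroup.closure {S.c D, S.c' D} : Set P) :=
    (Subgroup.closure_le _).2 fun x hx => Subgroup.mem_centralizer_iff.2 fun y hy =>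
      (Subgroup.mem_centralizer_iff.1 (h1 hy) x hx).symm
  exact Subgroup.mem_centralizer_iff.1 (h3 (S.gen E hg')) g (S.gen D hg)

theorem rel_iff {D E : mems φ 2 T} : rel S D E ↔ D = E ∨
    ¬ ∀ g ∈ Hb φ 2 T (D : Subgroup P), ∀ g' ∈ Hb φ 2 T (E : Subgroup P), Commute g g' := by
  refine ⟨fun h => ?_, fun h => ?_⟩
  · by_cases hDE : D = E
    · exact Or.inl hDE
    refine Or.inr fun hc => ?_
    have h1 := h.resolve_left hDE
    have := (S.tv' D).values (S.tv' E) (hc _ (S.c'_mem D) _ (S.c'_mem E)) (fun e => by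
      rw [← e, (S.tv' D).zero] at h1
      exact zero_ne_one h1)
    rw [this.1] at h1
    exact zero_ne_one h1
  · rcases h with h | h
    · exact Or.inl h
    · by_contra hne
      exact h fun g hg g' hg' => commute_of_not_rel K hT hTM h2 S hne hg hg'

omit h2 in
/-- Conjugation by `T` on the members. -/
def move (t : P) (ht : t ∈ T) (D : mems φ 2 T) : mems φ 2 T :=
  ⟨Fusion.cj (D : Subgroup P) t, cj_mem_of_stab (OffBlock.le_stab_mems T ht) D.2⟩

theorem rel_move {D E : mems φ 2 T} {t : P} (ht : t ∈ T) (h : rel S D E) :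
    rel S (move t ht D) (move t ht E) := by
  rw [rel_iff K hT hTM h2 S] at h ⊢
  rcases h with rfl | h
  · exact Or.inl rfl
  refine Or.inr fun hc => h fun g hg g' hg' => ?_
  have e : ∀ {D : mems φ 2 T} {g : P}, g ∈ Hb φ 2 T (D : Subgroup P) →
      t * g * t⁻¹ ∈ Hb φ 2 T (move t ht D : Subgroup P) := fun hg => by
    rw [show ((move t ht _ : mems φ 2 T) : Subgroup P) = Fusion.cj _ t from rfl, ← cj_Hb ht]
    exact conj_mem_cj hg
  have := (hc _ (e hg) _ (e hg')).map (MulAut.conj t⁻¹).toMonoidHom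
  simpa [mul_assoc] using this

end Sys

include K hT hTM h2

/-- The structure for members of order two. -/
theorem Ctx.decomp_symm {D₀ : Subgroup P} (hD₀ : D₀ ∈ mems φ 2 T) :
    ∃ (ι : Type u) (_ : Finite ι) (_ : Nonempty ι) (E : ι → Subgroup P), Decomp φ 2 T E := by
  classical
  obtain ⟨S⟩ := K.exists_sys hT hTM h2
  let st : Setoid (mems φ 2 T) := ⟨Sys.rel S, Sys.rel_equiv K hT hTM h2 S⟩
  have : Fintype (mems φ 2 T) := Fintype.ofFinite _
  let bk : Quotient st → Subgroup P := fun q =>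
    ⨆ D : {D : mems φ 2 T // Quotient.mk st D = q}, Hb φ 2 T ((D : mems φ 2 T) : Subgroup P)
  have hrel : ∀ {D E : mems φ 2 T}, Quotient.mk st D = Quotient.mk st E ↔ Sys.rel S D E := Quotient.eq
  have hle : ∀ D : mems φ 2 T, Hb φ 2 T (D : Subgroup P) ≤ bk (Quotient.mk st D) := fun D =>
    le_iSup (fun E : {E : mems φ 2 T // Quotient.mk st E = Quotient.mk st D} =>
      Hb φ 2 T ((E : mems φ 2 T) : Subgroup P)) ⟨D, rfl⟩
  have htr : ∀ D D' : mems φ 2 T, ∃ t : P, ∃ ht : t ∈ T, Sys.move t ht D = D' := fun D D' => by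
    obtain ⟨t, ht, e⟩ := (K.members hT hTM D.2).2.2 (D' : Subgroup P) D'.2
    exact ⟨t, ht, Subtype.ext e⟩
  have hmove : ∀ (t : P) (ht : t ∈ T) (D E : mems φ 2 T), Sys.rel S D E ↔
      Sys.rel S (Sys.move t ht D) (Sys.move t ht E) := fun t ht D E =>
    ⟨Sys.rel_move K hT hTM h2 S ht, fun h => by
      have := Sys.rel_move K hT hTM h2 S (T.inv_mem ht) h
      simp only [Sys.move, cj_cj_inv, Subtype.coe_eta] at this
      exact this⟩
  -- the classes have the same order, a power of two
  have hpow : ∀ q : Quotient st, ∃ a : ℕ, Fintype.card {D : mems φ 2 T // Quotient.mk st D = q} = 2 ^ a := by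
    have hsame : ∀ q q' : Quotient st, Fintype.card {D : mems φ 2 T // Quotient.mk st D = q} =
        Fintype.card {D : mems φ 2 T // Quotient.mk st D = q'} := by
      suffices ∀ q q' : Quotient st, Fintype.card {D : mems φ 2 T // Quotient.mk st D = q} ≤
          Fintype.card {D : mems φ 2 T // Quotient.mk st D = q'} from fun q q' => le_antisymm (this q q') (this q' q)
      intro q q'
      induction q using Quotient.inductionOn with | h D => ?_
      induction q' using Quotient.inductionOn with | h D' => ?_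
      obtain ⟨t, ht, e⟩ := htr D D'
      refine Fintype.card_le_of_injective (fun E => ⟨Sys.move t ht E.1, ?_⟩) fun E E' h => ?_
      · rw [hrel, ← e, ← hmove]; exact hrel.1 E.2
      · have h' := congrArg (fun Z => Fusion.cj ((Z.1 : mems φ 2 T) : Subgroup P) t⁻¹) h
        simp only [Sys.move, cj_cj_inv] at h'
        exact Subtype.ext (Subtype.ext h')
    intro q
    letI : MulAction T (mems φ 2 T) :=
      { smul := fun t D => Sys.move t t.2 D
        one_smul := fun D => Subtype.ext (cj_one _)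
        mul_smul := fun s t D => Subtype.ext (cj_cj _ _ _).symm }
    obtain ⟨b, hb⟩ := hT.isPGroup.card_orbit (⟨D₀, hD₀⟩ : mems φ 2 T)
    have horb : MulAction.orbit T (⟨D₀, hD₀⟩ : mems φ 2 T) = Set.univ := Set.eq_univ_of_forall fun D => by
      obtain ⟨t, ht, e⟩ := htr ⟨D₀, hD₀⟩ D
      exact ⟨⟨t, ht⟩, e⟩
    rw [horb, Nat.card_coe_set_eq, Set.ncard_univ, Nat.card_eq_fintype_card] at hb
    have hdvd : Fintype.card {D : mems φ 2 T // Quotient.mk st D = q} ∣ 2 ^ b := by
      rw [← hb, ← Fintype.card_congr (Equiv.sigmaFiberEquiv (Quotient.mk st)), Fintype.card_sigma]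
      exact Finset.dvd_sum fun q' _ => (hsame q q').dvd
    obtain ⟨a, -, ha⟩ := (Nat.dvd_prime_pow Nat.prime_two).1 hdvd
    exact ⟨a, ha⟩
  -- each block
  have hblock : ∀ q : Quotient st, (∃ n : ℕ, 1 ≤ n ∧ IsSymm φ (2 ^ n + 1) (bk q)) ∧
      (∀ v, ∃ z ∈ cen φ (bk q), (∀ q' ≠ q, z ∈ fixed φ (bk q')) ∧ v - z ∈ fixed φ (bk q)) ∧
      ∀ q' ≠ q, cen φ (bk q) ≤ fixed φ (bk q') := by
    intro q
    let Y := {D : mems φ 2 T // Quotient.mk st D = q} × Bool
    let c : Y → P := fun x => Sys.cc S (x.1.1, x.2)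
    let uf : Y → X := fun x => Sys.uu S (x.1.1, x.2)
    let af : Y → (X →ₗ[ZMod 2] ZMod 2) := fun x => Sys.aa S (x.1.1, x.2)
    have hH : bk q = Subgroup.closure (Set.range c) := by
      refine le_antisymm (iSup_le fun D => (S.gen D.1).trans ((Subgroup.closure_le _).2 ?_))
        ((Subgroup.closure_le _).2 ?_)
      · intro g hg
        have hc : ∀ b, Sys.cc S (D.1, b) ∈ Subgroup.closure (Set.range c) := fun b =>
          Subgroup.subset_closure ⟨(D, b), rfl⟩
        rcases Set.mem_insert_iff.1 hg with rfl | hg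
        · rw [SetLike.mem_coe, ← Sys.c_eq K hT hTM h2 S D.1]
          exact mul_mem (mul_mem (hc false) (hc true)) (inv_mem (hc false))
        · rw [Set.mem_singleton_iff.1 hg]; exact hc false
      · rintro _ ⟨x, rfl⟩
        exact le_iSup (fun E : {E : mems φ 2 T // Quotient.mk st E = q} =>
          Hb φ 2 T ((E : mems φ 2 T) : Subgroup P)) x.1 (Sys.cc_mem K hT hTM h2 S (x.1.1, x.2))
    have hval : ∀ x y : Y, af x (uf y) = if x = y then 0 else 1 := by
      rintro ⟨⟨D, hD⟩, b⟩ ⟨⟨E, hE⟩, b'⟩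
      by_cases hDE : D = E
      · subst hDE
        have hif : (if ((⟨D, hD⟩, b) : Y) = (⟨D, hE⟩, b') then (0 : ZMod 2) else 1) = if b = b' then 0 else 1 := by
          cases b <;> cases b'
          exacts [(if_pos rfl).trans (if_pos rfl).symm,
            (if_neg fun h => Bool.noConfusion (congrArg Prod.snd h)).trans (if_neg Bool.noConfusion).symm,
            (if_neg fun h => Bool.noConfusion (congrArg Prod.snd h)).trans (if_neg Bool.noConfusion).symm,
            (if_pos rfl).trans (if_pos rfl).symm]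
        rw [hif]
        cases b <;> cases b' <;>
          simp [af, uf, Sys.aa, Sys.uu, map_add, (S.tv D).zero, (S.tv' D).zero, S.cross D, S.cross' D,
            zmod2_one_add_one]
      · have h1 : S.α' D (S.e' E) = 1 := (hrel.1 (hD.trans hE.symm)).resolve_left hDE
        have hz := Sys.cross_zero K hT hTM h2 S hDE
        have hz' := Sys.cross_zero K hT hTM h2 S (Ne.symm hDE)
        have ha := Sys.alpha_e K hT hTM h2 S D E
        rw [if_neg fun h => hDE (congrArg (fun z : Y => z.1.1) h)]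
        cases b <;> cases b' <;>
          simp [af, uf, Sys.aa, Sys.uu, map_add, h1, hz.2, hz'.1, ha]
    obtain ⟨a, ha⟩ := hpow q
    have hcard : Fintype.card Y = 2 ^ a * 2 := by rw [Fintype.card_prod, ha, Fintype.card_bool]
    have hY : 2 ≤ Fintype.card Y := by
      rw [hcard]; exact Nat.le_mul_of_pos_left 2 (Nat.two_pow_pos a)
    obtain ⟨R, ψ, hsum, hsurj, hker, hact, hsplit, hucen, hcen⟩ :=
      star_symm K.faithful c uf af (fun x => Sys.tv_cc K hT hTM h2 S (x.1.1, x.2)) hval
        (by rw [hcard]; exact ⟨2 ^ a, by ring⟩) hY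
    rw [← hH] at hucen
    have hspan : ∀ q' ≠ q, AddSubgroup.closure (Set.range uf) ≤ fixed φ (bk q') := fun q' hq' =>
      (AddSubgroup.closure_le _).2 (by
        rintro _ ⟨x, rfl⟩
        refine mem_fixed_iSup fun E => Sys.uu_fixed K hT hTM h2 S (fun h => hq' ?_) x.2
        rw [← E.2, ← x.1.2]
        exact (hrel.2 h).symm)
    refine ⟨⟨a + 1, Nat.le_add_left 1 a, ?_⟩, fun v => ?_, fun q' hq' => ?_⟩
    · have hN : Fintype.card (Option Y) = 2 ^ (a + 1) + 1 := by rw [Fintype.card_option, hcard, pow_succ]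
      let e : Option Y ≃ Fin (2 ^ (a + 1) + 1) := Fintype.equivFinOfCardEq hN
      let ψ' : X →+ (Fin (2 ^ (a + 1) + 1) → ZMod 2) :=
        AddMonoidHom.mk' (fun v i => ψ v (e.symm i)) fun v w => funext fun i => congrFun (map_add ψ v w) _
      rw [hH]
      refine ⟨R.trans e.permCongrHom, ψ', fun v => (Equiv.sum_comp e.symm (ψ v)).trans (hsum v), fun w hw => ?_,
        fun v => ?_, fun g v i => ?_⟩
      · obtain ⟨z, hz, e'⟩ := hsurj (fun j => w (e j)) ((Equiv.sum_comp e w).trans hw)
        exact ⟨z, hz, funext fun i => by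
          show ψ z (e.symm i) = w i
          rw [e']; simp⟩
      · rw [← hker v]
        exact ⟨fun h => funext fun j => by simpa [ψ'] using congrFun h (e j),
          fun h => funext fun i => congrFun h (e.symm i)⟩
      · show ψ (φ (g : P) v) (e.symm i) = ψ v (e.symm _)
        rw [hact]
        exact congrArg (ψ v) (e.symm_apply_apply ((R g)⁻¹ (e.symm i))).symm
    · obtain ⟨z, hz, hfix⟩ := hsplit v
      rw [← hH] at hfix
      exact ⟨z, (AddSubgroup.closure_le _).2 (by rintro _ ⟨x, rfl⟩; exact hucen x) hz,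
        fun q' hq' => hspan q' hq' hz, hfix⟩
    · rw [hH]
      exact hcen.trans (hspan q' hq')
  refine ⟨Quotient st, inferInstance, ⟨Quotient.mk st ⟨D₀, hD₀⟩⟩, bk,
    { comm := fun q q' hne g hg g' hg' => ?_
      disj := fun q => eq_bot_iff.2 fun g hg => ?_
      gen := K.gen_top hT hTM hD₀ ((hle ⟨D₀, hD₀⟩).trans (le_iSup bk _))
      conj := fun q q' => ?_
      decomp := top_le_iff.1 fun v _ => ?_
      cen_fix := fun q q' hne => (hblock q).2.2 q' hne.symm
      natural := fun q => ?_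
      mems_le := sSup_le fun D hD => ((K.blk hT hTM hD).1.C_le.trans (hle ⟨D, hD⟩)).trans (le_iSup bk _)
      normal := ?_
      closure := fun N hN h => iSup_le fun q => iSup_le fun D => K.closure_Hb hT hTM N hN h D.1.2 }⟩
  · have h1 : ∀ E : {E : mems φ 2 T // Quotient.mk st E = q'}, Hb φ 2 T ((E : mems φ 2 T) : Subgroup P) ≤
        Subgroup.centralizer (bk q : Set P) := by
      intro E
      rw [Subgroup.le_centralizer_iff]
      refine iSup_le fun D x hx => Subgroup.mem_centralizer_iff.2 fun y hy => ?_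
      exact (Sys.commute_of_not_rel K hT hTM h2 S (fun h => hne (by rw [← D.2, ← E.2]; exact hrel.2 h)) hx hy).eq.symm
    exact Subgroup.mem_centralizer_iff.1 (iSup_le h1 hg') g hg
  · obtain ⟨hgq, hgo⟩ := Subgroup.mem_inf.1 hg
    refine Subgroup.mem_bot.2 (K.faithful g fun v => ?_)
    obtain ⟨z, -, hz, hfix⟩ := (hblock q).2.1 v
    have hle' : (⨆ j ∈ {j | j ≠ q}, bk j) ≤ PGV.pstab φ {z} :=
      iSup₂_le fun j hj g' hg' w hw => Set.mem_singleton_iff.1 hw ▸ hz j hj g' hg'
    rw [← sub_add_cancel v z, map_add, hfix g hgq, hle' hgo z rfl]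
  · induction q using Quotient.inductionOn with | h D => ?_
    induction q' using Quotient.inductionOn with | h D' => ?_
    obtain ⟨t, ht, e⟩ := htr D D'
    refine ⟨t, ht, le_antisymm ?_ ?_⟩
    · rw [cj_le_iff]
      refine iSup_le fun E => cj_le_iff.1 ?_
      rw [cj_Hb ht]
      refine le_trans ?_ (le_iSup _ ⟨Sys.move t ht E.1, ?_⟩)
      · exact le_rfl
      · rw [hrel, ← e, ← hmove]; exact hrel.1 E.2
    · refine iSup_le fun E => ?_
      obtain ⟨E, hE⟩ := E
      rw [show Hb φ 2 T (E : Subgroup P) =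
        Fusion.cj (Hb φ 2 T (Fusion.cj (E : Subgroup P) t⁻¹)) t by rw [cj_Hb ht, cj_inv_cj]]
      refine cj_mono (le_trans le_rfl (le_iSup (fun E : {E : mems φ 2 T // Quotient.mk st E = Quotient.mk st D} =>
        Hb φ 2 T ((E : mems φ 2 T) : Subgroup P)) ⟨Sys.move t⁻¹ (T.inv_mem ht) E, ?_⟩)) t
      rw [hrel, hmove t ht]
      have h3 : Sys.move t ht (Sys.move t⁻¹ (T.inv_mem ht) E) = E := Subtype.ext (cj_inv_cj _ _)
      rw [h3, e]
      exact hrel.1 hE
  · have : Fintype (Quotient st) := Fintype.ofFinite _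
    suffices h : ∀ s : Finset (Quotient st), ∃ z, (∀ q ∈ s, z ∈ fixed φ (bk q)) ∧
        v - z ∈ ⨆ q, cen φ (bk q) by
      obtain ⟨z, hz, hvz⟩ := h Finset.univ
      rw [← add_sub_cancel z v]
      exact add_mem (AddSubgroup.mem_sup_left (mem_fixed_iSup fun q => hz q (Finset.mem_univ q)))
        (AddSubgroup.mem_sup_right hvz)
    intro s
    induction s using Finset.induction_on with
    | empty => exact ⟨v, by simp, by rw [sub_self]; exact zero_mem _⟩
    | insert q s hqs ih =>
      obtain ⟨z, hz, hvz⟩ := ih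
      obtain ⟨u, hu, huo, hw⟩ := (hblock q).2.1 z
      refine ⟨z - u, fun q' hq' => ?_, ?_⟩
      · rcases Finset.mem_insert.1 hq' with rfl | hq'
        · exact hw
        · exact sub_mem (hz q' hq') (huo q' (fun e => hqs (e ▸ hq')))
      · rw [sub_sub_eq_add_sub, add_sub_right_comm]
        exact add_mem hvz (le_iSup (fun q => cen φ (bk q)) q hu)
  · obtain ⟨n, hn, h⟩ := (hblock q).1
    exact ⟨n, hn, Or.inr ⟨rfl, h⟩⟩
  · refine K.iSup_Hb_normal hT hTM hD₀ (le_antisymm (iSup_le fun q => iSup_le fun D => ?_)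
      (iSup_le fun D => (hle D).trans (le_iSup bk _)))
    exact le_iSup (fun E : mems φ 2 T => Hb φ 2 T (E : Subgroup P)) D.1

end Cfsg.Agent.OffBlock
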