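import Cfsg.Agent.Lib.PushUp.OffBlock.Tv

/-!
# The three transvections of each member, and the relation between members

Two members are related when their `SL₂(2)`s do not commute; this is an equivalence, as a path of three would
give a member commuting with all members of the Sylow subgroup and different from each.
-/

set_option autoImplicit false

namespace Cfsg.Agent.OffBlock

open Cfsg Cfsg.Agent Cfsg.Agent.Fusion Cfsg.Agent.BestOff
open Cfsg.Agent.OffProd (cen off cjS stab sub_mem_cen act_mem_fixed act_mem_cen fixed_anti cen_mono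
  mem_stab cj_mem_of_stab)

universe u v

variable {P : Type u} [Group P] {X : Type v} [AddCommGroup X] [Module (ZMod 2) X] (φ : P →* AddMonoid.End X)

/-- `d` generates a member and is the transvection `(e, α)`. -/
def IsRoot (e : X) (α : X →ₗ[ZMod 2] ZMod 2) : Prop :=
  ∃ (D : Subgroup P) (d : P), Mem φ 2 D ∧ d ∈ D ∧ d ≠ 1 ∧ Tv φ d e α

/-- The transvections chosen for each member. -/
structure Sys (T : Subgroup P) where
  c : mems φ 2 T → P
  c' : mems φ 2 T → P
  e : mems φ 2 T → X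
  e' : mems φ 2 T → X
  α : mems φ 2 T → (X →ₗ[ZMod 2] ZMod 2)
  α' : mems φ 2 T → (X →ₗ[ZMod 2] ZMod 2)
  c_mem : ∀ D : mems φ 2 T, c D ∈ (D : Subgroup P)
  c_ne : ∀ D : mems φ 2 T, c D ≠ 1
  tv : ∀ D : mems φ 2 T, Tv φ (c D) (e D) (α D)
  tv' : ∀ D : mems φ 2 T, Tv φ (c' D) (e' D) (α' D)
  exD' : ∀ D : mems φ 2 T, ∃ D' : Subgroup P, Mem φ 2 D' ∧ c' D ∈ D' ∧ c' D ≠ 1 ∧ ¬ D' ≤ T
  c'_mem : ∀ D : mems φ 2 T, c' D ∈ Hb φ 2 T (D : Subgroup P)
  cross : ∀ D : mems φ 2 T, α D (e' D) = 1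
  cross' : ∀ D : mems φ 2 T, α' D (e D) = 1
  gen : ∀ D : mems φ 2 T, Hb φ 2 T (D : Subgroup P) ≤ Subgroup.closure {c D, c' D}

variable {φ} [Finite P] [Finite X] [hp : Fact (Nat.Prime 2)] {M T : Subgroup P}
variable (K : Ctx φ 2 M) (hT : SylIn 2 T ⊤) (hTM : T ≤ M) (h2 : ∀ D : Subgroup P, Mem φ 2 D → Nat.card D = 2)
include K hT hTM h2

theorem Ctx.exists_sys : Nonempty (Sys φ T) := by
  classical
  have key : ∀ D : mems φ 2 T, ∃ c c' e e' α α', c ∈ (D : Subgroup P) ∧ c ≠ 1 ∧ Tv φ c e α ∧ Tv φ c' e' α' ∧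
      (∃ D' : Subgroup P, Mem φ 2 D' ∧ c' ∈ D' ∧ c' ≠ 1 ∧ ¬ D' ≤ T) ∧ c' ∈ Hb φ 2 T (D : Subgroup P) ∧
      α e' = 1 ∧ α' e = 1 ∧ Hb φ 2 T (D : Subgroup P) ≤ Subgroup.closure {c, c'} := by
    intro D
    obtain ⟨F, hC, -⟩ := K.members hT hTM D.2
    obtain ⟨N, hH, -⟩ := K.blk hT hTM D.2
    obtain ⟨h, hh, hhM⟩ := N.exH
    obtain ⟨c, e, α, hc, hc1, htv⟩ := K.exists_tv D.2.1 (h2 _ D.2.1)
    have htv' := htv.conj h
    have hc'1 : h * c * h⁻¹ ≠ 1 := fun e => hc1 (by simpa [mul_eq_one_iff_eq_inv] using e)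
    have hfix : ∀ {d : P} {f : X} {β : X →ₗ[ZMod 2] ZMod 2} {B : Subgroup P}, Mem φ 2 B → d ∈ B → d ≠ 1 →
        Tv φ d f β → ∀ v, β v = 0 → v ∈ fixed φ B := fun hB hd hd1 htd v hv x hx => by
      rcases Mem.eq_or (h2 _ hB) hd hd1 hx with rfl | rfl
      · exact act_one φ v
      · rw [htd.act, hv, zero_smul, add_zero]
    have hae : α (φ h e) = 1 := by
      rcases zmod2_cases (α (φ h e)) with h0 | h0
      swap
      · exact h0
      exfalso
      have h1 : φ h e ∈ fixed φ (Hb φ 2 T (D : Subgroup P)) := (F.fixedH_eq N hh hhM).ge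
        ⟨hfix D.2.1 hc hc1 htv _ h0, act_mem_fixed φ h (hfix D.2.1 hc hc1 htv _ htv.zero)⟩
      have h4 : φ h e = e := by
        have h3 := h1 h⁻¹ (inv_mem hh)
        rw [act_inv_self] at h3
        exact h3.symm
      rw [h4] at h1
      obtain ⟨v, hv⟩ := htv.surj
      have h5 := N.free c hc hc1 v (by rw [htv.act_one' hv, add_sub_cancel_left]; exact h1) c hc
      rw [htv.act_one' hv, add_eq_left] at h5
      exact htv.ne h5
    refine ⟨c, h * c * h⁻¹, e, φ h e, α, _, hc, hc1, htv, htv', ⟨Fusion.cj D h, D.2.1.cj h, conj_mem_cj hc, hc'1,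
      fun hle => F.not_le_M K hC.mem hC.le_stab hC.not_mem (D.2.2.trans hTM) (hH hh).1 hhM (hle.trans hTM)⟩,
      ?_, hae, ?_, ?_⟩
    · exact mul_mem (mul_mem hh (N.C_le hc)) (inv_mem hh)
    · rw [← K.tv_symm hT hTM h2 D.2.1 (D.2.1.cj h) hc hc1 (conj_mem_cj hc) hc'1 htv htv', hae]
    · rw [← N.gen h hh hhM]
      refine sup_le (fun x hx => ?_) fun x hx => ?_
      · rcases Mem.eq_or (h2 _ D.2.1) hc hc1 hx with rfl | rfl
        · exact one_mem _
        · exact Subgroup.subset_closure (by simp)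
      · rcases Mem.eq_or (h2 _ (D.2.1.cj h)) (conj_mem_cj hc) hc'1 hx with rfl | rfl
        · exact one_mem _
        · exact Subgroup.subset_closure (by simp)
  choose c c' e e' α α' h1 h2' h3 h4 h5 h6 h7 h8 h9 using key
  exact ⟨⟨c, c', e, e', α, α', h1, h2', h3, h4, h5, h6, h7, h8, h9⟩⟩

namespace Sys

variable (S : Sys φ T)
include S

theorem root (D : mems φ 2 T) : IsRoot φ (S.e D) (S.α D) := ⟨D, S.c D, D.2.1, S.c_mem D, S.c_ne D, S.tv D⟩

theorem root' (D : mems φ 2 T) : IsRoot φ (S.e' D) (S.α' D) := by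
  obtain ⟨D', hD', hm, h1, -⟩ := S.exD' D
  exact ⟨D', _, hD', hm, h1, S.tv' D⟩

theorem apart {D E : mems φ 2 T} (hne : D ≠ E) : S.e D ≠ S.e E ∧ S.α D (S.e E) = 0 :=
  have h := K.tv_comm hT hTM h2 D.2.1 E.2.1 (fun e => hne (Subtype.ext e)) (S.c_mem D) (S.c_ne D)
    (S.c_mem E) (S.c_ne E) (S.tv D) (S.tv E)
    ((K.blk_commute hT hTM E.2 D.2 (fun e => hne (Subtype.ext e))
      ((K.blk hT hTM E.2).1.C_le (S.c_mem E)) (S.c_mem D)))
  ⟨h.1, h.2.2.1⟩

theorem alpha_e (D E : mems φ 2 T) : S.α D (S.e E) = 0 := by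
  by_cases hne : D = E
  · rw [hne]; exact (S.tv E).zero
  · exact (apart K hT hTM h2 S hne).2

theorem cross_zero {D E : mems φ 2 T} (hne : D ≠ E) : S.α E (S.e' D) = 0 ∧ S.α' D (S.e E) = 0 := by
  obtain ⟨D', hD', hm, h1, hnT⟩ := S.exD' D
  have := K.tv_comm hT hTM h2 E.2.1 hD' (fun e => hnT (e ▸ E.2.2)) (S.c_mem E) (S.c_ne E) hm h1 (S.tv E) (S.tv' D)
    (K.blk_commute hT hTM D.2 E.2 (fun e => hne (Subtype.ext e.symm)) (S.c'_mem D) (S.c_mem E))
  exact this.2.2

theorem alpha'_symm (D E : mems φ 2 T) : S.α' D (S.e' E) = S.α' E (S.e' D) := by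
  obtain ⟨D', hD', hm, h1, -⟩ := S.exD' D
  obtain ⟨E', hE', hm', h1', -⟩ := S.exD' E
  exact K.tv_symm hT hTM h2 hD' hE' hm h1 hm' h1' (S.tv' D) (S.tv' E)

omit S in
theorem root_step {a b : X} {A B : X →ₗ[ZMod 2] ZMod 2} (hd : IsRoot φ a A) (hz : IsRoot φ b B) (h : B a = 1) :
    IsRoot φ (a + b) (A + B) := by
  obtain ⟨D, d, hD, hd', hd1, htd⟩ := hd
  obtain ⟨Z, z, hZ, hz', hz1, htz⟩ := hz
  have hAb : A b = 1 := by rw [K.tv_symm hT hTM h2 hD hZ hd' hd1 hz' hz1 htd htz, h]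
  exact ⟨Fusion.cj D z, z * d * z⁻¹, hD.cj z, conj_mem_cj hd', fun e => hd1 (by simpa [mul_eq_one_iff_eq_inv] using e),
    htd.conj_tv K.faithful htz hAb h⟩

omit S in
/-- A root orthogonal to all members of `T` is one of them. -/
theorem root_mem (S : Sys φ T) {a : X} {A : X →ₗ[ZMod 2] ZMod 2} (hd : IsRoot φ a A)
    (h1 : ∀ D, A (S.e D) = 0) (h1' : ∀ D, S.α D a = 0) : ∃ D, a = S.e D := by
  by_contra hcon
  simp only [not_exists] at hcon
  obtain ⟨B, d, hB, hd', hd1, htd⟩ := hd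
  have hnot : B ∉ mems φ 2 T := fun hm => by
    rcases Mem.eq_or (h2 B hB) hd' hd1 (S.c_mem ⟨B, hm⟩) with e | e
    · exact S.c_ne _ e
    · have := S.tv ⟨B, hm⟩
      rw [e] at this
      exact hcon _ (htd.unique this).1
  have hcom : sSup (mems φ 2 T) ≤ Subgroup.normalizer (B : Set P) := sSup_le fun D hD x hx =>
    Subgroup.centralizer_le_normalizer _ (Subgroup.mem_centralizer_iff.2 fun y hy => by
      rcases Mem.eq_or (h2 B hB) hd' hd1 hy with rfl | rfl
      · rw [one_mul, mul_one]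
      rcases Mem.eq_or (h2 D hD.1) (S.c_mem ⟨D, hD⟩) (S.c_ne ⟨D, hD⟩) hx with rfl | rfl
      · rw [one_mul, mul_one]
      exact (htd.commute K.faithful (S.tv ⟨D, hD⟩) (h1 _) (h1' _)).eq)
  have hP : IsPGroup 2 (sSup (mems φ 2 T) ⊔ B : Subgroup P) :=
    (OffProd.isPGroup_sSup hT.isPGroup fun D hD => hD.2).to_sup_of_normal_right' hB.isP hcom
  obtain ⟨g, -, hg⟩ := hT.conj_le hP le_top
  have hsub : cjS g (insert B (mems φ 2 T)) ⊆ mems φ 2 T := by
    rintro _ ⟨D, (rfl | hD), rfl⟩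
    · exact ⟨hB.cj g, (cj_mono le_sup_right g).trans hg⟩
    · exact ⟨hD.1.cj g, (cj_mono ((le_sSup hD).trans le_sup_left) g).trans hg⟩
  have h3 := Set.ncard_le_ncard hsub (Set.toFinite _)
  rw [OffProd.ncard_cjS, Set.ncard_insert_of_notMem hnot (Set.toFinite _)] at h3
  omega

/-- The relation: the two `SL₂(2)`s are joined. -/
def rel (D E : mems φ 2 T) : Prop := D = E ∨ S.α' D (S.e' E) = 1

theorem rel_trans {i j l : mems φ 2 T} (h1 : rel S i j) (h3 : rel S j l) : rel S i l := by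
  rcases h1 with rfl | h1
  · exact h3
  rcases h3 with rfl | h3
  · exact Or.inr h1
  by_cases hil : i = l
  · exact Or.inl hil
  by_cases hij : i = j
  · subst hij; exact Or.inr h3
  by_cases hjl : j = l
  · subst hjl; exact Or.inr h1
  rcases zmod2_cases (S.α' i (S.e' l)) with h0 | h0
  swap
  · exact Or.inr h0
  exfalso
  have step := fun {a b : X} {A B : X →ₗ[ZMod 2] ZMod 2} => root_step K hT hTM h2 (a := a) (b := b) (A := A) (B := B)
  have ae := alpha_e K hT hTM h2 S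
  have z := fun {D E : mems φ 2 T} (h : D ≠ E) => cross_zero K hT hTM h2 S h
  have sy := alpha'_symm K hT hTM h2 S
  have v1 := z hij
  have v2 := z (Ne.symm hij)
  have v3 := z hil
  have v4 := z (Ne.symm hil)
  have v5 := z hjl
  have v6 := z (Ne.symm hjl)
  have h1' : S.α' j (S.e' i) = 1 := (sy j i).trans h1
  have h3' : S.α' l (S.e' j) = 1 := (sy l j).trans h3
  have h0' : S.α' l (S.e' i) = 0 := (sy l i).trans h0
  have hz := zmod2_one_add_one
  have r1 := step (S.root K hT hTM h2 j) (S.root' K hT hTM h2 j) (S.cross' j)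
  have r2 := step r1 (S.root' K hT hTM h2 i) (by simp [map_add, h1, v1.2])
  have r3 := step r2 (S.root' K hT hTM h2 l) (by simp [map_add, h3', v6.2, h0'])
  have r4 := step r3 (S.root K hT hTM h2 i) (by simp [map_add, ae, S.cross i, v2.1, v4.1])
  have r5 := step r4 (S.root K hT hTM h2 l) (by simp [map_add, ae, S.cross l, v3.1, v5.1])
  have r6 := step r5 (S.root' K hT hTM h2 j)
    (by simp [map_add, (S.tv' j).zero, S.cross' j, h3, h1', v1.2, v2.2, v5.2, v6.2, hz])
  have e6 : S.e j + S.e' j + S.e' i + S.e' l + S.e i + S.e l + S.e' j =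
      S.e j + S.e' i + S.e' l + S.e i + S.e l := by
    calc _ = S.e j + S.e' i + S.e' l + S.e i + S.e l + (S.e' j + S.e' j) := by abel
      _ = _ := by rw [add_self_eq_zero', add_zero]
  have e6' : S.α j + S.α' j + S.α' i + S.α' l + S.α i + S.α l + S.α' j =
      S.α j + S.α' i + S.α' l + S.α i + S.α l := LinearMap.ext fun w => by
    simp only [LinearMap.add_apply]
    calc _ = S.α j w + S.α' i w + S.α' l w + S.α i w + S.α l w + (S.α' j w + S.α' j w) := by abel
      _ = _ := by rw [add_self_eq_zero', add_zero]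
  rw [e6, e6'] at r6
  have r7 := step r6 (S.root' K hT hTM h2 i)
    (by simp [map_add, (S.tv' i).zero, S.cross' i, h0, v1.2, v3.2, hz])
  have e7 : S.e j + S.e' i + S.e' l + S.e i + S.e l + S.e' i = S.e j + S.e' l + S.e i + S.e l := by
    calc _ = S.e j + S.e' l + S.e i + S.e l + (S.e' i + S.e' i) := by abel
      _ = _ := by rw [add_self_eq_zero', add_zero]
  have e7' : S.α j + S.α' i + S.α' l + S.α i + S.α l + S.α' i = S.α j + S.α' l + S.α i + S.α l :=
    LinearMap.ext fun w => by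
    simp only [LinearMap.add_apply]
    calc _ = S.α j w + S.α' l w + S.α i w + S.α l w + (S.α' i w + S.α' i w) := by abel
      _ = _ := by rw [add_self_eq_zero', add_zero]
  rw [e7, e7'] at r7
  have r8 := step r7 (S.root' K hT hTM h2 l)
    (by simp [map_add, (S.tv' l).zero, S.cross' l, v4.2, v6.2, hz])
  have e8 : S.e j + S.e' l + S.e i + S.e l + S.e' l = S.e j + S.e i + S.e l := by
    calc _ = S.e j + S.e i + S.e l + (S.e' l + S.e' l) := by abel
      _ = _ := by rw [add_self_eq_zero', add_zero]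
  have e8' : S.α j + S.α' l + S.α i + S.α l + S.α' l = S.α j + S.α i + S.α l :=
    LinearMap.ext fun w => by
    simp only [LinearMap.add_apply]
    calc _ = S.α j w + S.α i w + S.α l w + (S.α' l w + S.α' l w) := by abel
      _ = _ := by rw [add_self_eq_zero', add_zero]
  rw [e8, e8'] at r8
  obtain ⟨m, hm⟩ := root_mem K hT hTM h2 S r8 (fun D => by simp [LinearMap.add_apply, ae])
    (fun D => by simp [map_add, ae])
  by_cases hmi : m = i
  · subst hmi
    have := congrArg (S.α' l) hm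
    rw [map_add, map_add, v6.2, v4.2, S.cross' l] at this
    simp at this
  · have := congrArg (S.α' i) hm
    rw [map_add, map_add, v1.2, v3.2, S.cross' i, (z (Ne.symm hmi)).2] at this
    simp at this

theorem rel_equiv : Equivalence (rel S) where
  refl D := Or.inl rfl
  symm {D E} h := h.imp Eq.symm fun h => by rw [alpha'_symm K hT hTM h2 S, h]
  trans h h' := rel_trans K hT hTM h2 S h h'

end Sys

end Cfsg.Agent.OffBlock
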