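import Cfsg.Agent.Lib.PushUp.OffBlock.Linear
import Mathlib.LinearAlgebra.Basis.VectorSpace

/-!
# Members of order two are transvections

Two commuting ones have different centres and hyperplanes, and for any two the two cross values agree.
-/

set_option autoImplicit false

namespace Cfsg.Agent.OffBlock

open Cfsg Cfsg.Agent Cfsg.Agent.Fusion Cfsg.Agent.BestOff
open Cfsg.Agent.OffProd (cen off cjS stab sub_mem_cen act_mem_fixed act_mem_cen fixed_anti cen_mono)

universe u v

variable {P : Type u} [Group P] {X : Type v} [AddCommGroup X] [Module (ZMod 2) X] (φ : P →* AddMonoid.End X)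

/-- `c` is the transvection with centre `e` and functional `α`. -/
structure Tv (c : P) (e : X) (α : X →ₗ[ZMod 2] ZMod 2) : Prop where
  act : ∀ v, φ c v = v + α v • e
  ne : e ≠ 0
  zero : α e = 0
  surj : ∃ v, α v = 1

variable {φ}

theorem zmod2_one_add_one : (1 : ZMod 2) + 1 = 0 := by decide

theorem zmod2_cases (a : ZMod 2) : a = 0 ∨ a = 1 := by
  revert a; decide

omit [Module (ZMod 2) X] in
theorem add_self_eq_zero' [Module (ZMod 2) X] (x : X) : x + x = 0 := by
  have h : ((1 : ZMod 2) + 1) • x = 0 := by rw [show (1 : ZMod 2) + 1 = 0 by decide, zero_smul]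
  rwa [add_smul, one_smul] at h

theorem Tv.act_one' {c : P} {e : X} {α : X →ₗ[ZMod 2] ZMod 2} (h : Tv φ c e α) {v : X} (hv : α v = 1) :
    φ c v = v + e := by rw [h.act, hv, one_smul]

theorem Tv.unique {c : P} {e e' : X} {α α' : X →ₗ[ZMod 2] ZMod 2} (h : Tv φ c e α) (h' : Tv φ c e' α') :
    e = e' ∧ α = α' := by
  have key : ∀ v, α v • e = α' v • e' := fun v => add_left_cancel ((h.act v).symm.trans (h'.act v))
  obtain ⟨v, hv⟩ := h.surj
  have h1 := key v
  rw [hv, one_smul] at h1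
  rcases zmod2_cases (α' v) with h2 | h2 <;> rw [h2] at h1
  · rw [zero_smul] at h1
    exact absurd h1 h.ne
  rw [one_smul] at h1
  refine ⟨h1, LinearMap.ext fun w => ?_⟩
  have h3 := key w
  rw [← h1] at h3
  rcases zmod2_cases (α w) with a | a <;> rcases zmod2_cases (α' w) with b | b <;> rw [a, b] at h3 ⊢
  · rw [zero_smul, one_smul] at h3; exact absurd h3.symm h.ne
  · rw [zero_smul, one_smul] at h3; exact absurd h3 h.ne

theorem Tv.eq (hfaith : ∀ g, (∀ v, φ g v = v) → g = 1) {c c' : P} {e : X} {α : X →ₗ[ZMod 2] ZMod 2}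
    (h : Tv φ c e α) (h' : Tv φ c' e α) : c = c' := by
  refine (inv_mul_eq_one.1 (hfaith _ fun v => ?_)).symm
  rw [act_mul, h.act, ← h'.act, act_inv_self]

theorem Tv.sq (hfaith : ∀ g, (∀ v, φ g v = v) → g = 1) {c : P} {e : X} {α : X →ₗ[ZMod 2] ZMod 2}
    (h : Tv φ c e α) : c⁻¹ = c := by
  refine inv_eq_of_mul_eq_one_right (hfaith _ fun v => ?_)
  rw [act_mul, h.act, h.act, map_add, map_smul, h.zero, smul_zero, add_zero, add_assoc, add_self_eq_zero',
    add_zero]

theorem Tv.commute (hfaith : ∀ g, (∀ v, φ g v = v) → g = 1) {c c' : P} {e e' : X}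
    {α α' : X →ₗ[ZMod 2] ZMod 2} (h : Tv φ c e α) (h' : Tv φ c' e' α') (h1 : α e' = 0) (h2 : α' e = 0) :
    Commute c c' := by
  refine commutatorElement_eq_one_iff_commute.1 (hfaith _ fun v => ?_)
  have key : ∀ w, φ (c * c') w = φ (c' * c) w := fun w => by
    rw [act_mul, act_mul, h'.act, h.act, h.act, h'.act, map_add, map_smul, h1, smul_zero, add_zero,
      map_add, map_smul, h2, smul_zero, add_zero]
    abel
  rw [commutatorElement_def, mul_assoc (c * c'), ← mul_inv_rev, act_mul, key, ← act_mul, mul_inv_cancel, act_one]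

theorem Tv.values {c c' : P} {e e' : X} {α α' : X →ₗ[ZMod 2] ZMod 2} (h : Tv φ c e α) (h' : Tv φ c' e' α')
    (hc : Commute c c') (hne : e ≠ e') : α e' = 0 ∧ α' e = 0 := by
  have key : ∀ w, α' w • α e' • e = α w • α' e • e' := fun w => by
    have h1 : φ (c * c') w = φ (c' * c) w := by rw [hc.eq]
    rw [act_mul, act_mul, h'.act, h.act, h.act, h'.act, map_add, map_smul, add_smul,
      map_add, map_smul, add_smul, smul_eq_mul, smul_eq_mul, mul_smul, mul_smul] at h1
    have h2 : w + α' w • e' + α w • e + α' w • α e' • e = w + α' w • e' + α w • e + α w • α' e • e' := by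
      calc w + α' w • e' + α w • e + α' w • α e' • e
          = w + α' w • e' + (α w • e + α' w • α e' • e) := by abel
        _ = w + α w • e + (α' w • e' + α w • α' e • e') := h1
        _ = _ := by abel
    exact add_left_cancel h2
  obtain ⟨v, hv⟩ := h.surj
  obtain ⟨v', hv'⟩ := h'.surj
  have k1 := key v
  have k2 := key v'
  rw [hv, one_smul] at k1
  rw [hv', one_smul] at k2
  rcases zmod2_cases (α e') with a | a <;> rcases zmod2_cases (α' e) with b | b <;>
    simp only [a, b, zero_smul, one_smul, smul_zero] at k1 k2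
  · exact ⟨a, b⟩
  · exact absurd k1.symm h'.ne
  · exact absurd k2 h.ne
  · rcases zmod2_cases (α' v) with d | d <;> simp only [d, zero_smul, one_smul] at k1
    · exact absurd k1.symm h'.ne
    · exact absurd k1 hne

/-- Conjugation of transvections. -/
theorem Tv.conj {c : P} {e : X} {α : X →ₗ[ZMod 2] ZMod 2} (h : Tv φ c e α) (g : P) :
    Tv φ (g * c * g⁻¹) (φ g e) (α.comp ((φ g⁻¹ : X →+ X).toZModLinearMap 2)) where
  act v := by
    show φ (g * c * g⁻¹) v = v + α (φ g⁻¹ v) • φ g e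
    rw [act_mul, act_mul, h.act, map_add, act_self_inv, ZMod.map_smul]
  ne he := h.ne (by
    have := congrArg (φ g⁻¹) he
    rwa [act_inv_self, map_zero] at this)
  zero := by show α (φ g⁻¹ (φ g e)) = 0; rw [act_inv_self, h.zero]
  surj := by
    obtain ⟨v, hv⟩ := h.surj
    exact ⟨φ g v, by show α (φ g⁻¹ (φ g v)) = 1; rw [act_inv_self, hv]⟩

/-- A transvection conjugated by another. -/
theorem Tv.conj_tv (hfaith : ∀ g, (∀ v, φ g v = v) → g = 1) {c z : P} {e d : X}
    {α β : X →ₗ[ZMod 2] ZMod 2} (h : Tv φ c e α) (hz : Tv φ z d β) (h1 : α d = 1) (h2 : β e = 1) :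
    Tv φ (z * c * z⁻¹) (e + d) (α + β) := by
  have h' := h.conj z
  have e1 : φ z e = e + d := hz.act_one' h2
  have e2 : α.comp ((φ z⁻¹ : X →+ X).toZModLinearMap 2) = α + β := LinearMap.ext fun v => by
    show α (φ z⁻¹ v) = α v + β v
    rw [hz.sq hfaith, hz.act, map_add, map_smul, h1, smul_eq_mul, mul_one]
  rwa [e1, e2] at h'

variable [Finite P] [Finite X] {M T : Subgroup P}

omit [Module (ZMod 2) X] in
theorem Mem.eq_or {D : Subgroup P} (hcard : Nat.card D = 2) {c x : P} (hc : c ∈ D) (hc1 : c ≠ 1) (hx : x ∈ D) :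
    x = 1 ∨ x = c := by
  obtain ⟨a, b, hab, hu⟩ := Nat.card_eq_two_iff.1 hcard
  have key : ∀ y : D, y = a ∨ y = b := fun y => by
    have : y ∈ ({a, b} : Set D) := hu ▸ Set.mem_univ y
    simpa using this
  by_contra hcon
  simp only [not_or] at hcon
  rcases key ⟨c, hc⟩ with h1 | h1 <;> rcases key ⟨x, hx⟩ with h2 | h2 <;> rcases key 1 with h3 | h3
  all_goals first
    | exact hcon.2 (congrArg Subtype.val (h2.trans h1.symm))
    | exact hcon.1 (congrArg Subtype.val (h2.trans h3.symm))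
    | exact hc1 (congrArg Subtype.val (h1.trans h3.symm))

namespace Ctx

variable [hp : Fact (Nat.Prime 2)] (K : Ctx φ 2 M)
include K

theorem exists_tv {D : Subgroup P} (hD : Mem φ 2 D) (hcard : Nat.card D = 2) :
    ∃ c e α, c ∈ D ∧ c ≠ 1 ∧ Tv φ c e α := by
  classical
  obtain ⟨T, R, F⟩ := K.exists_frame hD
  obtain ⟨C, hC, hCT⟩ := F.exists_cls
  have hidx : (fixed φ D).index = 2 := by
    have h1 : (fixed φ D).index ≠ 1 := fun h => hD.ne (eq_bot_of_fixed_top φ K.faithful fun w => by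
      rw [AddSubgroup.index_eq_one.1 h]; exact AddSubgroup.mem_top w)
    have h0 : (fixed φ D).index ≠ 0 := AddSubgroup.index_ne_zero_of_finite
    have h2 : (fixed φ D).index ≤ 2 := by
      refine Nat.le_of_mul_le_mul_right ?_ (Nat.card_pos (α := fixed φ D))
      rw [AddSubgroup.index_mul_card, ← hcard]
      exact hD.le_off
    omega
  obtain ⟨c, hc, hc1⟩ := (Subgroup.bot_or_exists_ne_one D).resolve_left hD.ne
  obtain ⟨v₀, hv₀⟩ : ∃ v, v ∉ fixed φ D := by
    by_contra h
    push Not at h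
    exact hD.ne (eq_bot_of_fixed_top φ K.faithful h)
  let α : X →+ ZMod 2 := AddMonoidHom.mk' (fun v => if v ∈ fixed φ D then 0 else 1) fun a b => by
    have h2 := AddSubgroup.add_mem_iff_of_index_two hidx (a := a) (b := b)
    by_cases ha : a ∈ fixed φ D <;> by_cases hb : b ∈ fixed φ D <;>
      simp [ha, hb, h2, zmod2_one_add_one]
  have hfix : ∀ v, v ∈ fixed φ D ↔ φ c v = v := fun v => ⟨fun h => h c hc, fun h d hd => by
    rcases Mem.eq_or hcard hc hc1 hd with rfl | rfl
    · exact act_one φ v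
    · exact h⟩
  refine ⟨c, φ c v₀ - v₀, α.toZModLinearMap 2, hc, hc1, ⟨fun v => ?_, fun h => hv₀ ?_, ?_, ⟨v₀, if_neg hv₀⟩⟩⟩
  · show φ c v = v + α v • _
    by_cases hv : v ∈ fixed φ D
    · rw [show α v = 0 from if_pos hv, zero_smul, add_zero, (hfix v).1 hv]
    · rw [show α v = 1 from if_neg hv, one_smul]
      have h1 : v + -v₀ ∈ fixed φ D :=
        (AddSubgroup.add_mem_iff_of_index_two hidx).2 (iff_of_false hv (fun h => hv₀ (by simpa using h)))
      have h2 := (hfix _).1 h1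
      rw [map_add, map_neg, ← sub_eq_add_neg, ← sub_eq_add_neg, sub_eq_sub_iff_sub_eq_sub] at h2
      rw [← h2, add_sub_cancel]
  · rw [hfix, ← sub_eq_zero]; exact h
  · show α _ = 0
    exact if_pos (hD.quad K.exp K.faithful c hc v₀)

variable (hT : SylIn 2 T ⊤) (hTM : T ≤ M) (h2 : ∀ D : Subgroup P, Mem φ 2 D → Nat.card D = 2)
include hT hTM h2

/-- Distinct commuting members have different centres and functionals. -/
theorem tv_comm {D D' : Subgroup P} (hD : Mem φ 2 D) (hD' : Mem φ 2 D') (hne : D ≠ D') {c c' : P}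
    {e e' : X} {α α' : X →ₗ[ZMod 2] ZMod 2} (hc : c ∈ D) (hc1 : c ≠ 1) (hc' : c' ∈ D') (hc'1 : c' ≠ 1)
    (h : Tv φ c e α) (h' : Tv φ c' e' α') (hcom : Commute c c') :
    e ≠ e' ∧ α ≠ α' ∧ α e' = 0 ∧ α' e = 0 := by
  have hcen : ∀ x ∈ D, ∀ y ∈ D', Commute x y := fun x hx y hy => by
    rcases Mem.eq_or (h2 D hD) hc hc1 hx with rfl | rfl
    · exact Commute.one_left y
    rcases Mem.eq_or (h2 D' hD') hc' hc'1 hy with rfl | rfl
    · exact Commute.one_right x
    exact hcom
  have hP : IsPGroup 2 (D ⊔ D' : Subgroup P) := hD.isP.to_sup_of_normal_right' hD'.isP fun x hx =>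
    Subgroup.centralizer_le_normalizer _ (Subgroup.mem_centralizer_iff.2 fun y hy => (hcen x hx y hy).eq.symm)
  obtain ⟨g, -, hg⟩ := hT.conj_le hP le_top
  have h0 := h.conj g
  have h0' := h'.conj g
  have hE : Fusion.cj D g ∈ mems φ 2 T := ⟨hD.cj g, (cj_mono le_sup_left g).trans hg⟩
  have hE' : Fusion.cj D' g ∈ mems φ 2 T := ⟨hD'.cj g, (cj_mono le_sup_right g).trans hg⟩
  have hne' : Fusion.cj D' g ≠ Fusion.cj D g := fun e => hne (by
    have := congrArg (fun A => Fusion.cj A g⁻¹) e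
    simpa only [cj_cj_inv] using this.symm)
  have hy : φ g e' ∈ fixed φ (Hb φ 2 T (Fusion.cj D g)) := by
    refine K.cen_le hT hTM hE hE' hne' ?_
    obtain ⟨v, hv⟩ := h0'.surj
    have := h0'.act_one' hv
    rw [← add_sub_cancel_left v (φ g e'), ← this]
    exact sub_mem_cen φ (conj_mem_cj hc') v
  obtain ⟨N, -, -⟩ := K.blk hT hTM hE
  have hn1 : g * c * g⁻¹ ≠ 1 := fun h => hc1 (by simpa [mul_eq_one_iff_eq_inv] using h)
  have hne_e : e ≠ e' := by
    intro he
    obtain ⟨v, hv⟩ := h0.surj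
    have hv' : φ (g * c * g⁻¹) v - v ∈ fixed φ (Hb φ 2 T (Fusion.cj D g)) := by
      rw [h0.act_one' hv, add_sub_cancel_left, he]
      exact hy
    have h3 := N.free _ (conj_mem_cj hc) hn1 v hv' _ (conj_mem_cj hc)
    rw [h0.act_one' hv, add_eq_left] at h3
    exact h0.ne h3
  refine ⟨hne_e, fun hα => ?_, h.values h' hcom hne_e⟩
  obtain ⟨x, hx, -⟩ := K.exists_rot_of hT hTM hE
  obtain ⟨v, hv⟩ := h0.surj
  obtain ⟨u, hu, hw⟩ := hx.split K.exp v
  have h3 := K.plane_le_member hT hTM hE hE' hne' hx.mem hu _ (conj_mem_cj hc')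
  rw [h0'.act, ← hα, add_eq_left] at h3
  set β := α.comp ((φ g⁻¹ : X →+ X).toZModLinearMap 2)
  have hu0 : β u = 0 := by
    rcases zmod2_cases (β u) with h4 | h4
    · exact h4
    · rw [h4, one_smul] at h3; exact absurd h3 h0'.ne
  have h5 := hw _ (N.C_le (conj_mem_cj hc))
  rw [h0.act, add_eq_left, map_sub, hu0, sub_zero, hv, one_smul] at h5
  exact h0.ne h5

/-- For any two members the cross values agree. -/
theorem tv_symm {D D' : Subgroup P} (hD : Mem φ 2 D) (hD' : Mem φ 2 D') {c c' : P}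
    {e e' : X} {α α' : X →ₗ[ZMod 2] ZMod 2} (hc : c ∈ D) (hc1 : c ≠ 1) (hc' : c' ∈ D') (hc'1 : c' ≠ 1)
    (h : Tv φ c e α) (h' : Tv φ c' e' α') : α e' = α' e := by
  suffices ∀ {D D' : Subgroup P}, Mem φ 2 D → Mem φ 2 D' → ∀ {c c' : P} {e e' : X}
      {α α' : X →ₗ[ZMod 2] ZMod 2}, c ∈ D → c ≠ 1 → c' ∈ D' → c' ≠ 1 → Tv φ c e α → Tv φ c' e' α' →
      α e' = 0 → α' e = 0 by
    rcases zmod2_cases (α e') with a | a <;> rcases zmod2_cases (α' e) with b | b <;> rw [a, b]
    · have := this hD hD' hc hc1 hc' hc'1 h h' a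
      rw [b] at this; exact this.symm
    · have := this hD' hD hc' hc'1 hc hc1 h' h b
      rw [a] at this; exact this
  intro D D' hD hD' c c' e e' α α' hc hc1 hc' hc'1 h h' a
  rcases zmod2_cases (α' e) with b | b
  · exact b
  exfalso
  have h'' := h.conj c'
  rw [h'.act_one' b] at h''
  have hα : α.comp ((φ c'⁻¹ : X →+ X).toZModLinearMap 2) = α := LinearMap.ext fun v => by
    show α (φ c'⁻¹ v) = α v
    rw [h'.sq K.faithful, h'.act, map_add, map_smul, a, smul_zero, add_zero]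
  rw [hα] at h''
  have hne : D ≠ Fusion.cj D c' := fun eq => by
    have hmem : c' * c * c'⁻¹ ∈ D := eq ▸ conj_mem_cj hc
    rcases Mem.eq_or (h2 D hD) hc hc1 hmem with h3 | h3
    · exact hc1 (by simpa [mul_eq_one_iff_eq_inv] using h3)
    · rw [h3] at h''
      exact h'.ne (add_eq_left.1 (h''.unique h).1)
  have hn1 : c' * c * c'⁻¹ ≠ 1 := fun h3 => hc1 (by simpa [mul_eq_one_iff_eq_inv] using h3)
  exact (K.tv_comm hT hTM h2 hD (hD.cj c') hne hc hc1 (conj_mem_cj hc) hn1 h h''
    (h.commute K.faithful h'' (by rw [map_add, h.zero, a, add_zero]) h.zero)).2.1 rfl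

end Ctx

end Cfsg.Agent.OffBlock
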