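import Cfsg.Agent.Lib.PushUp.OffBlock.Spread
import Cfsg.Agent.Lib.PushUp.OffProd.Classes

/-!
# A frame's class has one member at each point

The kernel of the action on the points centralizes the natural `SL₂` of the class.
-/

set_option autoImplicit false

namespace Cfsg.Agent.OffBlock

open Cfsg Cfsg.Agent Cfsg.Agent.Fusion Cfsg.Agent.BestOff
open Cfsg.Agent.OffProd (cen off cjS stab sub_mem_cen act_mem_fixed act_mem_cen fixed_anti cen_mono off_eq_meas
  off_bot card_fixed_cj off_cj cjS_one cjS_cjS ncard_cjS mem_cjS mem_stab cj_mem_of_stab mem_stab_of_maps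
  le_normalizer_sSup stab_cjS kerN kerN_le_M stab_le_normalizer_kerN)

universe u v

variable {P : Type u} [Group P] {X : Type v} [AddCommGroup X] {φ : P →* AddMonoid.End X} {p : ℕ}
variable [Finite P] [Finite X] [hp : Fact p.Prime] {M : Subgroup P}

namespace Frame

variable {T : Subgroup P} {R : Set (Subgroup P)} (F : Frame φ p M T R)
include F

omit [Finite X] in
theorem cl_of_mems {C : Subgroup P} (hC : C ∈ mems φ p T) (hCR : C ∉ R) (hCs : C ≤ stab R) :
    Cl φ p M R C 1 :=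
  ⟨hC.1, hCs, hCR, one_mem _, by rw [cj_one]; exact hC.2.trans F.le_M⟩

omit [Finite X] in
theorem exists_cls : ∃ C, Cl φ p M R C 1 ∧ C ≤ T := by
  obtain ⟨C, hC, hCR, hCs⟩ := F.exC
  exact ⟨C, F.cl_of_mems hC hCR hCs, hC.2⟩

omit [Finite X] in
/-- The members of the frame fix all the points. -/
theorem le_kerN {D : Subgroup P} (hD : D ∈ R) : D ≤ T ⊓ kerN M R := fun d hd =>
  ⟨(F.sub hD).2 hd, F.le_stab D hD hd, fun _ hg => mem_cj.1 (F.le_cj_M hg hD hd)⟩

omit [Finite X] in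
theorem normalizes_Q₀ : T ⊓ stab R ≤ Subgroup.normalizer ((T ⊓ kerN M R : Subgroup P) : Set P) :=
  fun _ hx => mem_normalizer_iff_cj.2 (by
    rw [cj_inf, cj_eq_self_of_mem hx.1, cj_eq_self (stab_le_normalizer_kerN hx.2)])

variable (K : Ctx φ p M)
include K

/-- A natural `SL₂` for `C` normalizing `T ∩ K₀`. -/
theorem exists_natH₀ {C : Subgroup P} (hC : Cl φ p M R C 1) (hCT : C ≤ T) :
    ∃ H, H ≤ stab R ⊓ Subgroup.normalizer ((T ⊓ kerN M R : Subgroup P) : Set P) ∧ Nat2 φ M C H := by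
  obtain ⟨n, hn, hnM⟩ := F.out
  have hsyl : SylIn p (T ⊓ kerN M R) (kerN M R) := by
    have := F.sylN.inf_normal (N := kerN M R) (fun _ h => h.1) stab_le_normalizer_kerN
    rwa [inf_assoc, inf_eq_right.2 (show kerN M R ≤ stab R from fun _ h => h.1)] at this
  obtain ⟨k, hk, hkn⟩ := frattini_conj hsyl stab_le_normalizer_kerN hn
  exact F.exists_natH K hC.mem hC.not_mem (hCT.trans F.le_M)
    (le_inf hC.le_stab ((le_inf hCT hC.le_stab).trans F.normalizes_Q₀)) inf_le_left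
    (y₀ := k * n) ⟨mul_mem hk.1 hn, hkn⟩ fun h => hnM (by simpa using mul_mem (inv_mem (kerN_le_M hk)) h)

omit K in
/-- The fixed vectors of `H` are those common to two of its members. -/
theorem fixedH_eq {C H : Subgroup P} (N : Nat2 φ M C H) {h : P} (hh : h ∈ H) (hhM : h ∉ M) :
    fixed φ H = fixed φ C ⊓ fixed φ (Fusion.cj C h) := by
  rw [← fixed_sup, N.gen h hh hhM]

section Plane

variable {C H : Subgroup P} (hC : Cl φ p M R C 1) (hCT : C ≤ T)
  (hH : H ≤ stab R ⊓ Subgroup.normalizer ((T ⊓ kerN M R : Subgroup P) : Set P)) (N : Nat2 φ M C H)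
include hC hCT hH N

omit K in
theorem Q₀_inv {g : P} (hg : g ∈ H) {v : X} (hv : v ∈ fixed φ (T ⊓ kerN M R)) :
    φ g v ∈ fixed φ (T ⊓ kerN M R) := by
  have := act_mem_fixed φ g hv
  rwa [cj_eq_self (hH hg).2] at this

/-- The vectors fixed by `T ∩ K₀` cover the module modulo those fixed by `H`. -/
theorem plane_top : fixed φ (T ⊓ kerN M R) ⊔ fixed φ H = ⊤ := by
  set Y := fixed φ (T ⊓ kerN M R)
  obtain ⟨h, hh, hhM⟩ := N.exH
  obtain ⟨z, hz, hzm⟩ := K.moved T F.syl F.le_M h hhM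
  have hzY : z ∈ Y := fixed_anti φ inf_le_left hz
  have hzC : z ∈ fixed φ C := fixed_anti φ hCT hz
  have hne : φ h z ∉ fixed φ C := fun e => hzm (by
    have h1 : φ h z ∈ fixed φ H := (F.fixedH_eq N hh hhM).ge ⟨e, act_mem_fixed φ h hzC⟩
    have h2 := h1 h⁻¹ (inv_mem hh)
    rw [act_inv_self] at h2
    exact h2.symm)
  have hB' := hC.move (hH hh).1
  have hab : (1 : P)⁻¹ * (h * 1) ∉ M := by simpa using hhM
  have hFC : fixed φ C ≤ Y ⊔ fixed φ H := fun l hl => by
    rcases F.cover K hC hB' hab (l + φ h z) with hv | ⟨c, hc, hv⟩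
    · exact absurd ((add_mem_cancel_left hl).1 hv) hne
    · rw [cj_cj] at hv
      have hch : c * h ∈ H := mul_mem (N.C_le hc) hh
      have hchM : c * h ∉ M := fun h' => hhM (by simpa using mul_mem (inv_mem (F.le_M (hCT hc))) h')
      have h1 : φ (c * h) z ∈ fixed φ (Fusion.cj C (c * h)) := act_mem_fixed φ _ hzC
      have h2 : φ c (φ h z) - φ h z ∈ fixed φ C := hC.mem.quad K.exp K.faithful c hc _
      have h3 : l - (φ c (φ h z) - φ h z) ∈ fixed φ H := (F.fixedH_eq N hch hchM).ge ⟨(fixed φ C).sub_mem hl h2, by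
        have := sub_mem hv h1
        rwa [act_mul, show l + φ h z - φ c (φ h z) = l - (φ c (φ h z) - φ h z) by abel] at this⟩
      rw [← sub_add_cancel l (φ c (φ h z) - φ h z)]
      exact add_mem (AddSubgroup.mem_sup_right h3) (AddSubgroup.mem_sup_left
        (sub_mem (F.Q₀_inv hC hCT hH N (N.C_le hc) (F.Q₀_inv hC hCT hH N hh hzY))
          (F.Q₀_inv hC hCT hH N hh hzY)))
  refine top_le_iff.1 ((F.pair K hC hB' hab).2.1.ge.trans (sup_le hFC fun v hv => ?_))
  obtain ⟨y, hy, w, hw, e⟩ := AddSubgroup.mem_sup.1 (hFC ((mem_fixed_cj φ).1 hv))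
  refine AddSubgroup.mem_sup.2 ⟨φ h y, F.Q₀_inv hC hCT hH N hh hy, w, hw, ?_⟩
  have := congrArg (φ h) e
  rwa [map_add, act_self_inv, hw h hh] at this

/-- `T ∩ K₀` fixes the commutators of `C`. -/
theorem cen_le_Q₀ : cen φ C ≤ fixed φ (T ⊓ kerN M R) := by
  refine (AddSubgroup.closure_le _).2 ?_
  rintro _ ⟨v, c, hc, rfl⟩
  obtain ⟨y, hy, w, hw, rfl⟩ := AddSubgroup.mem_sup.1 ((F.plane_top K hC hCT hH N).ge (AddSubgroup.mem_top v))
  rw [map_add, hw c (N.C_le hc), add_sub_add_right_eq_sub]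
  exact sub_mem (F.Q₀_inv hC hCT hH N (N.C_le hc) hy) hy

end Plane

theorem card_same {B C : Subgroup P} (hB : Cl φ p M R B 1) (hC : Cl φ p M R C 1) :
    Nat.card B = Nat.card C := by
  obtain ⟨B', b, hB', hab⟩ := F.exists_other K hB
  exact (F.card_eq K hB hB' hab).trans (F.card_eq K hC hB' hab).symm

/-- An element of `T` centralizing `C` agrees with one of `C` on all the points. -/
theorem exists_match {C : Subgroup P} (hC : Cl φ p M R C 1) (hCT : C ≤ T) {x : P} (hxT : x ∈ T)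
    (hxs : x ∈ stab R) (hxC : ∀ c ∈ C, Commute x c) : ∃ c ∈ C, c⁻¹ * x ∈ T ⊓ kerN M R := by
  obtain ⟨h, hh, hhM⟩ := F.out
  have hxh : x * h ∉ M := fun e => hhM (by simpa using mul_mem (inv_mem (F.le_M hxT)) e)
  obtain ⟨c, hc, hcx⟩ := (F.class_cases K hC hh hhM (mul_mem hxs hh)).resolve_left hxh
  refine ⟨c, hc, mul_mem (T.inv_mem (hCT hc)) hxT, mul_mem ((stab R).inv_mem (hC.le_stab hc)) hxs, fun g hg => ?_⟩
  have hy : c⁻¹ * x ∈ M := mul_mem (M.inv_mem (F.le_M (hCT hc))) (F.le_M hxT)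
  rcases F.class_cases K hC hh hhM hg with hgM | ⟨d, hd, hdg⟩
  · exact mul_mem (mul_mem (M.inv_mem hgM) hy) hgM
  · have hcd : Commute (c⁻¹ * x) d := ((hC.mem.comm c hc d hd).inv_left).mul_left (hxC d hd)
    have e1 : h⁻¹ * (c⁻¹ * x) * h ∈ M := by simpa [mul_assoc] using hcx
    have e2 : g⁻¹ * (c⁻¹ * x) * g = ((d * h)⁻¹ * g)⁻¹ * (h⁻¹ * (d⁻¹ * ((c⁻¹ * x) * d)) * h) * ((d * h)⁻¹ * g) := by
      group
    rw [e2, hcd.eq, inv_mul_cancel_left]
    exact mul_mem (mul_mem (M.inv_mem hdg) e1) hdg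

/-- The frame's class has one member inside `T`. -/
theorem cls_unique {B C : Subgroup P} (hB : Cl φ p M R B 1) (hBT : B ≤ T) (hC : Cl φ p M R C 1) (hCT : C ≤ T) :
    B = C := by
  obtain ⟨H, hH, N⟩ := F.exists_natH₀ K hC hCT
  obtain ⟨HB, hHB, NB⟩ := F.exists_natH₀ K hB hBT
  obtain ⟨h, hh, hhM⟩ := N.exH
  have hBC := F.commute_same K hB hC
  choose f hf hf' using fun b : B => F.exists_match K hC hCT (hBT b.2) (hB.le_stab b.2)
    (hBC b b.2)
  set Y := fixed φ (T ⊓ kerN M R) with hY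
  set W := fixed φ H with hW
  have hWC : W ≤ fixed φ C := fixed_anti φ N.C_le
  have hplane := F.plane_top K hC hCT hH N
  have hcard := F.card_same K hB hC
  by_cases hWB : W ≤ fixed φ B
  · refine Subgroup.eq_of_le_of_card_ge (fun b hb => ?_) hcard.ge
    have h1 : (f ⟨b, hb⟩)⁻¹ * b = 1 := K.faithful _ fun v => by
      obtain ⟨y, hy, w, hw, rfl⟩ := AddSubgroup.mem_sup.1 (hplane.ge (AddSubgroup.mem_top v))
      rw [map_add, hy _ (hf' ⟨b, hb⟩), act_mul, hWB hw b hb, hWC hw _ (C.inv_mem (hf _))]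
    rw [← inv_mul_eq_one.1 h1]
    exact hf ⟨b, hb⟩
  exfalso
  have hBh : Cl φ p M R (Fusion.cj B h) (h * 1) := hB.move (hH hh).1
  have hab : (1 : P)⁻¹ * (h * 1) ∉ M := by simpa using hhM
  have hfree := (F.pair K hB hBh hab).2.2
  have hinWB : ∀ u ∈ W, u ∈ fixed φ B → u ∈ fixed φ B ⊓ fixed φ (Fusion.cj B h) := fun u hu hu' =>
    ⟨hu', (mem_fixed_cj φ).2 (by rw [hu _ (inv_mem hh)]; exact hu')⟩
  have hdisj : B ⊓ C = ⊥ := by
    by_contra hne
    obtain ⟨c₀, ⟨hc₀B, hc₀C⟩, hc₀⟩ := (Subgroup.bot_or_exists_ne_one (B ⊓ C)).resolve_left hne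
    exact hWB fun w hw => hfree c₀ hc₀B hc₀ w (by rw [hWC hw c₀ hc₀C, sub_self]; exact zero_mem _)
  set E := (B ⊔ C) ⊓ (T ⊓ kerN M R) with hE
  have hcomm : ∀ a ∈ B ⊔ C, ∀ c ∈ C, Commute a c := by
    intro a ha c hc
    have hle : B ⊔ C ≤ Subgroup.centralizer (C : Set P) := sup_le
      (fun b hb => Subgroup.mem_centralizer_iff.2 fun x hx => (hBC b hb x hx).eq.symm)
      (fun b hb => Subgroup.mem_centralizer_iff.2 fun x hx => (hC.mem.comm x hx b hb).eq)
    exact (Subgroup.mem_centralizer_iff.1 (hle ha) c hc).symm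
  let y : B → E := fun b => ⟨(f b)⁻¹ * b,
    mul_mem (Subgroup.mem_sup_right (C.inv_mem (hf b))) (Subgroup.mem_sup_left b.2), hf' b⟩
  have hinj : Function.Injective y := fun a b e => by
    have e' : (f a)⁻¹ * (a : P) = (f b)⁻¹ * b := congrArg Subtype.val e
    have h2 : (b : P) * (a : P)⁻¹ = f b * (f a)⁻¹ := by
      calc (b : P) * (a : P)⁻¹ = f b * ((f b)⁻¹ * b) * (a : P)⁻¹ := by group
        _ = f b * ((f a)⁻¹ * a) * (a : P)⁻¹ := by rw [e']
        _ = _ := by group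
    have : (b : P) * (a : P)⁻¹ ∈ B ⊓ C :=
      Subgroup.mem_inf.2 ⟨mul_mem b.2 (inv_mem a.2), h2 ▸ mul_mem (hf b) (C.inv_mem (hf a))⟩
    rw [hdisj, Subgroup.mem_bot, mul_inv_eq_one] at this
    exact (Subtype.ext this).symm
  have hcardE : Nat.card B ≤ Nat.card E := Nat.card_le_card_of_injective y hinj
  set Z := Y ⊔ (W ⊓ fixed φ B) with hZ
  have hZE : Z ≤ fixed φ E := sup_le (fixed_anti φ inf_le_right) fun v hv =>
    fixed_anti φ inf_le_left ((fixed_sup φ B C).ge ⟨hv.2, hWC hv.1⟩)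
  have hZh : ∀ v ∈ Z, φ h⁻¹ v ∈ Z := fun v hv => by
    obtain ⟨a, ha, w, hw, rfl⟩ := AddSubgroup.mem_sup.1 hv
    rw [map_add, hw.1 _ (inv_mem hh)]
    exact AddSubgroup.mem_sup.2 ⟨_, F.Q₀_inv hC hCT hH N (inv_mem hh) ha, w, hw, rfl⟩
  have hidx : Z.index ≤ Nat.card B := by
    have htop : W ⊔ Z = ⊤ := top_le_iff.1 (hplane.ge.trans (sup_le (le_sup_left.trans le_sup_right) le_sup_left))
    rw [← AddSubgroup.relIndex_top_right, ← htop, AddSubgroup.relIndex_sup_right, ← F.index_eq K hB,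
      ← AddSubgroup.relIndex_top_right (H := fixed φ B)]
    calc Z.relIndex W ≤ (W ⊓ fixed φ B).relIndex W :=
          AddSubgroup.relIndex_le_of_le_left le_sup_right AddSubgroup.index_ne_zero_of_finite
      _ = (fixed φ B).relIndex W := AddSubgroup.inf_relIndex_left _ _
      _ ≤ _ := AddSubgroup.relIndex_le_of_le_right le_top AddSubgroup.index_ne_zero_of_finite
  set E' := Fusion.cj E h
  have hE'Q : E' ≤ T ⊓ kerN M R :=
    (cj_mono inf_le_right h).trans (cj_eq_self (hH hh).2).le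
  have hEE : E ⊔ E' ≤ T ⊓ kerN M R := sup_le inf_le_right hE'Q
  have hZEE : Z ≤ fixed φ (E ⊔ E') := by
    rw [fixed_sup]
    exact le_inf hZE fun v hv => (mem_fixed_cj φ).2 (hZE (hZh v hv))
  -- the displacements lie in `Y`
  let S : Subgroup P :=
    { carrier := {x | ∀ v, φ x v - v ∈ Y}
      one_mem' := fun v => by rw [act_one, sub_self]; exact zero_mem _
      mul_mem' := fun {a b} ha hb v => by
        rw [act_mul, show φ a (φ b v) - v = (φ a (φ b v) - φ b v) + (φ b v - v) by abel]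
        exact add_mem (ha _) (hb v)
      inv_mem' := fun {a} ha v => by
        have := ha (φ a⁻¹ v)
        rw [act_self_inv] at this
        simpa using neg_mem this }
  have hES : E ≤ S := inf_le_left.trans (sup_le
    (fun b hb v => F.cen_le_Q₀ K hB hBT hHB NB (sub_mem_cen φ hb v))
    (fun c hc v => F.cen_le_Q₀ K hC hCT hH N (sub_mem_cen φ hc v)))
  have hE'S : E' ≤ S := by
    intro x hx v
    have h1 := F.Q₀_inv hC hCT hH N hh (hES (mem_cj.1 hx) (φ h⁻¹ v))
    rwa [map_sub, ← act_mul, ← act_mul, act_self_inv, show h * (h⁻¹ * x * h) * h⁻¹ = x by group] at h1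
  have hab' : ∀ a ∈ E ⊔ E', ∀ b ∈ E ⊔ E', Commute a b := by
    intro a ha b hb
    refine commutatorElement_eq_one_iff_commute.1 (K.faithful _ fun v => ?_)
    have key : ∀ w, φ (a * b) w = φ (b * a) w := fun w => by
      have a1 : φ b (φ a w - w) = φ a w - w := sup_le hES hE'S ha w b (hEE hb)
      have a2 : φ a (φ b w - w) = φ b w - w := sup_le hES hE'S hb w a (hEE ha)
      rw [map_sub, sub_eq_iff_eq_add] at a1 a2
      rw [act_mul, act_mul, a1, a2]
      abel
    rw [commutatorElement_def, mul_assoc (a * b), ← mul_inv_rev, act_mul, key, ← act_mul, mul_inv_cancel, act_one]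
  have hbest := hB.mem.best (E ⊔ E') (F.syl.isPGroup.to_le (hEE.trans inf_le_left)) hab'
  have hoffB : off φ B = Nat.card X := by
    rw [← AddSubgroup.index_mul_card (fixed φ B), F.index_eq K hB]; rfl
  have hE'E : E ⊔ E' ≤ E := (Subgroup.eq_of_le_of_card_ge le_sup_left ?_).ge
  swap
  · rw [hoffB] at hbest
    refine Nat.le_of_mul_le_mul_right ?_ (Nat.card_pos (α := Z))
    calc Nat.card ↥(E ⊔ E') * Nat.card Z ≤ Nat.card ↥(E ⊔ E') * Nat.card (fixed φ (E ⊔ E')) :=
          Nat.mul_le_mul_left _ (AddSubgroup.card_le_of_le hZEE)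
      _ ≤ Nat.card X := hbest
      _ = Z.index * Nat.card Z := (AddSubgroup.index_mul_card Z).symm
      _ ≤ _ := Nat.mul_le_mul_right _ (hidx.trans hcardE)
  refine hWB fun w hw b hb => ?_
  set e := (f ⟨b, hb⟩)⁻¹ * b with he
  have heE : e ∈ E := (y ⟨b, hb⟩).2
  have hpres : ∀ x ∈ E, φ x w - w ∈ fixed φ C := fun x hx => sub_mem (fun c hc => by
    rw [← act_mul, ← (hcomm x hx.1 c hc).eq, act_mul, hWC hw c hc]) (hWC hw)
  have hcjE : Fusion.cj E h = E :=
    Subgroup.eq_of_le_of_card_ge (le_sup_right.trans hE'E) (card_cj E h).ge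
  have h1 : φ e w - w ∈ W := by
    refine (F.fixedH_eq N hh hhM).ge ⟨hpres e heE, (mem_fixed_cj φ).2 ?_⟩
    have h2 := hpres _ (mem_cj.1 (hcjE.ge heE))
    rwa [act_mul, act_mul, hw h hh, ← hw _ (inv_mem hh) , ← map_sub, hw _ (inv_mem hh)] at h2
  have h3 : φ b w - w = φ e w - w := by
    have h4 := h1
    have h5 : φ (f ⟨b, hb⟩) (φ e w) = φ e w := by
      have h6 := (add_mem (hWC h4) (hWC hw)) _ (hf ⟨b, hb⟩)
      rwa [sub_add_cancel] at h6
    rw [← act_mul, he, mul_inv_cancel_left] at h5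
    rw [h5]
  by_cases hb1 : b = 1
  · rw [hb1, act_one]
  exact hfree b hb hb1 w (hinWB _ (h3 ▸ h1) (hB.mem.quad K.exp K.faithful b hb w)) b hb

/-- The frame's class has one member at each point. -/
theorem cls_eq {B C : Subgroup P} (hB : Cl φ p M R B 1) (hC : Cl φ p M R C 1) (hCT : C ≤ T) : B = C := by
  have hBC : IsPGroup p (B ⊔ C : Subgroup P) := hB.mem.isP.to_sup_of_normal_right' hC.mem.isP fun b hb =>
    Subgroup.centralizer_le_normalizer _ (Subgroup.mem_centralizer_iff.2 fun c hc =>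
      (F.commute_same K hB hC b hb c hc).eq.symm)
  have hp' : IsPGroup p ((B ⊔ C) ⊔ sSup R : Subgroup P) :=
    hBC.to_sup_of_normal_right' F.isP_sSup ((sup_le hB.le_stab hC.le_stab).trans le_normalizer_sSup)
  have hBM : B ≤ M := by simpa [cj_one] using hB.le_cj
  obtain ⟨m, hm, hle⟩ := (F.sylN.mono (le_inf inf_le_right (inf_le_left.trans F.le_M))
      (inf_le_left : stab R ⊓ M ≤ stab R)).conj_le hp'
    (sup_le (sup_le (le_inf hB.le_stab hBM) (le_inf hC.le_stab (hCT.trans F.le_M)))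
      (sSup_le fun D hD => le_inf (F.le_stab D hD) ((F.sub hD).2.trans F.le_M)))
  have hmove : ∀ {D : Subgroup P}, Cl φ p M R D 1 → Cl φ p M R (Fusion.cj D m) 1 := fun hD =>
    (hD.move hm.1).reroot (one_mem _) (by simpa using hm.2)
  have hT : ∀ {D : Subgroup P}, D ≤ B ⊔ C → Fusion.cj D m ≤ T := fun hD =>
    (cj_mono (hD.trans le_sup_left) m).trans (hle.trans inf_le_left)
  have := F.cls_unique K (hmove hB) (hT le_sup_left) (hmove hC) (hT le_sup_right)
  have e := congrArg (fun A => Fusion.cj A m⁻¹) this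
  simpa only [cj_cj_inv] using e

section Class

variable {C H : Subgroup P} (hC : Cl φ p M R C 1) (hCT : C ≤ T) (hH : H ≤ stab R) (N : Nat2 φ M C H)
include hC hCT hH N

/-- `H` contains the whole class. -/
theorem cj_le {n : P} (hn : n ∈ stab R) : Fusion.cj C n ≤ H := by
  obtain ⟨h, hh, hhM⟩ := N.exH
  rcases F.class_cases K hC (hH hh) hhM hn with hnM | ⟨c, hc, hcn⟩
  · rw [F.cls_eq K ((hC.move hn).reroot (one_mem _) (by simpa using hnM)) hC hCT]
    exact N.C_le
  · have hch : c * h ∈ H := mul_mem (N.C_le hc) hh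
    have hm : (c * h)⁻¹ * n ∈ stab R := mul_mem (inv_mem (hH hch)) hn
    rw [show n = c * h * ((c * h)⁻¹ * n) by group, ← cj_cj,
      F.cls_eq K ((hC.move hm).reroot (one_mem _) (by simpa [mul_assoc] using inv_mem hcn)) hC hCT]
    exact (cj_mono N.C_le _).trans (cj_eq_self_of_mem hch).le

/-- `H` is generated by the class. -/
theorem eq_iSup : H = ⨆ g : stab R, Fusion.cj C (g : P) := by
  refine le_antisymm ?_ (iSup_le fun g => F.cj_le K hC hCT hH N g.2)
  obtain ⟨h, hh, hhM⟩ := N.exH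
  nth_rewrite 1 [← N.gen h hh hhM]
  exact sup_le ((cj_one C).ge.trans (le_iSup (fun g : stab R => Fusion.cj C (g : P)) ⟨1, one_mem _⟩))
    (le_iSup (fun g : stab R => Fusion.cj C (g : P)) ⟨h, hH hh⟩)

theorem stab_le_normalizer : stab R ≤ Subgroup.normalizer (H : Set P) := fun n hn =>
  mem_normalizer_of_cj_le (by
    obtain ⟨h, hh, hhM⟩ := N.exH
    nth_rewrite 1 [← N.gen h hh hhM]
    rw [cj_sup, cj_cj]
    exact sup_le (F.cj_le K hC hCT hH N hn) (F.cj_le K hC hCT hH N (mul_mem hn (hH hh))))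

theorem fixedH_inv {n : P} (hn : n ∈ stab R) {w : X} (hw : w ∈ fixed φ H) : φ n w ∈ fixed φ H := by
  have := act_mem_fixed φ n hw
  rwa [cj_eq_self (F.stab_le_normalizer K hC hCT hH N hn)] at this

/-- What fixes all the points centralizes `H`. -/
theorem kerN_commute {n : P} (hn : n ∈ kerN M R) {x : P} (hx : x ∈ H) : Commute n x := by
  have key : ∀ n ∈ kerN M R, ∀ c ∈ C, Commute n c := by
    intro n hn c hc
    have h1 : Fusion.cj C n = C :=
      F.cls_eq K ((hC.move hn.1).reroot (one_mem _) (by simpa using kerN_le_M hn)) hC hCT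
    have h2 : n * c * n⁻¹ ∈ C := h1 ▸ conj_mem_cj hc
    obtain ⟨g, hg, hgM⟩ := F.out
    have hker : (n * c * n⁻¹)⁻¹ * c ∈ kerN M R := by
      rw [show (n * c * n⁻¹)⁻¹ * c = n * (c⁻¹ * n⁻¹ * c⁻¹⁻¹) by group]
      exact mul_mem hn ((Subgroup.mem_normalizer_iff.1
        (stab_le_normalizer_kerN (inv_mem (hC.le_stab hc))) _).1 (inv_mem hn))
    have := F.tc K hC hg (by simpa using hgM) (mul_mem (C.inv_mem h2) hc) (mem_cj.2 (hker.2 g hg))
    rw [inv_mul_eq_one] at this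
    show n * c = c * n
    nth_rewrite 2 [← this]
    group
  obtain ⟨h, hh, hhM⟩ := N.exH
  have hle : H ≤ Subgroup.centralizer (kerN M R : Set P) := by
    rw [← N.gen h hh hhM]
    refine sup_le (fun c hc => Subgroup.mem_centralizer_iff.2 fun m hm => key m hm c hc) fun c hc =>
      Subgroup.mem_centralizer_iff.2 fun m hm => ?_
    have h1 : h⁻¹ * m * h ∈ kerN M R := by
      have := (Subgroup.mem_normalizer_iff.1 (stab_le_normalizer_kerN (inv_mem (hH hh))) m).1 hm
      simpa using this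
    have := (key _ h1 _ (mem_cj.1 hc)).map (MulAut.conj h).toMonoidHom
    simpa [mul_assoc] using this.eq
  exact Subgroup.mem_centralizer_iff.1 (hle hx) n hn

end Class

end Frame

/-- No abelian `p`-subgroup has `|B| |C_X(B)|` over `|X|`. -/
theorem Ctx.off_le (K : Ctx φ p M) {D : Subgroup P} (hD : Mem φ p D) {B : Subgroup P} (hB : IsPGroup p B)
    (hc : ∀ a ∈ B, ∀ b ∈ B, Commute a b) : off φ B ≤ Nat.card X := by
  obtain ⟨T, R, F⟩ := K.exists_frame hD
  obtain ⟨C, hC, -⟩ := F.exists_cls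
  refine (hC.mem.best B hB hc).trans_eq ?_
  rw [← AddSubgroup.index_mul_card (fixed φ C), F.index_eq K hC]; rfl

end Cfsg.Agent.OffBlock
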